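import Mathlib.Algebra.Category.ModuleCat.Sheaf.Colimits
import Mathlib.Algebra.Category.ModuleCat.Presheaf.Colimits
import Mathlib.Algebra.Category.ModuleCat.Presheaf.Sheafification
import Mathlib.CategoryTheory.Abelian.GrothendieckAxioms.Sheaf
import Mathlib.CategoryTheory.Abelian.GrothendieckCategory.Basic
import Mathlib.Algebra.Category.Grp.AB

set_option autoImplicit false
universe w w' u

namespace Groth.Agent.H45

open CategoryTheory Limits

variable {C : Type u} [SmallCategory C] {J : GrothendieckTopology C} (R : Sheaf J RingCat.{u})

/-- The forgetful functor from sheaves of modules to abelian sheaves preserves colimits. -/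
theorem toSheaf_preservesColimitsOfShape' (K : Type w) [Category.{w'} K]
    [HasColimitsOfShape K AddCommGrpCat.{u}] :
    PreservesColimitsOfShape K (SheafOfModules.toSheaf.{u} R) := by
  constructor
  intro F
  let G := F ⋙ SheafOfModules.forget R
  let S := PresheafOfModules.sheafification.{u} (𝟙 R.obj)
  let e : F ≅ G ⋙ S := Functor.isoWhiskerLeft F
    (asIso (PresheafOfModules.sheafificationAdjunction (𝟙 R.obj)).counit).symm
  have hc : IsColimit (colimit.cocone G) := colimit.isColimit G
  have hSc : IsColimit (S.mapCocone (colimit.cocone G)) := isColimitOfPreserves S hc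
  let c' : Cocone F := (Cocone.precompose e.hom).obj (S.mapCocone (colimit.cocone G))
  have hc' : IsColimit c' := (IsColimit.precomposeHomEquiv e _).symm hSc
  apply preservesColimit_of_preserves_colimit_cocone hc'
  haveI : PreservesColimit G (S ⋙ SheafOfModules.toSheaf.{u} R) :=
    preservesColimit_of_natIso G (PresheafOfModules.sheafificationCompToSheaf (𝟙 R.obj)).symm
  have h1 : IsColimit ((S ⋙ SheafOfModules.toSheaf.{u} R).mapCocone (colimit.cocone G)) :=
    isColimitOfPreserves _ hc
  let e' : F ⋙ SheafOfModules.toSheaf.{u} R ≅ G ⋙ (S ⋙ SheafOfModules.toSheaf.{u} R) :=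
    Functor.isoWhiskerRight e (SheafOfModules.toSheaf.{u} R) ≪≫ Functor.associator _ _ _
  have h2 : IsColimit ((Cocone.precompose e'.hom).obj
      ((S ⋙ SheafOfModules.toSheaf.{u} R).mapCocone (colimit.cocone G))) :=
    (IsColimit.precomposeHomEquiv e' _).symm h1
  refine IsColimit.ofIsoColimit h2 (Cocone.ext (Iso.refl _) ?_)
  intro j
  simp [c', e']

/-- The forgetful functor from sheaves of modules to abelian sheaves preserves colimits. -/
theorem toSheaf_preservesColimitsOfShape (K : Type u) [SmallCategory K] :
    PreservesColimitsOfShape K (SheafOfModules.toSheaf.{u} R) :=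
  toSheaf_preservesColimitsOfShape' R K

theorem toSheaf_preservesFiniteColimits :
    PreservesFiniteColimits (SheafOfModules.toSheaf.{u} R) := by
  constructor
  intro K _ _
  exact toSheaf_preservesColimitsOfShape' R K

end Groth.Agent.H45
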