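import Groth.Agent.H45.CohTopRestr

/-!
# `H^n(U, F) ≃+ H^n(U, F|_U)` for an open subspace `U`
-/

set_option autoImplicit false
universe u
open CategoryTheory CategoryTheory.Limits Opposite TopologicalSpace CategoryTheory.Abelian

namespace Groth.Agent.H45.CohTopRestr

variable {X : TopCat.{u}} (U : Opens X)

/-- The constant sheaf `ℤ` on the open subspace `U`. -/
noncomputable abbrev constU : CohTop.Ab (TopCat.of U) :=
  (constantSheaf (Opens.grothendieckTopology (TopCat.of U)) AddCommGrpCat.{u}).obj
    (AddCommGrpCat.of (ULift ℤ))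

/-- Morphisms out of the constant sheaf `ℤ` are global sections. -/
noncomputable def constUHomEquiv (G : CohTop.Ab (TopCat.of U)) :
    (constU U ⟶ G) ≃ G.obj.obj (op ⊤) :=
  ((constantSheafAdj (Opens.grothendieckTopology (TopCat.of U)) AddCommGrpCat.{u}
    (Limits.isTerminalTop : IsTerminal (⊤ : Opens (TopCat.of U)))).homEquiv _ _).trans
    (AddCommGrpCat.uliftZMultiplesAddEquiv _).toEquiv

lemma constUHomEquiv_naturality {G G' : CohTop.Ab (TopCat.of U)} (f : constU U ⟶ G)
    (h : G ⟶ G') :
    constUHomEquiv U G' (f ≫ h) = h.hom.app (op ⊤) (constUHomEquiv U G f) := by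
  dsimp only [constUHomEquiv, Equiv.trans_apply]
  rw [Adjunction.homEquiv_naturality_right]
  rfl

lemma image_top_eq : (U.isOpenEmbedding.isOpenMap.functor).obj ⊤ = U := by
  ext x
  simp

/-- Sections of `F|_U` over `⊤` are sections of `F` over `U`. -/
noncomputable def restrTopIso (G : CohTop.Ab X) :
    ((CohTop.restrFunctor U).obj G).obj.obj (op ⊤) ≅ G.obj.obj (op U) :=
  G.obj.mapIso (eqToIso (image_top_eq U)).symm.op

noncomputable def extZeroConstHomEquiv (G : CohTop.Ab X) :
    ((extZero U).obj (constU U) ⟶ G) ≃ G.obj.obj (op U) :=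
  ((extZeroAdj U).homEquiv _ _).trans
    ((constUHomEquiv U ((CohTop.restrFunctor U).obj G)).trans
      ((forget AddCommGrpCat).mapIso (restrTopIso U G)).toEquiv)

lemma extZeroConstHomEquiv_naturality {G G' : CohTop.Ab X}
    (f : (extZero U).obj (constU U) ⟶ G) (g : G ⟶ G') :
    extZeroConstHomEquiv U G' (f ≫ g) = g.hom.app (op U) (extZeroConstHomEquiv U G f) := by
  change (restrTopIso U G').hom (constUHomEquiv U _ ((extZeroAdj U).homEquiv _ _ (f ≫ g))) =
    g.hom.app (op U) ((restrTopIso U G).hom (constUHomEquiv U _ ((extZeroAdj U).homEquiv _ _ f)))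
  rw [Adjunction.homEquiv_naturality_right, constUHomEquiv_naturality]
  have := g.hom.naturality (eqToIso (image_top_eq U)).symm.op.hom
  exact congrArg (fun φ => (ConcreteCategory.hom φ)
    (constUHomEquiv U _ ((extZeroAdj U).homEquiv _ _ f))) this.symm

/-- `j_! ℤ_U` is the free abelian sheaf on `U`. -/
noncomputable def freeSheafIsoExtZeroConst :
    freeSheaf (Opens.grothendieckTopology X) U ≅ (extZero U).obj (constU U) :=
  Coyoneda.ext _ _
    (fun f => (extZeroConstHomEquiv U _).symm (freeSheafHomEquiv _ U _ f))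
    (fun f => (freeSheafHomEquiv _ U _).symm (extZeroConstHomEquiv U _ f))
    (fun f => by simp) (fun f => by simp)
    (fun f g => by
      apply (freeSheafHomEquiv _ U _).injective
      rw [Equiv.apply_symm_apply, freeSheafHomEquiv_naturality, Equiv.apply_symm_apply,
        extZeroConstHomEquiv_naturality])

/-- `H^n(U, F) ≃+ H^n(U, F|_U)`. -/
theorem nonempty_HU_addEquiv_H_restr (F : CohTop.Ab X) (n : ℕ) :
    Nonempty (CohTop.HU F n U ≃+ CohTop.H (CohTop.restr F U) n) := by
  haveI := preservesFiniteLimits_extZero U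
  haveI : PreservesFiniteLimits (CohTop.restrFunctor U) := by
    haveI := (extZeroAdj U).rightAdjoint_preservesLimits
    infer_instance
  haveI : PreservesFiniteColimits (CohTop.restrFunctor U) := by
    haveI := preservesFiniteColimits_overPullback (Opens.grothendieckTopology X) U
    change PreservesFiniteColimits ((Opens.grothendieckTopology X).overPullback AddCommGrpCat.{u} U ⋙
      (U.sheafEquivOver (A := AddCommGrpCat.{u})).functor)
    infer_instance
  obtain ⟨e⟩ := ExtAdj.nonempty_ext_addEquiv_of_rightDerived_isZero (extZeroAdj U) F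
    (fun i hi => ExtAdj.isZero_rightDerived_of_exact (CohTop.restrFunctor U) F i hi)
    (constU U) n
  exact ⟨(ExtAdj.addEquivOfIsoLeft (freeSheafIsoExtZeroConst U) F n).trans e⟩

end Groth.Agent.H45.CohTopRestr
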