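import Groth.Agent.H45.AffineVanishing
import Groth.Agent.H45.CohTopRestr2
import Groth.Prelude.Def_CohCmp

/-!
# Helper library (helper45): higher cohomology of a quasi-coherent module vanishes on every affine
open of a scheme
-/

set_option autoImplicit false
universe u
open CategoryTheory CategoryTheory.Limits AlgebraicGeometry TopologicalSpace Opposite

namespace Groth.Agent.H45.AffineVanishing

variable {X : Scheme.{u}} (M : X.Modules) [M.IsQuasicoherent]

/-- Higher cohomology of a quasi-coherent module vanishes on affine opens of any scheme. -/
theorem subsingleton_HU_of_isAffineOpen {W : X.Opens} (hW : IsAffineOpen W) (p : ℕ) :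
    Subsingleton (CohTop.HU (X := X.carrier) (Coh.toAb M) (p + 1) W) := by
  have : IsAffine (W : Scheme.{u}) := hW
  obtain ⟨e⟩ := CohTopRestr.nonempty_HU_addEquiv_H_restr (X := X.carrier) W (Coh.toAb M) (p + 1)
  have : Subsingleton (CohTop.H (CohTop.restr (X := X.carrier) (Coh.toAb M) W) (p + 1)) :=
    subsingleton_HH (X := (W : Scheme.{u})) (M.restrict W.ι) p
  exact e.subsingleton

end Groth.Agent.H45.AffineVanishing
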