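import Mathlib.Algebra.Homology.DerivedCategory.Ext.ExactSequences

/-!
# Consequences of the contravariant long exact sequence of `Ext`
-/

set_option autoImplicit false
universe w v u
open CategoryTheory CategoryTheory.Limits

namespace Groth.Agent.H45.ExtContraLES

open CategoryTheory.Abelian

variable {A : Type u} [Category.{v} A] [Abelian A] [HasExt.{w} A]
  {S : ShortComplex A} (hS : S.ShortExact) (F : A)

/-- "restriction" `Ext^i(X₂, F) ⟶ Ext^i(X₁, F)` -/
noncomputable abbrev res (S : ShortComplex A) (F : A) (i : ℕ) : Ext S.X₂ F i →+ Ext S.X₁ F i :=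
  (Ext.mk₀ S.f).precomp F (zero_add i)

/-- "forget supports" `Ext^i(X₃, F) ⟶ Ext^i(X₂, F)` -/
noncomputable abbrev toH (S : ShortComplex A) (F : A) (i : ℕ) : Ext S.X₃ F i →+ Ext S.X₂ F i :=
  (Ext.mk₀ S.g).precomp F (zero_add i)

/-- the connecting map -/
noncomputable abbrev del (i : ℕ) : Ext S.X₁ F i →+ Ext S.X₃ F (i + 1) :=
  hS.extClass.precomp F (show 1 + i = i + 1 by omega)

lemma res_toH (i : ℕ) (x₃ : Ext S.X₃ F i) : res S F i (toH S F i x₃) = 0 := by
  change (Ext.mk₀ S.f).comp ((Ext.mk₀ S.g).comp x₃ (zero_add i)) (zero_add i) = 0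
  rw [← Ext.comp_assoc_of_second_deg_zero, Ext.mk₀_comp_mk₀, S.zero, Ext.mk₀_zero,
    Ext.zero_comp]

include hS in
lemma del_res (i : ℕ) (x₂ : Ext S.X₂ F i) : del hS F i (res S F i x₂) = 0 := by
  change hS.extClass.comp ((Ext.mk₀ S.f).comp x₂ (zero_add i))
    (show 1 + i = i + 1 by omega) = 0
  rw [← Ext.comp_assoc_of_second_deg_zero, hS.extClass_comp, Ext.zero_comp]

include hS in
lemma toH_del (i : ℕ) (x₁ : Ext S.X₁ F i) : toH S F (i + 1) (del hS F i x₁) = 0 := by
  change (Ext.mk₀ S.g).comp (hS.extClass.comp x₁ (show 1 + i = i + 1 by omega))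
    (zero_add (i + 1)) = 0
  have h := Ext.comp_assoc (Ext.mk₀ S.g) hS.extClass x₁ (zero_add 1)
    (show 1 + i = i + 1 by omega) (show 0 + 1 + i = i + 1 by omega)
  rw [← h, hS.comp_extClass, Ext.zero_comp]

include hS in
lemma exists_of_res_eq_zero (i : ℕ) (x₂ : Ext S.X₂ F i) (h : res S F i x₂ = 0) :
    ∃ x₃, toH S F i x₃ = x₂ :=
  Ext.contravariant_sequence_exact₂ hS F x₂ h

include hS in
lemma exists_of_del_eq_zero (i : ℕ) (x₁ : Ext S.X₁ F i) (h : del hS F i x₁ = 0) :
    ∃ x₂, res S F i x₂ = x₁ :=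
  Ext.contravariant_sequence_exact₁ hS F x₁ (show 1 + i = i + 1 by omega) h

include hS in
lemma exists_of_toH_eq_zero (i : ℕ) (x₃ : Ext S.X₃ F (i + 1)) (h : toH S F (i + 1) x₃ = 0) :
    ∃ x₁, del hS F i x₁ = x₃ :=
  Ext.contravariant_sequence_exact₃ hS F x₃ h (show 1 + i = i + 1 by omega)

include hS in
lemma toH_zero_injective : Function.Injective (toH S F 0) := by
  rw [injective_iff_map_eq_zero]
  intro x₃ h
  obtain ⟨φ, rfl⟩ := (Ext.mk₀_bijective _ _).2 x₃
  change (Ext.mk₀ S.g).comp (Ext.mk₀ φ) (zero_add 0) = 0 at h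
  rw [Ext.mk₀_comp_mk₀] at h
  have h3 : S.g ≫ φ = 0 := (Ext.mk₀_bijective _ _).1 (by rw [h, Ext.mk₀_zero])
  haveI : Epi S.g := hS.epi_g
  have h4 : φ = 0 := by rw [← cancel_epi S.g, h3, comp_zero]
  rw [h4, Ext.mk₀_zero]

include hS in
lemma x₃_zero_of_injective (hinj : Function.Injective (res S F 0)) (x₃ : Ext S.X₃ F 0) :
    x₃ = 0 := by
  apply toH_zero_injective hS F
  rw [map_zero]
  apply hinj
  rw [map_zero]
  exact res_toH F 0 x₃

include hS in
lemma x₃_succ_zero_of (k : ℕ) (hinj : Function.Injective (res S F (k + 1)))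
    (hsurj : Function.Surjective (res S F k)) (x₃ : Ext S.X₃ F (k + 1)) : x₃ = 0 := by
  have h2 : toH S F (k + 1) x₃ = 0 := by
    apply hinj
    rw [map_zero]
    exact res_toH F (k + 1) x₃
  obtain ⟨x₁, rfl⟩ := exists_of_toH_eq_zero hS F k x₃ h2
  obtain ⟨x₂, rfl⟩ := hsurj x₁
  exact del_res hS F k x₂

include hS in
lemma injective_res_of (i : ℕ) (hz : ∀ x₃ : Ext S.X₃ F i, x₃ = 0) :
    Function.Injective (res S F i) := by
  rw [injective_iff_map_eq_zero]
  intro ξ hξ
  obtain ⟨x₃, rfl⟩ := exists_of_res_eq_zero hS F i ξ hξ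
  rw [hz x₃, map_zero]

include hS in
lemma surjective_res_of (i : ℕ) (hz : Function.Injective (toH S F (i + 1))) :
    Function.Surjective (res S F i) := by
  intro x₁
  apply exists_of_del_eq_zero hS F i x₁
  apply hz
  rw [map_zero]
  exact toH_del hS F i x₁

include hS in
/-- Vanishing of `Ext^i(X₃, F)` for `i ≤ N` in terms of the maps `Ext^i(X₂, F) ⟶ Ext^i(X₁, F)`. -/
theorem subsingleton_iff (N : ℕ) :
    (∀ i : ℕ, i ≤ N → Subsingleton (Ext S.X₃ F i)) ↔
      (∀ i : ℕ, i < N → Function.Bijective (res S F i)) ∧ Function.Injective (res S F N) := by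
  constructor
  · intro hz
    have hinj : ∀ i, i ≤ N → Function.Injective (res S F i) := fun i hi =>
      injective_res_of hS F i (fun x₃ => haveI := hz i hi; Subsingleton.elim _ _)
    exact ⟨fun i hi => ⟨hinj i hi.le,
      surjective_res_of hS F i (fun a b _ => haveI := hz (i + 1) hi; Subsingleton.elim a b)⟩,
      hinj N le_rfl⟩
  · rintro ⟨hbij, hinjN⟩ i hi
    have hinj : ∀ i, i ≤ N → Function.Injective (res S F i) := fun i hi => by
      rcases Nat.lt_or_eq_of_le hi with h1 | h1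
      · exact (hbij i h1).1
      · exact h1 ▸ hinjN
    refine ⟨fun a b => ?_⟩
    cases i with
    | zero =>
      rw [x₃_zero_of_injective hS F (hinj 0 hi) a, x₃_zero_of_injective hS F (hinj 0 hi) b]
    | succ k =>
      rw [x₃_succ_zero_of hS F k (hinj (k + 1) hi) (hbij k hi).2 a,
        x₃_succ_zero_of hS F k (hinj (k + 1) hi) (hbij k hi).2 b]

include hS in
/-- Variant: bijectivity below `N` gives vanishing below `N` and injectivity of `toH` in degree `N`. -/
theorem subsingleton_and_injective_toH (N : ℕ)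
    (hbij : ∀ i : ℕ, i < N → Function.Bijective (res S F i)) :
    (∀ i : ℕ, i < N → Subsingleton (Ext S.X₃ F i)) ∧ Function.Injective (toH S F N) := by
  constructor
  · intro i hi
    refine ⟨fun a b => ?_⟩
    cases i with
    | zero =>
      rw [x₃_zero_of_injective hS F (hbij 0 hi).1 a, x₃_zero_of_injective hS F (hbij 0 hi).1 b]
    | succ k =>
      rw [x₃_succ_zero_of hS F k (hbij (k + 1) hi).1 (hbij k (Nat.lt_of_succ_lt hi)).2 a,
        x₃_succ_zero_of hS F k (hbij (k + 1) hi).1 (hbij k (Nat.lt_of_succ_lt hi)).2 b]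
  · cases N with
    | zero => exact toH_zero_injective hS F
    | succ k =>
      rw [injective_iff_map_eq_zero]
      intro x₃ h
      obtain ⟨x₁, rfl⟩ := exists_of_toH_eq_zero hS F k x₃ h
      obtain ⟨x₂, rfl⟩ := (hbij k (Nat.lt_succ_self k)).2 x₁
      exact del_res hS F k x₂

section TwoVariable

variable {T : ShortComplex A} (hT : T.ShortExact)

include hT in
/-- Dimension shifting for injectivity of `toH`: if `Ext^{n+1}(X₃, T₁) ⟶ Ext^{n+1}(X₂, T₁)` is
injective and `Ext^n(X₃, T₂) = 0`, then `Ext^n(X₃, T₃) ⟶ Ext^n(X₂, T₃)` is injective. -/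
lemma injective_toH_shift (S : ShortComplex A) (n : ℕ)
    (hinj : Function.Injective (toH S T.X₁ (n + 1)))
    (hz : Subsingleton (Ext S.X₃ T.X₂ n)) :
    Function.Injective (toH S T.X₃ n) := by
  rw [injective_iff_map_eq_zero]
  intro y hy
  have hy' : (Ext.mk₀ S.g).comp y (zero_add n) = 0 := hy
  have h1 : toH S T.X₁ (n + 1) (y.comp hT.extClass (rfl : n + 1 = n + 1)) = 0 := by
    change (Ext.mk₀ S.g).comp (y.comp hT.extClass (rfl : n + 1 = n + 1)) (zero_add (n + 1)) = 0
    have h := Ext.comp_assoc (Ext.mk₀ S.g) y hT.extClass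
      (zero_add n) (rfl : n + 1 = n + 1) (show 0 + n + 1 = n + 1 by omega)
    rw [← h, hy', Ext.zero_comp]
  have h2 : y.comp hT.extClass (rfl : n + 1 = n + 1) = 0 := by
    apply hinj
    rw [h1, map_zero]
  obtain ⟨y₂, rfl⟩ := Ext.covariant_sequence_exact₃ _ hT y rfl h2
  rw [Subsingleton.elim y₂ 0, Ext.zero_comp]

end TwoVariable

end Groth.Agent.H45.ExtContraLES
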