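import Groth.Prelude.Def_CohTop
import Groth.Agent.H45.ExtContraLES
import Mathlib.Topology.Sheaves.MayerVietoris
import Mathlib.CategoryTheory.Sites.SheafCohomology.MayerVietoris

/-!
# Helper library (helper45): vanishing via the Mayer–Vietoris sequence on a topological space
-/

set_option autoImplicit false
universe u
open CategoryTheory CategoryTheory.Limits TopologicalSpace Opposite

namespace Groth.Agent.H45.MVVanish

open CategoryTheory.Abelian

variable {X : TopCat.{u}} (F : CohTop.Ab X)

/-- Mayer–Vietoris: if `H^n(U ⊓ V, F)`, `H^{n+1}(U, F)` and `H^{n+1}(V, F)` vanish, so does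
`H^{n+1}(U ⊔ V, F)`. -/
theorem subsingleton_HU_sup (U V : Opens X) (n : ℕ)
    (h₁ : Subsingleton (CohTop.HU F n (U ⊓ V)))
    (h₂ : Subsingleton (CohTop.HU F (n + 1) U))
    (h₃ : Subsingleton (CohTop.HU F (n + 1) V)) :
    Subsingleton (CohTop.HU F (n + 1) (U ⊔ V)) := by
  let S := Opens.mayerVietorisSquare U V
  have hS := S.shortComplex_shortExact
  have h₂₃ : Subsingleton (Ext S.shortComplex.X₂ F (n + 1)) := by
    haveI : Subsingleton (Ext ((presheafToSheaf (Opens.grothendieckTopology X) _).obj
        (yoneda.obj S.X₂ ⋙ AddCommGrpCat.free)) F (n + 1)) := h₂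
    haveI : Subsingleton (Ext ((presheafToSheaf (Opens.grothendieckTopology X) _).obj
        (yoneda.obj S.X₃ ⋙ AddCommGrpCat.free)) F (n + 1)) := h₃
    exact (Ext.biprodAddEquiv (Y := F) (n := n + 1)).toEquiv.subsingleton
  refine ⟨fun x y => ?_⟩
  have key : ∀ x : Ext S.shortComplex.X₃ F (n + 1), x = 0 := by
    intro x
    obtain ⟨x₁, rfl⟩ := ExtContraLES.exists_of_toH_eq_zero hS F n x (Subsingleton.elim _ _)
    haveI : Subsingleton (Ext S.shortComplex.X₁ F n) := h₁
    rw [Subsingleton.elim x₁ 0]
    exact map_zero _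
  exact (key x).trans (key y).symm

end Groth.Agent.H45.MVVanish
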