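import Groth.Agent.H45.AffineOpenVanishing
import Groth.Agent.H45.MVVanish

/-!
# Helper library (helper45): cohomology of quasi-coherent modules vanishes above the number of
affine opens in a covering (affine diagonal), by Mayer–Vietoris induction
-/

set_option autoImplicit false
universe u
open CategoryTheory CategoryTheory.Limits AlgebraicGeometry TopologicalSpace Opposite

namespace Groth.Agent.H45.AffineVanishing

open CategoryTheory.Abelian

/-- Cohomology over the empty open vanishes. -/
theorem subsingleton_HU_bot {X : TopCat.{u}} (F : CohTop.Ab X) (n : ℕ) :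
    Subsingleton (CohTop.HU F n (⊥ : Opens X)) := by
  have hz : IsZero (freeSheaf (Opens.grothendieckTopology X) (⊥ : Opens X)) := by
    rw [IsZero.iff_id_eq_zero]
    apply (freeSheafHomEquiv (Opens.grothendieckTopology X) (⊥ : Opens X) _).injective
    haveI : Subsingleton ((freeSheaf (Opens.grothendieckTopology X) (⊥ : Opens X)).obj.obj
        (op (⊥ : Opens X))) := by
      have ht := TopCat.Sheaf.isTerminalOfEmpty (C := AddCommGrpCat.{u})
        (freeSheaf (Opens.grothendieckTopology X) (⊥ : Opens X))
      exact AddCommGrpCat.subsingleton_of_isZero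
        ((isZero_zero AddCommGrpCat.{u}).of_iso (ht.uniqueUpToIso (isZero_zero _).isTerminal))
    exact Subsingleton.elim _ _
  refine ⟨fun x y => ?_⟩
  have key : ∀ x : Ext (freeSheaf (Opens.grothendieckTopology X) (⊥ : Opens X)) F n, x = 0 := by
    intro x
    rw [← Ext.mk₀_id_comp x, hz.eq_of_src (𝟙 _) 0, Ext.mk₀_zero, Ext.zero_comp]
  exact (key x).trans (key y).symm

variable {X : Scheme.{u}} (M : X.Modules) [M.IsQuasicoherent]

theorem subsingleton_HU_iSup_of_isAffineOpen
    (hd : ∀ V W : X.Opens, IsAffineOpen V → IsAffineOpen W → IsAffineOpen (V ⊓ W)) :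
    ∀ (t : ℕ) (U : Fin t → X.Opens), (∀ i, IsAffineOpen (U i)) → ∀ n : ℕ, t ≤ n →
      Subsingleton (CohTop.HU (X := X.carrier) (Coh.toAb M) n (⨆ i, U i)) := by
  intro t
  induction t with
  | zero =>
    intro U _ n _
    rw [iSup_of_empty]
    exact subsingleton_HU_bot _ n
  | succ t ih =>
    intro U hU n hn
    obtain ⟨m, rfl⟩ := Nat.exists_eq_succ_of_ne_zero (by omega : n ≠ 0)
    have hm : t ≤ m := by omega
    have e : (⨆ i, U i) = (⨆ i : Fin t, U i.castSucc) ⊔ U (Fin.last t) := by
      apply le_antisymm
      · refine iSup_le (fun i => ?_)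
        refine Fin.lastCases ?_ (fun j => ?_) i
        · exact le_sup_right
        · exact (le_iSup (fun j : Fin t => U j.castSucc) j).trans le_sup_left
      · exact sup_le (iSup_le (fun j => le_iSup U j.castSucc)) (le_iSup U (Fin.last t))
    rw [e]
    refine MVVanish.subsingleton_HU_sup (X := X.carrier) (Coh.toAb M) _ _ m ?_ ?_ ?_
    · rw [iSup_inf_eq]
      exact ih (fun i => U i.castSucc ⊓ U (Fin.last t))
        (fun i => hd _ _ (hU _) (hU _)) m hm
    · exact ih (fun i => U i.castSucc) (fun i => hU _) (m + 1) (by omega)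
    · exact subsingleton_HU_of_isAffineOpen M (hU _) m

end Groth.Agent.H45.AffineVanishing
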