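import Mathlib
import Groth.Prelude.Def_FDesc

/-!
# (C1a) for helper11's S0435 squad: a geometrically reduced fibre is `FBase.IsGeomReducedAt` at each
of its points
-/

set_option autoImplicit false
set_option linter.style.haveILetI false
universe u
open CategoryTheory CategoryTheory.Limits AlgebraicGeometry

namespace Groth.Agent.H45.GRO_C1a

theorem isGeomReducedAt_of_geometricallyReduced {Z S : Scheme.{u}} (h : Z ⟶ S) (s : S)
    (hs : GeometricallyReduced (h.fiberToSpecResidueField s)) (z : Z) (hz : h.base z = s) :
    FBase.IsGeomReducedAt (h.fiberToSpecResidueField (h.base z)) (h.asFiber z) := by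
  subst hz
  intro K _ _ x' _
  haveI : IsReduced (FBase.bc (h.fiberToSpecResidueField (h.base z)) K) :=
    hs.geometrically_isReduced _ _ _ (IsPullback.of_hasPullback _ _)
  infer_instance

end Groth.Agent.H45.GRO_C1a
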