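import Mathlib
import Groth.Prelude.Def_FDesc
import Groth.Agent.H95.CycZero

/-!
# (C1b) for helper11's S0435 squad: a scheme closed over a local spectrum whose local rings at the
points of the closed fibre are reduced is reduced
-/

set_option autoImplicit false
set_option linter.style.haveILetI false
universe u
open CategoryTheory CategoryTheory.Limits AlgebraicGeometry

namespace Groth.Agent.H45.GRO_C1b

theorem isReduced_of_isReduced_stalk_closedFibre {V : Type u} [CommRing V] [IsLocalRing V]
    {Z : Scheme.{u}} (h : Z ⟶ Spec (CommRingCat.of V)) (hcl : IsClosedMap h.base)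
    (hred : ∀ z : Z, h.base z = IsLocalRing.closedPoint V →
      _root_.IsReduced (Z.presheaf.stalk z)) :
    IsReduced Z := by
  haveI : ∀ w : Z, _root_.IsReduced (Z.presheaf.stalk w) := by
    intro w
    have hne : (closure ({w} : Set Z)).Nonempty := ⟨w, subset_closure rfl⟩
    have hC : IsClosed (h.base '' closure ({w} : Set Z)) := hcl _ isClosed_closure
    obtain ⟨p, hp⟩ := hne.image h.base
    have hcp : (IsLocalRing.closedPoint V : PrimeSpectrum V) ∈
        h.base '' closure ({w} : Set Z) :=
      (IsLocalRing.specializes_closedPoint (R := V) p).mem_closed hC hp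
    obtain ⟨z, hz, hzc⟩ := hcp
    have hwz : w ⤳ z := specializes_iff_mem_closure.mpr hz
    have hredz := hred z hzc
    letI := (Z.presheaf.stalkSpecializes hwz).hom.toAlgebra
    have hloc := Groth.Agent.H95.CycZero.isLocalization_stalkSpecializes hwz
    exact @isReduced_localizationPreserves (Z.presheaf.stalk z) _
      ((IsLocalRing.maximalIdeal (Z.presheaf.stalk w)).comap
        (Z.presheaf.stalkSpecializes hwz).hom).primeCompl
      (Z.presheaf.stalk w) _ (Z.presheaf.stalkSpecializes hwz).hom.toAlgebra hloc hredz
  exact isReduced_of_isReduced_stalk Z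

end Groth.Agent.H45.GRO_C1b
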