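import Mathlib
import Groth.Prelude.Def_FDesc

/-!
# (C2) for helper11's S0435 squad: the generic fibre (base change to the fraction field) of a reduced
scheme over a domain is reduced
-/

set_option autoImplicit false
set_option linter.style.haveILetI false
universe u
open CategoryTheory CategoryTheory.Limits AlgebraicGeometry TensorProduct

namespace Groth.Agent.H45.GRO_C2

theorem isReduced_tensor_fractionRing (V K C : Type u) [CommRing V] [IsDomain V] [Field K]
    [Algebra V K] [IsFractionRing V K] [CommRing C] [Algebra V C] [_root_.IsReduced C] :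
    _root_.IsReduced (C ⊗[V] K) := by
  haveI : IsLocalization (Algebra.algebraMapSubmonoid C (nonZeroDivisors V)) (C ⊗[V] K) :=
    IsLocalization.tensor (S := C) K (nonZeroDivisors V)
  exact isReduced_localizationPreserves (Algebra.algebraMapSubmonoid C (nonZeroDivisors V))
    (C ⊗[V] K) inferInstance

theorem isReduced_pullback_of_isAffine {V : Type u} [CommRing V] [IsDomain V] (K : Type u)
    [Field K] [Algebra V K] [IsFractionRing V K] {W : Scheme.{u}} [IsAffine W] [IsReduced W]
    (g : W ⟶ Spec (CommRingCat.of V)) :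
    IsReduced (pullback g (Spec.map (CommRingCat.ofHom (algebraMap V K)))) := by
  let ψ : CommRingCat.of V ⟶ Γ(W, ⊤) := Spec.preimage (W.isoSpec.inv ≫ g)
  have hψ : Spec.map ψ = W.isoSpec.inv ≫ g := Spec.map_preimage _
  letI : Algebra V Γ(W, ⊤) := ψ.hom.toAlgebra
  haveI : _root_.IsReduced (Γ(W, ⊤) ⊗[V] K) := isReduced_tensor_fractionRing V K Γ(W, ⊤)
  have hred : IsReduced (pullback (Spec.map ψ)
      (Spec.map (CommRingCat.ofHom (algebraMap V K)))) :=
    isReduced_of_isOpenImmersion (pullbackSpecIso V Γ(W, ⊤) K).hom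
  have hw : g ≫ 𝟙 _ = W.isoSpec.hom ≫ Spec.map ψ := by
    rw [hψ, Iso.hom_inv_id_assoc, Category.comp_id]
  exact isReduced_of_isOpenImmersion
    (pullback.map g (Spec.map (CommRingCat.ofHom (algebraMap V K))) (Spec.map ψ)
      (Spec.map (CommRingCat.ofHom (algebraMap V K))) W.isoSpec.hom (𝟙 _) (𝟙 _) hw
      (by rw [Category.comp_id, Category.id_comp]))

theorem isReduced_pullback_fractionRing {V : Type u} [CommRing V] [IsDomain V]
    (K : Type u) [Field K] [Algebra V K] [IsFractionRing V K]
    {Z : Scheme.{u}} (h : Z ⟶ Spec (CommRingCat.of V)) [IsReduced Z] :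
    IsReduced (pullback h (Spec.map (CommRingCat.ofHom (algebraMap V K)))) := by
  let 𝒲 := Scheme.Pullback.openCoverOfLeft Z.affineCover h
    (Spec.map (CommRingCat.ofHom (algebraMap V K)))
  have hX : ∀ i : Z.affineCover.I₀, IsReduced (pullback (Z.affineCover.f i ≫ h)
      (Spec.map (CommRingCat.ofHom (algebraMap V K)))) := fun i =>
    isReduced_pullback_of_isAffine K (Z.affineCover.f i ≫ h)
  haveI : ∀ i, IsReduced (𝒲.X i) := fun i => hX i
  exact IsReduced.of_openCover _ 𝒲

end Groth.Agent.H45.GRO_C2
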