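import Mathlib.Algebra.Homology.HomotopyCategory.Plus
import Mathlib.Algebra.Homology.DerivedCategory.RightDerivedFunctorPlus
import Mathlib.Algebra.Homology.DerivedCategory.ExactFunctor
import Mathlib.CategoryTheory.Functor.Derived.Adjunction
import Mathlib.CategoryTheory.Functor.Derived.PointwiseLeftDerived
import Mathlib.CategoryTheory.Functor.Derived.PointwiseRightDerived
import Mathlib.CategoryTheory.Localization.Adjunction
import Mathlib.CategoryTheory.Adjunction.Restrict

/-!
# An adjunction of additive functors induces adjunctions on complexes, on bounded below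
homotopy categories, and (for an exact left adjoint) on bounded below derived categories
-/

set_option autoImplicit false
open CategoryTheory CategoryTheory.Limits

namespace Groth.Agent.H45

section Complexes

variable {V W : Type*} [Category V] [Category W] [Preadditive V] [Preadditive W]
  {L : V ⥤ W} {R : W ⥤ V} (adj : L ⊣ R) [L.Additive] [R.Additive]

/-- The termwise adjunction on homological complexes. -/
noncomputable def adjMapHomologicalComplex {ι : Type*} (c : ComplexShape ι) :
    L.mapHomologicalComplex c ⊣ R.mapHomologicalComplex c where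
  unit :=
    { app := fun K =>
        { f := fun i => adj.unit.app (K.X i)
          comm' := fun i j _ => (adj.unit.naturality (K.d i j)).symm }
      naturality := fun K K' f => by
        ext i
        exact adj.unit.naturality (f.f i) }
  counit :=
    { app := fun K =>
        { f := fun i => adj.counit.app (K.X i)
          comm' := fun i j _ => (adj.counit.naturality (K.d i j)).symm }
      naturality := fun K K' f => by
        ext i
        exact adj.counit.naturality (f.f i) }
  left_triangle_components K := by
    ext i
    exact adj.left_triangle_components (K.X i)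
  right_triangle_components K := by
    ext i
    exact adj.right_triangle_components (K.X i)

/-- The termwise adjunction on bounded below cochain complexes. -/
noncomputable def adjMapCochainComplexPlus :
    L.mapCochainComplexPlus ⊣ R.mapCochainComplexPlus :=
  (adjMapHomologicalComplex adj (ComplexShape.up ℤ)).restrictFullyFaithful
    (CochainComplex.Plus.fullyFaithfulι V) (CochainComplex.Plus.fullyFaithfulι W)
    (L.mapCochainComplexPlusCompι).symm (R.mapCochainComplexPlusCompι).symm

variable [HasZeroObject V] [HasBinaryBiproducts V] [HasZeroObject W] [HasBinaryBiproducts W]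

/-- The induced adjunction on bounded below homotopy categories. -/
noncomputable def adjMapHomotopyCategoryPlus :
    L.mapHomotopyCategoryPlus ⊣ R.mapHomotopyCategoryPlus :=
  letI : CatCommSq L.mapCochainComplexPlus (HomotopyCategory.Plus.quotient V)
      (HomotopyCategory.Plus.quotient W) L.mapHomotopyCategoryPlus := ⟨Iso.refl _⟩
  letI : CatCommSq R.mapCochainComplexPlus (HomotopyCategory.Plus.quotient W)
      (HomotopyCategory.Plus.quotient V) R.mapHomotopyCategoryPlus := ⟨Iso.refl _⟩
  (adjMapCochainComplexPlus adj).localization
    (HomotopyCategory.Plus.quotient V)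
    ((HomologicalComplex.homotopyEquivalences V (.up ℤ)).inverseImage (CochainComplex.Plus.ι V))
    (HomotopyCategory.Plus.quotient W)
    ((HomologicalComplex.homotopyEquivalences W (.up ℤ)).inverseImage (CochainComplex.Plus.ι W))
    L.mapHomotopyCategoryPlus R.mapHomotopyCategoryPlus

end Complexes

section Derived

universe w v u

variable {A B : Type u} [Category.{v} A] [Category.{v} B] [Abelian A] [Abelian B]
  [HasDerivedCategory.{w} A] [HasDerivedCategory.{w} B]
  (L : A ⥤ B) (R : B ⥤ A) [L.Additive] [R.Additive]

section Exact

variable [PreservesFiniteLimits L] [PreservesFiniteColimits L]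

lemma quasiIso_mapHomotopyCategoryPlus_map {X Y : HomotopyCategory.Plus A} (f : X ⟶ Y)
    (hf : HomotopyCategory.Plus.quasiIso A f) :
    HomotopyCategory.Plus.quasiIso B (L.mapHomotopyCategoryPlus.map f) := by
  obtain ⟨X, rfl⟩ := HomotopyCategory.Plus.quotient_obj_surjective X
  obtain ⟨Y, rfl⟩ := HomotopyCategory.Plus.quotient_obj_surjective Y
  obtain ⟨f, rfl⟩ := (HomotopyCategory.Plus.quotient A).map_surjective f
  have hf' : QuasiIso f.hom :=
    (HomologicalComplex.mem_quasiIso_iff _).1
      ((HomotopyCategory.quotient_map_mem_quasiIso_iff f.hom).1 hf)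
  have h2 : QuasiIso ((L.mapHomologicalComplex (ComplexShape.up ℤ)).map f.hom) := inferInstance
  exact (HomotopyCategory.quotient_map_mem_quasiIso_iff
    ((L.mapHomologicalComplex (ComplexShape.up ℤ)).map f.hom)).2
      ((HomologicalComplex.mem_quasiIso_iff _).2 h2)

lemma isInvertedBy_mapHomotopyCategoryPlus_comp_Qh :
    (HomotopyCategory.Plus.quasiIso A).IsInvertedBy
      (L.mapHomotopyCategoryPlus ⋙ DerivedCategory.Plus.Qh) := fun _ _ f hf =>
  Localization.inverts DerivedCategory.Plus.Qh (HomotopyCategory.Plus.quasiIso B) _
    (quasiIso_mapHomotopyCategoryPlus_map L f hf)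

variable [EnoughInjectives A]

instance isIso_rightDerivedFunctorPlusUnit_of_exact : IsIso L.rightDerivedFunctorPlusUnit :=
  Functor.isIso_of_isRightDerivedFunctor_of_inverts L.rightDerivedFunctorPlus
    L.rightDerivedFunctorPlusUnit (isInvertedBy_mapHomotopyCategoryPlus_comp_Qh L)

instance isLeftDerivedFunctor_rightDerivedFunctorPlus_of_exact :
    L.rightDerivedFunctorPlus.IsLeftDerivedFunctor (inv L.rightDerivedFunctorPlusUnit)
      (HomotopyCategory.Plus.quasiIso A) :=
  Functor.isLeftDerivedFunctor_of_inverts (HomotopyCategory.Plus.quasiIso A)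
    L.rightDerivedFunctorPlus (asIso L.rightDerivedFunctorPlusUnit).symm

variable [EnoughInjectives B]

instance isLeftDerivedFunctor_comp_of_exact :
    (L.rightDerivedFunctorPlus ⋙ R.rightDerivedFunctorPlus).IsLeftDerivedFunctor
      ((Functor.associator _ _ _).inv ≫
        Functor.whiskerRight (inv L.rightDerivedFunctorPlusUnit) R.rightDerivedFunctorPlus)
      (HomotopyCategory.Plus.quasiIso A) := by
  have hF : (HomotopyCategory.Plus.quasiIso A).IsInvertedBy
      ((L.mapHomotopyCategoryPlus ⋙ DerivedCategory.Plus.Qh) ⋙ R.rightDerivedFunctorPlus) :=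
    fun X Y f hf => by
      have := isInvertedBy_mapHomotopyCategoryPlus_comp_Qh L f hf
      exact (inferInstance : IsIso (R.rightDerivedFunctorPlus.map
        ((L.mapHomotopyCategoryPlus ⋙ DerivedCategory.Plus.Qh).map f)))
  rw [Functor.isLeftDerivedFunctor_iff_of_inverts _ _ hF]
  infer_instance

instance isRightDerivedFunctor_comp_of_exact :
    (R.rightDerivedFunctorPlus ⋙ L.rightDerivedFunctorPlus).IsRightDerivedFunctor
      (Functor.whiskerRight R.rightDerivedFunctorPlusUnit L.rightDerivedFunctorPlus ≫
        (Functor.associator _ _ _).hom)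
      (HomotopyCategory.Plus.quasiIso B) := by
  refine (HomotopyCategory.Plus.localizerMorphism_derives _).isRightDerivedFunctor_of_isIso _
    (fun X => ?_)
  have h : IsIso (L.rightDerivedFunctorPlus.map (R.rightDerivedFunctorPlusUnit.app
      ((InjectiveObject.ι B).mapHomotopyCategoryPlus.obj X))) := inferInstance
  rw [NatTrans.comp_app, Functor.whiskerRight_app, Functor.associator_hom_app, Category.comp_id]
  exact h

/-- For an exact left adjoint `L`, the functor it induces on `D⁺` is left adjoint to the right
derived functor of its right adjoint. -/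
theorem nonempty_rightDerivedFunctorPlus_adj (adj : L ⊣ R) :
    Nonempty (L.rightDerivedFunctorPlus ⊣ R.rightDerivedFunctorPlus) :=
  ⟨(adjMapHomotopyCategoryPlus adj).derived (HomotopyCategory.Plus.quasiIso A)
    (HomotopyCategory.Plus.quasiIso B) (inv L.rightDerivedFunctorPlusUnit)
    R.rightDerivedFunctorPlusUnit⟩

end Exact

end Derived

end Groth.Agent.H45
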