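import Groth.Agent.H45.Acyclic2
import Mathlib.Algebra.Homology.HomotopyCategory.Acyclic

/-!
# Leray's acyclicity lemma for `R⁺F` (unit form)

For a left exact `F`, if `K` is a bounded below complex whose terms are right `F`-acyclic, the
unit `F(K) ⟶ R⁺F(K)` is an isomorphism.
-/

set_option autoImplicit false
universe w w' v v' u u'
open CategoryTheory CategoryTheory.Limits Pretriangulated

namespace Groth.Agent.H45.RDP

section General

variable {C : Type u} [Category.{v} C] [Abelian C]

lemma quasiIso_iff_acyclic_mappingCone {K L : CochainComplex C ℤ} (φ : K ⟶ L) :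
    QuasiIso φ ↔ ∀ n, (CochainComplex.mappingCone φ).ExactAt n := by
  rw [← HomologicalComplex.mem_quasiIso_iff, ← HomotopyCategory.quotient_map_mem_quasiIso_iff,
    HomotopyCategory.quasiIso_eq_trW_subcategoryAcyclic]
  have h := (HomotopyCategory.subcategoryAcyclic C).trW_iff_of_distinguished _
    (HomotopyCategory.mappingCone_triangleh_distinguished φ)
  refine h.trans ?_
  exact HomotopyCategory.quotient_obj_mem_subcategoryAcyclic_iff_exactAt _

/-- the short complex `ker dⁱ → Mⁱ → ker dʲ`. -/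
noncomputable def cycSC (M : CochainComplex C ℤ) (i j k : ℤ) : ShortComplex C :=
  ShortComplex.mk (kernel.ι (M.d i j)) (kernel.lift (M.d j k) (M.d i j) (M.d_comp_d i j k)) (by
    rw [← cancel_mono (kernel.ι (M.d j k)), Category.assoc, kernel.lift_ι, kernel.condition,
      zero_comp])

lemma cycSC_shortExact (M : CochainComplex C ℤ) (i j k : ℤ) (hij : i + 1 = j) (hjk : j + 1 = k)
    (hex : M.ExactAt j) : (cycSC M i j k).ShortExact := by
  have hsc : (M.sc' i j k).Exact :=
    (M.exactAt_iff' i j k (by simp; omega) (by simp; omega)).1 hex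
  have hepi : Epi (kernel.lift (M.d j k) (M.d i j) (M.d_comp_d i j k)) := hsc.epi_kernelLift
  have hex' : (cycSC M i j k).Exact := by
    let φ : cycSC M i j k ⟶
        ShortComplex.mk (kernel.ι (M.d i j)) (M.d i j) (kernel.condition _) :=
      { τ₁ := 𝟙 _
        τ₂ := 𝟙 _
        τ₃ := kernel.ι (M.d j k)
        comm₁₂ := by simp [cycSC]
        comm₂₃ := by simp [cycSC] }
    have h1 : Epi φ.τ₁ := @IsIso.epi_of_iso _ _ _ _ _ (IsIso.id _)
    have h2 : IsIso φ.τ₂ := IsIso.id _
    have h3 : Mono φ.τ₃ := inferInstanceAs (Mono (kernel.ι (M.d j k)))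
    exact (ShortComplex.exact_iff_of_epi_of_isIso_of_mono φ).2 (ShortComplex.exact_kernel _)
  exact { exact := hex'
          mono_f := by dsimp [cycSC]; infer_instance
          epi_g := hepi }

end General

variable {C : Type u} [Category.{v} C] [Abelian C] [HasDerivedCategory.{w} C]
  {D : Type u'} [Category.{v'} D] [Abelian D] [HasDerivedCategory.{w'} D]
  [EnoughInjectives C] (F : C ⥤ D) [F.Additive]

/-- `X` is right `F`-acyclic: `RⁿF(X) = 0` for `n > 0`. -/
def Acy (X : C) : Prop := ∀ n : ℤ, 0 < n → IsZero ((RnF F n).obj X)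

lemma acy_of_iso {X Y : C} (e : X ≅ Y) (h : Acy F X) : Acy F Y :=
  fun n hn => IsZero.of_iso (h n hn) ((RnF F n).mapIso e).symm

lemma acy_of_injective (J : C) [Injective J] : Acy F J :=
  fun n hn => isZero_RnF_obj_of_injective F J n (by omega)

lemma acy_of_isZero (X : C) (h : IsZero X) : Acy F X := by
  have := h.injective
  exact acy_of_injective F X

lemma acy_X₃ {S : ShortComplex C} (hS : S.ShortExact) (h₁ : Acy F S.X₁) (h₂ : Acy F S.X₂) :
    Acy F S.X₃ := by
  intro n hn
  obtain ⟨δ, w₁, w₂, e₁, e₂⟩ := RnF_exists_δ F hS n (n + 1) rfl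
  exact e₁.isZero_of_both_zeros ((h₂ n hn).eq_of_src _ _) ((h₁ (n + 1) (by omega)).eq_of_tgt _ _)

lemma acy_X₂ {S : ShortComplex C} (hS : S.ShortExact) (h₁ : Acy F S.X₁) (h₃ : Acy F S.X₃) :
    Acy F S.X₂ := by
  intro n hn
  exact (RnF_exact₂ F hS n).isZero_of_both_zeros ((h₁ n hn).eq_of_src _ _)
    ((h₃ n hn).eq_of_tgt _ _)

lemma acy_biprod {X Y : C} (hX : Acy F X) (hY : Acy F Y) : Acy F (X ⊞ Y) :=
  acy_X₂ F (ShortComplex.Splitting.ofHasBinaryBiproduct X Y).shortExact hX hY

section LeftExact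

variable [PreservesFiniteLimits F]

lemma mono_Src_map {X Y : C} (f : X ⟶ Y) [Mono f] : Mono ((Src F 0).map f) := by
  have nat := (srcIso F).hom.naturality f
  have h : Mono ((Src F 0).map f ≫ (srcIso F).hom.app Y) := by
    rw [nat]; exact mono_comp _ _
  exact mono_of_mono _ ((srcIso F).hom.app Y)

lemma mono_uN_zero (X : C) : Mono ((uN F 0).app X) :=
  mono_uN_zero_of F (Injective.ι X) (mono_Src_map F _)

lemma isIso_uN_zero (X : C) : IsIso ((uN F 0).app X) := by
  let S : ShortComplex C := ShortComplex.mk (Injective.ι X) (cokernel.π (Injective.ι X))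
    (cokernel.condition _)
  have hS : S.ShortExact :=
    { exact := ShortComplex.exact_cokernel _
      mono_f := inferInstanceAs (Mono (Injective.ι X))
      epi_g := inferInstanceAs (Epi (cokernel.π (Injective.ι X))) }
  have := hS.mono_f
  have hEF : (S.map F).Exact :=
    hS.exact.map_of_mono_of_preservesKernel F hS.mono_f inferInstance
  have hE : (S.map (Src F 0)).Exact :=
    (ShortComplex.exact_iff_of_iso (S.mapNatIso (srcIso F))).2 hEF
  exact isIso_uN_zero_of F hS (Injective.ι X) (𝟙 _) (Category.comp_id _) hE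
    (mono_Src_map F S.f) (mono_uN_zero F S.X₃)

lemma acy_iff_isIso_unit (X : C) :
    Acy F X ↔ IsIso (F.rightDerivedFunctorPlusUnit.app
      ((HomotopyCategory.Plus.singleFunctor C 0).obj X)) := by
  rw [isIso_unit_sgl_iff]
  constructor
  · intro h n
    by_cases hn : n = 0
    · subst hn; exact isIso_uN_zero F X
    · have hsrc := isZero_Src_obj F n hn X
      have htgt : IsZero ((RnF F n).obj X) := by
        by_cases hneg : n < 0
        · exact isZero_RnF_obj_of_neg F n hneg X
        · exact h n (by omega)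
      exact ⟨⟨0, hsrc.eq_of_src _ _, htgt.eq_of_src _ _⟩⟩
  · intro h n hn
    have := h n
    exact IsZero.of_iso (isZero_Src_obj F n (by omega) X) (asIso ((uN F n).app X)).symm

lemma shortExact_map_of_acy {S : ShortComplex C} (hS : S.ShortExact) (h₁ : Acy F S.X₁) :
    (S.map F).ShortExact := by
  have hepiR : Epi ((RnF F 0).map S.g) := by
    obtain ⟨δ, w₁, w₂, e₁, e₂⟩ := RnF_exists_δ F hS 0 1 (by norm_num)
    exact e₁.epi_f ((h₁ 1 (by norm_num)).eq_of_tgt _ _)
  have i2 := isIso_uN_zero F S.X₂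
  have i3 := isIso_uN_zero F S.X₃
  have hepiS : Epi ((Src F 0).map S.g) := by
    have nat := (uN F 0).naturality S.g
    have h0 : Epi ((Src F 0).map S.g ≫ (uN F 0).app S.X₃) := by
      rw [nat]; exact epi_comp _ _
    have h := epi_comp ((Src F 0).map S.g ≫ (uN F 0).app S.X₃) (inv ((uN F 0).app S.X₃))
    simpa using h
  have hepiF : Epi (F.map S.g) := by
    have nat := (srcIso F).hom.naturality S.g
    have h0 : Epi ((srcIso F).hom.app S.X₂ ≫ F.map S.g) := by
      rw [← nat]; exact epi_comp _ _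
    exact epi_of_epi ((srcIso F).hom.app S.X₂) _
  have := hS.mono_f
  exact { exact := hS.exact.map_of_mono_of_preservesKernel F hS.mono_f inferInstance
          mono_f := inferInstanceAs (Mono (F.map S.f))
          epi_g := hepiF }

/-- The cycles of an exact bounded below complex of acyclic objects are acyclic. -/
lemma acy_kernel_of_exact (M : CochainComplex C ℤ) (a : ℤ) [M.IsStrictlyGE a]
    (hex : ∀ n, M.ExactAt n) (hac : ∀ n, Acy F (M.X n)) :
    ∀ (j k : ℤ), j + 1 = k → Acy F (kernel (M.d j k)) := by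
  have hlow : ∀ (j k : ℤ), j < a → Acy F (kernel (M.d j k)) := by
    intro j k hj
    apply acy_of_isZero
    have hz : IsZero (M.X j) := M.isZero_of_isStrictlyGE a j hj
    exact IsZero.of_mono (kernel.ι (M.d j k)) hz
  have key : ∀ (m : ℕ) (j k : ℤ), j = a - 1 + m → j + 1 = k → Acy F (kernel (M.d j k)) := by
    intro m
    induction m with
    | zero =>
      intro j k hj _
      exact hlow j k (by simp at hj; omega)
    | succ m ih =>
      intro j k hj hjk
      have ih' := ih (j - 1) j (by push_cast at hj; omega) (by omega)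
      have hS := cycSC_shortExact M (j - 1) j k (by omega) hjk (hex j)
      exact acy_X₃ F hS ih' (hac (j - 1))
  intro j k hjk
  by_cases hj : j < a
  · exact hlow j k hj
  · obtain ⟨m, hm⟩ : ∃ m : ℕ, j = a - 1 + m := ⟨(j - (a - 1)).toNat, by omega⟩
    exact key m j k hm hjk

/-- `F` maps an exact bounded below complex of acyclic objects to an exact complex. -/
theorem exactAt_map_of_acy (M : CochainComplex C ℤ) (a : ℤ) [M.IsStrictlyGE a]
    (hex : ∀ n, M.ExactAt n) (hac : ∀ n, Acy F (M.X n)) (j : ℤ) :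
    ((F.mapHomologicalComplex (ComplexShape.up ℤ)).obj M).ExactAt j := by
  have hker := acy_kernel_of_exact F M a hex hac
  rw [HomologicalComplex.exactAt_iff' _ (j - 1) j (j + 1) (by simp) (by simp)]
  -- the two short exact sequences
  have hT₁ := shortExact_map_of_acy F (cycSC_shortExact M (j - 1) j (j + 1) (by omega) rfl (hex j))
    (hker (j - 1) j (by omega))
  have hT₂ := shortExact_map_of_acy F
    (cycSC_shortExact M j (j + 1) (j + 1 + 1) rfl rfl (hex (j + 1))) (hker j (j + 1) rfl)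
  have hepi : Epi (F.map (kernel.lift (M.d j (j + 1)) (M.d (j - 1) j) (M.d_comp_d _ _ _))) :=
    hT₁.epi_g
  have hmono : Mono (F.map (kernel.ι (M.d (j + 1) (j + 1 + 1)))) := inferInstance
  let E : ShortComplex D := (cycSC M j (j + 1) (j + 1 + 1)).map F
  have hE : E.Exact := hT₂.exact
  have w₁ : F.map (M.d (j - 1) j) ≫
      F.map (kernel.lift (M.d (j + 1) (j + 1 + 1)) (M.d j (j + 1)) (M.d_comp_d _ _ _)) = 0 := by
    rw [← F.map_comp]
    have : M.d (j - 1) j ≫ kernel.lift (M.d (j + 1) (j + 1 + 1)) (M.d j (j + 1))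
        (M.d_comp_d _ _ _) = 0 := by
      rw [← cancel_mono (kernel.ι (M.d (j + 1) (j + 1 + 1))), Category.assoc, kernel.lift_ι,
        M.d_comp_d, zero_comp]
    rw [this, F.map_zero]
  let S₁ : ShortComplex D := ShortComplex.mk _ _ w₁
  let S₀ : ShortComplex D := ShortComplex.mk (F.map (M.d (j - 1) j)) (F.map (M.d j (j + 1)))
    (by rw [← F.map_comp, M.d_comp_d, F.map_zero])
  change S₀.Exact
  let ψ₁ : S₁ ⟶ E :=
    { τ₁ := F.map (kernel.lift (M.d j (j + 1)) (M.d (j - 1) j) (M.d_comp_d _ _ _))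
      τ₂ := 𝟙 _
      τ₃ := 𝟙 _
      comm₁₂ := by
        change F.map (kernel.lift (M.d j (j + 1)) (M.d (j - 1) j) (M.d_comp_d _ _ _)) ≫
          F.map (kernel.ι (M.d j (j + 1))) = F.map (M.d (j - 1) j) ≫ 𝟙 _
        rw [← F.map_comp, kernel.lift_ι, Category.comp_id]
      comm₂₃ := by
        change 𝟙 _ ≫ F.map (kernel.lift (M.d (j + 1) (j + 1 + 1)) (M.d j (j + 1))
          (M.d_comp_d _ _ _)) = F.map (kernel.lift (M.d (j + 1) (j + 1 + 1)) (M.d j (j + 1))
          (M.d_comp_d _ _ _)) ≫ 𝟙 _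
        rw [Category.comp_id, Category.id_comp] }
  have hS₁ : S₁.Exact := by
    have h1 : Epi ψ₁.τ₁ := hepi
    have h2 : IsIso ψ₁.τ₂ := IsIso.id _
    have h3 : Mono ψ₁.τ₃ := @IsIso.mono_of_iso _ _ _ _ _ (IsIso.id _)
    exact (ShortComplex.exact_iff_of_epi_of_isIso_of_mono ψ₁).2 hE
  let ψ₂ : S₁ ⟶ S₀ :=
    { τ₁ := 𝟙 _
      τ₂ := 𝟙 _
      τ₃ := F.map (kernel.ι (M.d (j + 1) (j + 1 + 1)))
      comm₁₂ := by
        change 𝟙 _ ≫ F.map (M.d (j - 1) j) = F.map (M.d (j - 1) j) ≫ 𝟙 _
        rw [Category.comp_id, Category.id_comp]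
      comm₂₃ := by
        change 𝟙 _ ≫ F.map (M.d j (j + 1)) =
          F.map (kernel.lift (M.d (j + 1) (j + 1 + 1)) (M.d j (j + 1)) (M.d_comp_d _ _ _)) ≫
            F.map (kernel.ι (M.d (j + 1) (j + 1 + 1)))
        rw [← F.map_comp, kernel.lift_ι, Category.id_comp] }
  have h1 : Epi ψ₂.τ₁ := @IsIso.epi_of_iso _ _ _ _ _ (IsIso.id _)
  have h2 : IsIso ψ₂.τ₂ := IsIso.id _
  have h3 : Mono ψ₂.τ₃ := hmono
  exact (ShortComplex.exact_iff_of_epi_of_isIso_of_mono ψ₂).1 hS₁

/-- `F` maps a quasi-isomorphism between bounded below complexes of acyclic objects to a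
quasi-isomorphism. -/
theorem quasiIso_map_of_acy {K L : CochainComplex C ℤ} (φ : K ⟶ L) (a : ℤ) [K.IsStrictlyGE a]
    [L.IsStrictlyGE a] [QuasiIso φ] (hK : ∀ n, Acy F (K.X n)) (hL : ∀ n, Acy F (L.X n)) :
    QuasiIso ((F.mapHomologicalComplex (ComplexShape.up ℤ)).map φ) := by
  have hcone : ∀ n, (CochainComplex.mappingCone φ).ExactAt n :=
    (quasiIso_iff_acyclic_mappingCone φ).1 inferInstance
  haveI : (CochainComplex.mappingCone φ).IsStrictlyGE (a - 1) :=
    CochainComplex.isStrictlyGE_mappingCone φ a a (a - 1)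
  have hterms : ∀ n, Acy F ((CochainComplex.mappingCone φ).X n) := fun n =>
    acy_of_iso F (HomologicalComplex.homotopyCofiber.XIsoBiprod φ n (n + 1) rfl).symm
      (acy_biprod F (hK (n + 1)) (hL n))
  have h := exactAt_map_of_acy F (CochainComplex.mappingCone φ) (a - 1) hcone hterms
  rw [quasiIso_iff_acyclic_mappingCone]
  intro n
  exact (h n).of_iso (CochainComplex.mappingCone.mapHomologicalComplexIso φ F)

/-- **Leray's acyclicity lemma**, unit form. -/
theorem isIso_unit_of_acy (K : CochainComplex.Plus C) (hK : ∀ n, Acy F (K.obj.X n)) :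
    IsIso (F.rightDerivedFunctorPlusUnit.app ((HomotopyCategory.Plus.quotient C).obj K)) := by
  obtain ⟨a, ha⟩ := K.property
  obtain ⟨L, hL, hinj, s, hs⟩ := exists_injective_resolution K a
  have : ∀ m, Injective (L.obj.X m) := hinj
  rw [isIso_unit_app_quotient_iff F s]
  exact quasiIso_map_of_acy F s.hom a hK (fun n => acy_of_injective F (L.obj.X n))

end LeftExact

end Groth.Agent.H45.RDP
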