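import Groth.Agent.H45.AdjComplexes
import Mathlib.Algebra.Homology.HomotopyCategory.KInjective

/-!
# The right adjoint of an exact functor preserves K-injective complexes
-/

set_option autoImplicit false
universe v v' u u'
open CategoryTheory CategoryTheory.Limits

namespace Groth.Agent.H45

variable {A : Type u} [Category.{v} A] [Abelian A] {B : Type u'} [Category.{v'} B] [Abelian B]
  {L : B ⥤ A} {R : A ⥤ B} (adj : L ⊣ R) [L.Additive] [R.Additive]
  [PreservesFiniteLimits L] [PreservesFiniteColimits L]

omit [R.Additive] in
lemma acyclic_map_of_exact (K : CochainComplex B ℤ) (hK : K.Acyclic) :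
    ((L.mapHomologicalComplex (ComplexShape.up ℤ)).obj K).Acyclic := fun i =>
  (hK i).map L

include adj in
/-- If `L ⊣ R` with `L` exact, then `R` preserves K-injective complexes. -/
theorem isKInjective_map_of_adj (I : CochainComplex A ℤ) [I.IsKInjective] :
    CochainComplex.IsKInjective ((R.mapHomologicalComplex (ComplexShape.up ℤ)).obj I) where
  nonempty_homotopy_zero {K} f hK := by
    let adjC := adjMapHomologicalComplex adj (ComplexShape.up ℤ)
    let f' : (L.mapHomologicalComplex (ComplexShape.up ℤ)).obj K ⟶ I := (adjC.homEquiv K I).symm f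
    have hf : f = adjC.unit.app K ≫ (R.mapHomologicalComplex (ComplexShape.up ℤ)).map f' := by
      have := adjC.homEquiv_unit (X := K) (Y := I) (f := f')
      rw [← this, Equiv.apply_symm_apply]
    have h : Homotopy f' 0 :=
      CochainComplex.IsKInjective.homotopyZero f' (acyclic_map_of_exact K hK)
    refine ⟨(Homotopy.ofEq hf).trans (((R.mapHomotopy h).compLeft (adjC.unit.app K)).trans
      (Homotopy.ofEq ?_))⟩
    simp

end Groth.Agent.H45
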