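import Groth.Prelude.Def_WeakSerre
import Mathlib.Algebra.Homology.DerivedCategory.HomologySequence
import Mathlib.Algebra.Homology.ShortComplex.ExactFunctor
import Mathlib.CategoryTheory.Abelian.Basic

/-!
# Weak Serre subcategories: five-term exact sequences and distinguished triangles
-/

set_option autoImplicit false
universe w v u
open CategoryTheory CategoryTheory.Limits Pretriangulated

namespace Groth.Agent.H45

section FiveTerm

variable {C : Type u} [Category.{v} C] [Abelian C]

/-- In an exact sequence `A₁ ⟶ A₂ ⟶ M ⟶ A₄ ⟶ A₅` whose four outer terms lie in a weak Serre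
subcategory, the middle term does too. -/
theorem prop_of_five_term_exact (P : ObjectProperty C) [WSerre.IsWeakSerre P]
    {A₁ A₂ M A₄ A₅ : C} (f : A₁ ⟶ A₂) (g : A₂ ⟶ M) (h : M ⟶ A₄) (k : A₄ ⟶ A₅)
    (w₁ : f ≫ g = 0) (w₂ : g ≫ h = 0) (w₃ : h ≫ k = 0)
    (e₁ : (ShortComplex.mk f g w₁).Exact) (e₂ : (ShortComplex.mk g h w₂).Exact)
    (e₃ : (ShortComplex.mk h k w₃).Exact)
    (h₁ : P A₁) (h₂ : P A₂) (h₄ : P A₄) (h₅ : P A₅) : P M := by
  -- the coimage of `h` is a kernel of `k`
  have hI : P (Abelian.coimage h) := by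
    have wm : Abelian.factorThruCoimage h ≫ k = 0 := by
      rw [← cancel_epi (Abelian.coimage.π h), ← Category.assoc, Abelian.coimage.fac, w₃, comp_zero]
    let T₃ : ShortComplex C := ShortComplex.mk (Abelian.factorThruCoimage h) k wm
    let φ : ShortComplex.mk h k w₃ ⟶ T₃ :=
      { τ₁ := Abelian.coimage.π h
        τ₂ := 𝟙 _
        τ₃ := 𝟙 _
        comm₁₂ := by simp [T₃]
        comm₂₃ := by simp [T₃] }
    have : Epi φ.τ₁ := by dsimp [φ]; infer_instance
    have : IsIso φ.τ₂ := by dsimp [φ]; infer_instance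
    have : Mono φ.τ₃ := by dsimp [φ]; infer_instance
    have hT₃ : T₃.Exact := (ShortComplex.exact_iff_of_epi_of_isIso_of_mono φ).1 e₃
    have : Mono T₃.f := by dsimp [T₃]; infer_instance
    exact P.prop_of_isLimit_kernelFork hT₃.fIsKernel h₄ h₅
  -- the kernel of `h` is a cokernel of `f`
  have hK : P (kernel h) := by
    have wg : f ≫ kernel.lift h g w₂ = 0 := by
      rw [← cancel_mono (kernel.ι h), Category.assoc, kernel.lift_ι, w₁, zero_comp]
    let T₁ : ShortComplex C := ShortComplex.mk f (kernel.lift h g w₂) wg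
    let φ : T₁ ⟶ ShortComplex.mk f g w₁ :=
      { τ₁ := 𝟙 _
        τ₂ := 𝟙 _
        τ₃ := kernel.ι h
        comm₁₂ := by simp [T₁]
        comm₂₃ := by simp [T₁] }
    have : Epi φ.τ₁ := by dsimp [φ]; infer_instance
    have : IsIso φ.τ₂ := by dsimp [φ]; infer_instance
    have : Mono φ.τ₃ := by dsimp [φ]; infer_instance
    have hT₁ : T₁.Exact := (ShortComplex.exact_iff_of_epi_of_isIso_of_mono φ).2 e₁
    have : Epi T₁.g := by
      dsimp [T₁]
      exact e₂.epi_kernelLift
    exact P.prop_of_isColimit_cokernelCofork hT₁.gIsCokernel h₁ h₂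
  -- `M` is an extension
  let S : ShortComplex C := ShortComplex.mk (kernel.ι h) (Abelian.coimage.π h) (by
    simp [Abelian.coimage.π])
  have hS : S.ShortExact :=
    { exact := ShortComplex.exact_of_g_is_cokernel S (cokernelIsCokernel (kernel.ι h))
      mono_f := by dsimp [S]; infer_instance
      epi_g := by dsimp [S]; infer_instance }
  exact P.prop_X₂_of_shortExact hS hK hI

end FiveTerm

section Triangle

open DerivedCategory

variable {C : Type u} [Category.{v} C] [Abelian C] [HasDerivedCategory.{w} C]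

/-- For a weak Serre subcategory `P`, objects of `D(C)` with cohomology in `P` are closed under
extensions in distinguished triangles. -/
theorem cohIn_obj₂_of_distTriang (P : ObjectProperty C) [WSerre.IsWeakSerre P]
    (T : Triangle (DerivedCategory C)) (hT : T ∈ distTriang _)
    (h₁ : WSerre.cohIn P T.obj₁) (h₃ : WSerre.cohIn P T.obj₃) : WSerre.cohIn P T.obj₂ := by
  intro i
  exact prop_of_five_term_exact P
    (HomologySequence.δ T (i - 1) i (by omega))
    ((homologyFunctor C i).map T.mor₁) ((homologyFunctor C i).map T.mor₂)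
    (HomologySequence.δ T i (i + 1) rfl)
    (HomologySequence.δ_comp T hT (i - 1) i (by omega))
    (by rw [← Functor.map_comp, comp_distTriang_mor_zero₁₂ _ hT, Functor.map_zero])
    (HomologySequence.comp_δ T hT i (i + 1) rfl)
    (HomologySequence.exact₁ T hT (i - 1) i (by omega))
    (HomologySequence.exact₂ T hT i)
    (HomologySequence.exact₃ T hT i (i + 1) rfl)
    (h₃ (i - 1)) (h₁ i) (h₃ i) (h₁ (i + 1))

/-- `cohIn P` is closed under isomorphisms for `P` closed under isomorphisms. -/
theorem cohIn_of_iso (P : ObjectProperty C) [P.IsClosedUnderIsomorphisms]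
    {X Y : DerivedCategory C} (e : X ≅ Y) (hX : WSerre.cohIn P X) : WSerre.cohIn P Y :=
  fun i => P.prop_of_iso ((homologyFunctor C i).mapIso e) (hX i)

instance (P : ObjectProperty C) [P.IsClosedUnderIsomorphisms] :
    (WSerre.cohIn P).IsClosedUnderIsomorphisms where
  of_iso e hX := cohIn_of_iso P e hX

end Triangle

end Groth.Agent.H45
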