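import Groth.Agent.H45.Acyclic3

/-!
# Composition of right derived functors on `D⁺`

If `F` sends injective objects to right `G`-acyclic objects (with `G` left exact) and
`e : F ⋙ G ≅ H`, then `R⁺F ⋙ R⁺G ≅ R⁺H`.
-/

set_option autoImplicit false
universe w₁ w₂ w₃ v₁ v₂ v₃ u₁ u₂ u₃
open CategoryTheory CategoryTheory.Limits

namespace Groth.Agent.H45.RDP

variable {A : Type u₁} {B : Type u₂} {C : Type u₃}
  [Category.{v₁} A] [Category.{v₂} B] [Category.{v₃} C] [Abelian A] [Abelian B] [Abelian C]
  [HasDerivedCategory.{w₁} A] [HasDerivedCategory.{w₂} B] [HasDerivedCategory.{w₃} C]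
  [EnoughInjectives A] [EnoughInjectives B]
  (F : A ⥤ B) [F.Additive] (G : B ⥤ C) [G.Additive] [PreservesFiniteLimits G]
  (H : A ⥤ C) [H.Additive] (e : F ⋙ G ≅ H)

/-- The natural transformation exhibiting `R⁺F ⋙ R⁺G` as a right derived functor of `H ≅ F ⋙ G`. -/
noncomputable def compUnit :
    H.mapHomotopyCategoryPlus ⋙ DerivedCategory.Plus.Qh ⟶
      DerivedCategory.Plus.Qh ⋙ (F.rightDerivedFunctorPlus ⋙ G.rightDerivedFunctorPlus) :=
  Functor.whiskerRight (Functor.mapHomotopyCategoryPlusCompIso e).inv DerivedCategory.Plus.Qh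
    ≫ (Functor.associator _ _ _).hom
    ≫ Functor.whiskerLeft F.mapHomotopyCategoryPlus G.rightDerivedFunctorPlusUnit
    ≫ (Functor.associator _ _ _).inv
    ≫ Functor.whiskerRight F.rightDerivedFunctorPlusUnit G.rightDerivedFunctorPlus
    ≫ (Functor.associator _ _ _).hom

theorem isRightDerivedFunctor_comp (hFG : ∀ I : A, Injective I → Acy G (F.obj I)) :
    (F.rightDerivedFunctorPlus ⋙ G.rightDerivedFunctorPlus).IsRightDerivedFunctor
      (compUnit F G H e) (HomotopyCategory.Plus.quasiIso A) := by
  refine (HomotopyCategory.Plus.localizerMorphism_derives _).isRightDerivedFunctor_of_isIso _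
    (fun X => ?_)
  obtain ⟨X₀, rfl⟩ := HomotopyCategory.Plus.quotient_obj_surjective X
  have h1 : IsIso (F.rightDerivedFunctorPlusUnit.app
      ((InjectiveObject.ι A).mapHomotopyCategoryPlus.obj
        ((HomotopyCategory.Plus.quotient (InjectiveObject A)).obj X₀))) := inferInstance
  have h2 : IsIso (G.rightDerivedFunctorPlusUnit.app
      (F.mapHomotopyCategoryPlus.obj ((InjectiveObject.ι A).mapHomotopyCategoryPlus.obj
        ((HomotopyCategory.Plus.quotient (InjectiveObject A)).obj X₀)))) := by
    refine isIso_unit_of_acy G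
      (F.mapCochainComplexPlus.obj ((InjectiveObject.ι A).mapCochainComplexPlus.obj X₀)) ?_
    intro n
    exact hFG _ (X₀.obj.X n).property
  have h3 : IsIso (G.rightDerivedFunctorPlus.map (F.rightDerivedFunctorPlusUnit.app
      ((InjectiveObject.ι A).mapHomotopyCategoryPlus.obj
        ((HomotopyCategory.Plus.quotient (InjectiveObject A)).obj X₀)))) := inferInstance
  simp only [compUnit, NatTrans.comp_app, Functor.whiskerRight_app, Functor.whiskerLeft_app,
    Functor.associator_hom_app, Functor.associator_inv_app, Category.id_comp, Category.comp_id]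
  infer_instance

include e in
/-- `R⁺F ⋙ R⁺G ≅ R⁺H` when `F` sends injectives to `G`-acyclics and `F ⋙ G ≅ H`. -/
theorem nonempty_comp_iso (hFG : ∀ I : A, Injective I → Acy G (F.obj I)) :
    Nonempty (F.rightDerivedFunctorPlus ⋙ G.rightDerivedFunctorPlus ≅
      H.rightDerivedFunctorPlus) := by
  have := isRightDerivedFunctor_comp F G H e hFG
  exact ⟨Functor.rightDerivedUnique _ _ (compUnit F G H e) H.rightDerivedFunctorPlusUnit
    (HomotopyCategory.Plus.quasiIso A)⟩

include e in
/-- Variant: `F` preserves injective objects. -/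
theorem nonempty_comp_iso_of_preservesInjectives
    (hF : ∀ I : A, Injective I → Injective (F.obj I)) :
    Nonempty (F.rightDerivedFunctorPlus ⋙ G.rightDerivedFunctorPlus ≅
      H.rightDerivedFunctorPlus) :=
  nonempty_comp_iso F G H e (fun I hI => by
    haveI := hF I hI
    exact acy_of_injective G (F.obj I))

end Groth.Agent.H45.RDP
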