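import Groth.Agent.H45.GammaZMod
import Groth.Agent.H22.QCohAbelian
import Groth.Agent.H22.QCohLimits
import Groth.Agent.H8.QCohPush

/-!
# Helper library (helper45): quasi-coherence of the local cohomology sheaves `ℋ^q_Z(M)`,
given quasi-coherence of the higher direct images `R^p j_*(M|_U)`.
-/

set_option autoImplicit false
set_option linter.style.haveILetI false
universe u
open CategoryTheory CategoryTheory.Limits AlgebraicGeometry

namespace Groth.Agent.H45.GammaZMod

variable {U Y : Scheme.{u}} (j : U ⟶ Y) [IsOpenImmersion j] [QuasiCompact j]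
  [HasInjectiveResolutions Y.Modules] [HasInjectiveResolutions U.Modules]

theorem isQCoh_HZshM (M : Y.Modules) (hM : Coh.IsQCoh M)
    (h30 : ∀ p : ℕ, Coh.IsQCoh (((Scheme.Modules.pushforward j).rightDerived p).obj
      ((Scheme.Modules.restrictFunctor j).obj M))) (q : ℕ) :
    Coh.IsQCoh ((LocCohZ.HZshM j q).obj M) := by
  haveI : M.IsQuasicoherent := hM
  haveI : ((Scheme.Modules.restrictFunctor j).obj M).IsQuasicoherent := inferInstance
  haveI : QuasiSeparated j := inferInstance
  haveI : ((Scheme.Modules.pushforward j).obj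
      ((Scheme.Modules.restrictFunctor j).obj M)).IsQuasicoherent :=
    Groth.Agent.H8.isQuasicoherent_pushforward j _
  have hN : ((Scheme.Modules.restrictFunctor j ⋙ Scheme.Modules.pushforward j).obj
      M).IsQuasicoherent := this
  haveI : ((𝟭 Y.Modules).obj M).IsQuasicoherent := hM
  match q with
  | 0 =>
    haveI : (kernel ((η j).app M)).IsQuasicoherent :=
      Groth.Agent.H22.QCohLimits.isQuasicoherent_kernel _
    haveI : ((DCoh.gammaZ j).obj M).IsQuasicoherent := this
    exact Groth.Agent.H22.QCohLimits.isQuasicoherent_of_iso ((HZshMZeroIso j).app M).symm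
  | 1 =>
    haveI : (cokernel ((η j).app M)).IsQuasicoherent :=
      Groth.Agent.H22.QCohAbelian.isQuasicoherent_cokernel _
    exact Groth.Agent.H22.QCohLimits.isQuasicoherent_of_iso (HZshMOneIso j M).symm
  | (i + 2) =>
    haveI : ((Scheme.Modules.restrictFunctor j ⋙
        (Scheme.Modules.pushforward j).rightDerived (i + 1)).obj M).IsQuasicoherent := h30 (i + 1)
    exact Groth.Agent.H22.QCohLimits.isQuasicoherent_of_iso
      ((HZshMSuccIso j (i + 1) (by omega)).app M).symm

end Groth.Agent.H45.GammaZMod
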