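import Groth.Prelude.Def_CohTop
import Mathlib.Topology.Sheaves.SheafCondition.UniqueGluing
import Mathlib.CategoryTheory.Sites.Sheafification

/-!
# Helper library (helper45): the sheafification of a presheaf of abelian groups that vanishes
locally is zero
-/

set_option autoImplicit false
universe u
open CategoryTheory CategoryTheory.Limits TopologicalSpace Opposite

namespace Groth.Agent.H45.SheafifyZero

variable {X : TopCat.{u}}

/-- A morphism from a presheaf which is locally zero to a sheaf is zero. -/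
lemma hom_eq_zero (P : (Opens X)ᵒᵖ ⥤ AddCommGrpCat.{u}) (G : CohTop.Ab X)
    (h : ∀ (V : Opens X) (x : X), x ∈ V → ∃ W : Opens X, x ∈ W ∧ W ≤ V ∧
      Subsingleton (P.obj (op W)))
    (φ : P ⟶ G.obj) : φ = 0 := by
  ext ⟨V⟩ s
  let ι : Type u := {W : Opens X // W ≤ V ∧ Subsingleton (P.obj (op W))}
  refine TopCat.Sheaf.eq_of_locally_eq' (C := AddCommGrpCat.{u}) G (fun i : ι => i.1) V
    (fun i => homOfLE i.2.1) ?_ _ _ ?_
  · intro x hx
    obtain ⟨W, hxW, hWV, hW⟩ := h V x hx
    exact Opens.mem_iSup.2 ⟨⟨W, hWV, hW⟩, hxW⟩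
  · intro i
    haveI := i.2.2
    have h1 := congrArg (fun ψ => (ConcreteCategory.hom ψ) s) (φ.naturality (homOfLE i.2.1).op)
    dsimp at h1
    rw [← h1, Subsingleton.elim (P.map (homOfLE i.2.1).op s) 0]
    simp

/-- The sheafification of a locally zero presheaf is zero. -/
theorem isZero_sheafify (P : (Opens X)ᵒᵖ ⥤ AddCommGrpCat.{u})
    (h : ∀ (V : Opens X) (x : X), x ∈ V → ∃ W : Opens X, x ∈ W ∧ W ≤ V ∧
      Subsingleton (P.obj (op W))) :
    IsZero ((presheafToSheaf (Opens.grothendieckTopology X) AddCommGrpCat.{u}).obj P) := by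
  rw [IsZero.iff_id_eq_zero]
  apply ((sheafificationAdjunction (Opens.grothendieckTopology X)
    AddCommGrpCat.{u}).homEquiv _ _).injective
  rw [hom_eq_zero P _ h ((sheafificationAdjunction (Opens.grothendieckTopology X)
    AddCommGrpCat.{u}).homEquiv _ _ (𝟙 _))]
  exact (hom_eq_zero P _ h _).symm

end Groth.Agent.H45.SheafifyZero
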