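import Groth.Agent.H45.Acyclic

/-!
# Criteria for right acyclicity

* `acyclic_of_class`: objects of an "adapted class" are right acyclic.
* for left exact `F`: `uN F 0` is an isomorphism, and `X` is right acyclic iff `RnF F n X = 0`
  for `n > 0`.
-/

set_option autoImplicit false
universe w w' v v' u u'
open CategoryTheory CategoryTheory.Limits Pretriangulated

namespace Groth.Agent.H45.RDP

variable {C : Type u} [Category.{v} C] [Abelian C] [HasDerivedCategory.{w} C]
  {D : Type u'} [Category.{v'} D] [Abelian D] [HasDerivedCategory.{w'} D]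
  [EnoughInjectives C] (F : C ⥤ D) [F.Additive]

lemma mono_uN_zero_of {X J : C} [Injective J] (j : X ⟶ J) (hj : Mono ((Src F 0).map j)) :
    Mono ((uN F 0).app X) := by
  have nat := (uN F 0).naturality j
  have hJ : IsIso ((uN F 0).app J) := isIso_uN_of_injective F J 0
  have h : Mono ((uN F 0).app X ≫ (RnF F 0).map j) := by
    rw [← nat]; exact mono_comp _ _
  exact mono_of_mono _ ((RnF F 0).map j)

lemma mono_RnF_zero_map_f {S : ShortComplex C} (hS : S.ShortExact) :
    Mono ((RnF F 0).map S.f) := by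
  obtain ⟨δ, w₁, w₂, e₁, e₂⟩ := RnF_exists_δ F hS (-1) 0 (by norm_num)
  have hδ : δ = 0 := (isZero_RnF_obj_of_neg F (-1) (by norm_num) S.X₃).eq_of_src _ _
  exact e₂.mono_g hδ

/-- The key step in degree `0`. -/
lemma isIso_uN_zero_of {S : ShortComplex C} (hS : S.ShortExact) {J : C} [Injective J]
    (j : S.X₁ ⟶ J) (k : J ⟶ S.X₂) (hjk : j ≫ k = S.f)
    (hE : (S.map (Src F 0)).Exact) (hm : Mono ((Src F 0).map S.f))
    (hZ : Mono ((uN F 0).app S.X₃)) :
    IsIso ((uN F 0).app S.X₁) := by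
  have hJ : IsIso ((uN F 0).app J) := isIso_uN_of_injective F J 0
  have hmono : Mono ((uN F 0).app S.X₁) := by
    have hmj : Mono ((Src F 0).map j) := by
      have : Mono ((Src F 0).map j ≫ (Src F 0).map k) := by
        rw [← Functor.map_comp, hjk]; exact hm
      exact mono_of_mono _ ((Src F 0).map k)
    exact mono_uN_zero_of F j hmj
  have hRf : Mono ((RnF F 0).map S.f) := mono_RnF_zero_map_f F hS
  let ρ : (RnF F 0).obj S.X₁ ⟶ (Src F 0).obj S.X₂ :=
    (RnF F 0).map j ≫ inv ((uN F 0).app J) ≫ (Src F 0).map k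
  have hρ : ρ ≫ (uN F 0).app S.X₂ = (RnF F 0).map S.f := by
    dsimp only [ρ]
    rw [Category.assoc, Category.assoc, (uN F 0).naturality k, IsIso.inv_hom_id_assoc,
      ← Functor.map_comp, hjk]
  have hρg : ρ ≫ (Src F 0).map S.g = 0 := by
    rw [← cancel_mono ((uN F 0).app S.X₃), Category.assoc, (uN F 0).naturality S.g,
      ← Category.assoc, hρ, zero_comp]
    exact RnF_map_comp_zero F hS 0
  haveI : Mono (S.map (Src F 0)).f := hm
  let σ : (RnF F 0).obj S.X₁ ⟶ (Src F 0).obj S.X₁ := hE.lift ρ hρg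
  have hσ : σ ≫ (Src F 0).map S.f = ρ := hE.lift_f ρ hρg
  have hsplit : σ ≫ (uN F 0).app S.X₁ = 𝟙 _ := by
    rw [← cancel_mono ((RnF F 0).map S.f), Category.assoc, ← (uN F 0).naturality S.f,
      ← Category.assoc, hσ, hρ, Category.id_comp]
  have : IsSplitEpi ((uN F 0).app S.X₁) := ⟨⟨σ, hsplit⟩⟩
  exact isIso_of_mono_of_isSplitEpi _

/-- The inductive step in positive degrees. -/
lemma isZero_RnF_succ_of {S : ShortComplex C} (hS : S.ShortExact) {J : C} [Injective J]
    (j : S.X₁ ⟶ J) (k : J ⟶ S.X₂) (hjk : j ≫ k = S.f) (n₀ n₁ : ℤ) (h : n₀ + 1 = n₁)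
    (hn : n₁ ≠ 0)
    (hg : ∀ (δ : (RnF F n₀).obj S.X₃ ⟶ (RnF F n₁).obj S.X₁),
      (RnF F n₀).map S.g ≫ δ = 0 → δ = 0) :
    IsZero ((RnF F n₁).obj S.X₁) := by
  obtain ⟨δ, w₁, w₂, e₁, e₂⟩ := RnF_exists_δ F hS n₀ n₁ h
  have hf0 : (RnF F n₁).map S.f = 0 := by
    rw [← hjk, Functor.map_comp,
      (isZero_RnF_obj_of_injective F J n₁ hn).eq_of_tgt ((RnF F n₁).map j) 0, zero_comp]
  have : Epi δ := e₂.epi_f hf0
  exact IsZero.of_epi_eq_zero δ (hg δ w₁)

section Class

variable (I : ObjectProperty C)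
  (h1 : ∀ X : C, ∃ (Y : C) (ι : X ⟶ Y), I Y ∧ Mono ι)
  (h2 : ∀ S : ShortComplex C, S.ShortExact → I S.X₁ → I S.X₂ → I S.X₃ ∧ (S.map F).ShortExact)

include h1 h2 in
lemma exists_data (X : C) (hX : I X) :
    ∃ (S : ShortComplex C) (_ : S.ShortExact) (J : C) (_ : Injective J) (j : X ⟶ J)
      (k : J ⟶ S.X₂) (e : S.X₁ = X), I S.X₂ ∧ I S.X₃ ∧ (S.map F).ShortExact ∧
        j ≫ k = eqToHom e.symm ≫ S.f := by
  obtain ⟨Y, k, hY, hk⟩ := h1 (Injective.under X)
  have hmono : Mono (Injective.ι X ≫ k) := mono_comp _ _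
  let S : ShortComplex C := ShortComplex.mk (Injective.ι X ≫ k) (cokernel.π (Injective.ι X ≫ k))
    (cokernel.condition _)
  have hS : S.ShortExact :=
    { exact := ShortComplex.exact_cokernel _
      mono_f := hmono
      epi_g := inferInstanceAs (Epi (cokernel.π (Injective.ι X ≫ k))) }
  obtain ⟨hZ, hSF⟩ := h2 S hS hX hY
  exact ⟨S, hS, Injective.under X, inferInstance, Injective.ι X, k, rfl, hY, hZ, hSF,
    by simp [S]⟩

include h1 h2 in
lemma mono_uN_zero_of_class (X : C) (hX : I X) : Mono ((uN F 0).app X) := by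
  obtain ⟨S, hS, J, hJ, j, k, e, hY, hZ, hSF, hjk⟩ := exists_data F I h1 h2 X hX
  subst e
  simp only [eqToHom_refl, Category.id_comp] at hjk
  have hSF' : (S.map (Src F 0)).ShortExact :=
    (ShortComplex.shortExact_iff_of_iso (S.mapNatIso (srcIso F))).2 hSF
  have hm : Mono ((Src F 0).map S.f) := hSF'.mono_f
  have hmj : Mono ((Src F 0).map j) := by
    have : Mono ((Src F 0).map j ≫ (Src F 0).map k) := by
      rw [← Functor.map_comp, hjk]; exact hm
    exact mono_of_mono _ ((Src F 0).map k)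
  exact mono_uN_zero_of F j hmj

include h1 h2 in
lemma isIso_uN_zero_of_class (X : C) (hX : I X) : IsIso ((uN F 0).app X) := by
  obtain ⟨S, hS, J, hJ, j, k, e, hY, hZ, hSF, hjk⟩ := exists_data F I h1 h2 X hX
  subst e
  simp only [eqToHom_refl, Category.id_comp] at hjk
  have hSF' : (S.map (Src F 0)).ShortExact :=
    (ShortComplex.shortExact_iff_of_iso (S.mapNatIso (srcIso F))).2 hSF
  exact isIso_uN_zero_of F hS j k hjk hSF'.exact hSF'.mono_f
    (mono_uN_zero_of_class F I h1 h2 S.X₃ hZ)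

include h1 h2 in
lemma isZero_RnF_succ_of_class (m : ℕ) :
    ∀ (X : C), I X → IsZero ((RnF F ((m : ℤ) + 1)).obj X) := by
  induction m with
  | zero =>
    intro X hX
    obtain ⟨S, hS, J, hJ, j, k, e, hY, hZ, hSF, hjk⟩ := exists_data F I h1 h2 X hX
    subst e
    simp only [eqToHom_refl, Category.id_comp] at hjk
    have hSF' : (S.map (Src F 0)).ShortExact :=
      (ShortComplex.shortExact_iff_of_iso (S.mapNatIso (srcIso F))).2 hSF
    have i2 : IsIso ((uN F 0).app S.X₂) := isIso_uN_zero_of_class F I h1 h2 S.X₂ hY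
    have i3 : IsIso ((uN F 0).app S.X₃) := isIso_uN_zero_of_class F I h1 h2 S.X₃ hZ
    have hepi : Epi ((RnF F 0).map S.g) := by
      have e1 : Epi ((Src F 0).map S.g) := hSF'.epi_g
      have nat := (uN F 0).naturality S.g
      have e2 : Epi ((uN F 0).app S.X₂ ≫ (RnF F 0).map S.g) := by
        rw [← nat]; exact epi_comp _ _
      exact epi_of_epi ((uN F 0).app S.X₂) _
    refine isZero_RnF_succ_of F hS j k hjk 0 (((0 : ℕ) : ℤ) + 1) (by norm_num) (by norm_num) ?_
    intro δ hδ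
    rw [← cancel_epi ((RnF F 0).map S.g), hδ, comp_zero]
  | succ m ih =>
    intro X hX
    obtain ⟨S, hS, J, hJ, j, k, e, hY, hZ, hSF, hjk⟩ := exists_data F I h1 h2 X hX
    subst e
    simp only [eqToHom_refl, Category.id_comp] at hjk
    refine isZero_RnF_succ_of F hS j k hjk ((m : ℤ) + 1) (((m + 1 : ℕ) : ℤ) + 1)
      (by push_cast; ring) (by positivity) ?_
    intro δ _
    exact (ih S.X₃ hZ).eq_of_src _ _

include h1 h2 in
/-- Objects of an adapted class are right acyclic. -/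
theorem acyclic_of_class (X : C) (hX : I X) :
    IsIso (F.rightDerivedFunctorPlusUnit.app
      ((HomotopyCategory.Plus.singleFunctor C 0).obj X)) := by
  rw [isIso_unit_sgl_iff]
  intro n
  by_cases hn : n = 0
  · subst hn
    exact isIso_uN_zero_of_class F I h1 h2 X hX
  · have hsrc : IsZero ((Src F n).obj X) := isZero_Src_obj F n hn X
    have htgt : IsZero ((RnF F n).obj X) := by
      by_cases hneg : n < 0
      · exact isZero_RnF_obj_of_neg F n hneg X
      · obtain ⟨m, rfl⟩ : ∃ m : ℕ, n = (m : ℤ) + 1 :=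
          ⟨(n - 1).toNat, by omega⟩
        exact isZero_RnF_succ_of_class F I h1 h2 m X hX
    exact ⟨⟨0, hsrc.eq_of_src _ _, htgt.eq_of_src _ _⟩⟩

end Class

end Groth.Agent.H45.RDP
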