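import Groth.Agent.H45.OverShriek
import Mathlib.CategoryTheory.MorphismProperty.OverAdjunction

/-!
# `j_!` along `MorphismProperty.Over.map` is exact on abelian sheaves
-/

set_option autoImplicit false
universe v₁ u₁ u
open CategoryTheory CategoryTheory.Limits Opposite

namespace Groth.Agent.H45

section

variable {C : Type u₁} [Category.{v₁} C] {P : MorphismProperty C} [P.IsStableUnderComposition]
  [P.HasOfPostcompProperty P]
  {X Y : C} {f : X ⟶ Y} (hf : P f) (V : P.Over ⊤ Y)

omit [P.IsStableUnderComposition] in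
lemma mpOver_prop_left (φ : V ⟶ MorphismProperty.Over.mk ⊤ f hf) : P φ.left := by
  refine P.of_postcomp (W' := P) φ.left f hf ?_
  have : φ.left ≫ f = V.hom := MorphismProperty.Over.w φ
  rw [this]
  exact V.prop

/-- The structure morphism `V ⟶ (Over.map f).obj (Over.mk φ.left)`. -/
abbrev mpOverMapStr (φ : V ⟶ MorphismProperty.Over.mk ⊤ f hf) :
    V ⟶ (MorphismProperty.Over.map ⊤ hf).obj
      (MorphismProperty.Over.mk ⊤ φ.left (mpOver_prop_left hf V φ)) :=
  MorphismProperty.Over.homMk (𝟙 V.left) (by
    have : φ.left ≫ f = V.hom := MorphismProperty.Over.w φ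
    change 𝟙 V.left ≫ φ.left ≫ f = V.hom
    rw [Category.id_comp, this]) trivial

/-- The "terminal objects" of the connected components of
`CostructuredArrow (Over.map f).op (op V)`. -/
abbrev mpOverMapSection : Discrete (V ⟶ MorphismProperty.Over.mk ⊤ f hf) ⥤
    CostructuredArrow (MorphismProperty.Over.map ⊤ hf).op (op V) :=
  Discrete.functor (fun φ =>
    CostructuredArrow.mk (Y := op (MorphismProperty.Over.mk ⊤ φ.left (mpOver_prop_left hf V φ)))
      (mpOverMapStr hf V φ).op)

lemma mpOverMapSection_hom_eq {k : CostructuredArrow (MorphismProperty.Over.map ⊤ hf).op (op V)}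
    {φ : V ⟶ MorphismProperty.Over.mk ⊤ f hf}
    (a : k ⟶ (mpOverMapSection hf V).obj ⟨φ⟩) :
    a.left.unop.left = k.hom.unop.left := by
  rw [← CostructuredArrow.w a]
  exact (Category.id_comp (X := V.left) a.left.unop.left).symm

lemma mpOverMapSection_eq {k : CostructuredArrow (MorphismProperty.Over.map ⊤ hf).op (op V)}
    {φ : V ⟶ MorphismProperty.Over.mk ⊤ f hf}
    (a : k ⟶ (mpOverMapSection hf V).obj ⟨φ⟩) :
    φ.left = k.hom.unop.left ≫ k.left.unop.hom := by
  have h := MorphismProperty.Over.w a.left.unop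
  rw [mpOverMapSection_hom_eq hf V a] at h
  exact h.symm

instance mpOverMapSection_final : (mpOverMapSection hf V).Final := by
  constructor
  intro k
  let φ₀ : V ⟶ MorphismProperty.Over.mk ⊤ f hf :=
    MorphismProperty.Over.homMk (k.hom.unop.left ≫ k.left.unop.hom) (by
      have : k.hom.unop.left ≫ k.left.unop.hom ≫ f = V.hom := MorphismProperty.Over.w k.hom.unop
      exact (Category.assoc _ _ _).trans this) trivial
  let a₀ : k ⟶ (mpOverMapSection hf V).obj ⟨φ₀⟩ :=
    CostructuredArrow.homMk (Quiver.Hom.op (MorphismProperty.Over.homMk k.hom.unop.left rfl trivial))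
      (by
        apply Quiver.Hom.unop_inj
        apply MorphismProperty.Over.Hom.ext
        exact Category.id_comp (X := V.left) k.hom.unop.left)
  haveI : Nonempty (StructuredArrow k (mpOverMapSection hf V)) := ⟨StructuredArrow.mk a₀⟩
  refine zigzag_isConnected (fun s₁ s₂ => ?_)
  suffices ∀ s : StructuredArrow k (mpOverMapSection hf V), s = StructuredArrow.mk a₀ by
    rw [this s₁, this s₂]
  intro s
  obtain ⟨⟨⟩, ⟨φ⟩, a⟩ := s
  have hφ : φ = φ₀ := MorphismProperty.Over.Hom.ext (mpOverMapSection_eq hf V a)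
  subst hφ
  congr 1
  apply CostructuredArrow.hom_ext
  apply Quiver.Hom.unop_inj
  apply MorphismProperty.Over.Hom.ext
  exact mpOverMapSection_hom_eq hf V a

end

end Groth.Agent.H45
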