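import Mathlib.CategoryTheory.Functor.Flat
import Mathlib.CategoryTheory.Sites.Pullback
import Mathlib.CategoryTheory.Abelian.GrothendieckAxioms.Basic

/-!
# Left Kan extension along a representably flat functor is left exact (general universes)

Mathlib proves `lan_preservesFiniteLimits_of_flat` for small categories only. Here the same
statement is proved in arbitrary universes, under the assumption that the colimits over the
relevant costructured arrow categories exist and are exact.
-/

set_option autoImplicit false
universe v₁ v₂ v₃ u₁ u₂ u₃
open CategoryTheory CategoryTheory.Limits Opposite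

namespace Groth.Agent.H45

variable {C : Type u₁} [Category.{v₁} C] {D : Type u₂} [Category.{v₂} D]
  (E : Type u₃) [Category.{v₃} E]

set_option backward.defeqAttrib.useBackward true in
set_option backward.isDefEq.respectTransparency false in
/-- General universes version of `CategoryTheory.lanEvaluationIsoColim`. -/
noncomputable def lanEvaluationIsoColim' (F : C ⥤ D) (X : D)
    [∀ X : D, HasColimitsOfShape (CostructuredArrow F X) E] :
    F.lan ⋙ (evaluation D E).obj X ≅
      (Functor.whiskeringLeft _ _ E).obj (CostructuredArrow.proj F X) ⋙ colim :=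
  NatIso.ofComponents (fun G =>
    IsColimit.coconePointUniqueUpToIso
    (Functor.isPointwiseLeftKanExtensionLeftKanExtensionUnit F G X)
    (colimit.isColimit _)) (fun {G₁ G₂} φ => by
      apply (Functor.isPointwiseLeftKanExtensionLeftKanExtensionUnit F G₁ X).hom_ext
      intro T
      have h₁ := fun (G : C ⥤ E) => IsColimit.comp_coconePointUniqueUpToIso_hom
        (Functor.isPointwiseLeftKanExtensionLeftKanExtensionUnit F G X) (colimit.isColimit _) T
      have h₂ := congr_app (F.lanUnit.naturality φ) T.left
      dsimp at h₁ h₂ ⊢
      simp only [Category.assoc] at h₁ ⊢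
      simp only [Functor.lan, Functor.lanUnit] at h₂ ⊢
      rw [reassoc_of% h₁, NatTrans.naturality_assoc, ← reassoc_of% h₂, h₁,
        ι_colimMap, Functor.whiskerLeft_app]
      rfl)

/-- General universes version of `CategoryTheory.lan_preservesFiniteLimits_of_flat`. -/
theorem lan_preservesFiniteLimits_of_flat' (F : C ⥤ D) [RepresentablyFlat F] [HasFiniteLimits E]
    [∀ X : Dᵒᵖ, HasColimitsOfShape (CostructuredArrow F.op X) E]
    [∀ X : Dᵒᵖ, HasExactColimitsOfShape (CostructuredArrow F.op X) E] :
    PreservesFiniteLimits (F.op.lan : (Cᵒᵖ ⥤ E) ⥤ (Dᵒᵖ ⥤ E)) := by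
  constructor
  intro J _ _
  apply preservesLimitsOfShape_of_evaluation (F.op.lan : (Cᵒᵖ ⥤ E) ⥤ Dᵒᵖ ⥤ E) J
  intro K
  exact preservesLimitsOfShape_of_natIso (lanEvaluationIsoColim' E F.op K).symm

/-- The pullback of sheaves along a continuous representably flat functor is left exact, in
general universes, when the relevant colimits in the coefficient category exist and are exact. -/
theorem sheafPullback_preservesFiniteLimits' (G : C ⥤ D) (A : Type u₃) [Category.{v₃} A]
    (J : GrothendieckTopology C) (K : GrothendieckTopology D) [G.IsContinuous J K]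
    [RepresentablyFlat G] [HasFiniteLimits A] [HasSheafify K A] [HasSheafify J A]
    [∀ X : Dᵒᵖ, HasColimitsOfShape (CostructuredArrow G.op X) A]
    [∀ X : Dᵒᵖ, HasExactColimitsOfShape (CostructuredArrow G.op X) A] :
    PreservesFiniteLimits (G.sheafPullback A J K) := by
  have := lan_preservesFiniteLimits_of_flat' A G
  exact Functor.sheafPullbackConstruction.preservesFiniteLimits G A J K

end Groth.Agent.H45
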