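import Groth.Prelude.Def_SixF1
import Groth.Agent.H45.LanExact
import Mathlib.Algebra.Category.ModuleCat.AB
import Mathlib.Algebra.Category.Grp.AB

/-!
# Inverse image of étale sheaves (of modules, of abelian groups) is exact
-/

set_option autoImplicit false
universe u
open CategoryTheory CategoryTheory.Limits AlgebraicGeometry Opposite

namespace Groth.Agent.H45

theorem hasExactColimitsOfShape_costructuredArrow_bc (A : Type (u + 2)) [Category.{u + 1} A]
    [HasFilteredColimitsOfSize.{u + 1, u + 1} A] [AB5OfSize.{u + 1, u + 1} A]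
    {X Y : Scheme.{u}} (f : X ⟶ Y) (K : (X.Etale)ᵒᵖ)
    [HasColimitsOfShape (CostructuredArrow (EtCoh.bc f).op K) A] :
    HasExactColimitsOfShape (CostructuredArrow (EtCoh.bc f).op K) A := by
  have : HasFilteredColimitsOfSize.{u, u + 1} A := hasFilteredColimitsOfSize_of_univLE.{u, u + 1, u + 1, u + 1}
  have : AB5OfSize.{u, u + 1} A := AB5OfSize_of_univLE.{u, u + 1, u + 1, u + 1} A
  have : IsFiltered (CostructuredArrow (EtCoh.bc f).op K) :=
    IsFiltered.of_equivalence (structuredArrowOpEquivalence (EtCoh.bc f) (unop K))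
  exact AB5OfSize.ofShape _

/-- Inverse image of étale sheaves of `Λ`-modules preserves finite limits. -/
theorem preservesFiniteLimits_pullMod (Λ : Type (u + 1)) [CommRing Λ] {X Y : Scheme.{u}}
    (f : X ⟶ Y) : PreservesFiniteLimits (EtModW.pull Λ f) := by
  have : ∀ K : (X.Etale)ᵒᵖ,
      HasExactColimitsOfShape (CostructuredArrow (EtCoh.bc f).op K) (ModuleCat.{u + 1} Λ) :=
    fun K => hasExactColimitsOfShape_costructuredArrow_bc _ f K
  exact sheafPullback_preservesFiniteLimits' (EtCoh.bc f) (ModuleCat.{u + 1} Λ) _ _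

/-- Inverse image of abelian étale sheaves preserves finite limits. -/
theorem preservesFiniteLimits_pullAb {X Y : Scheme.{u}} (f : X ⟶ Y) [EtCoh.BCCont f] :
    PreservesFiniteLimits (EtCoh.pull f) := by
  have : ∀ K : (X.Etale)ᵒᵖ,
      HasExactColimitsOfShape (CostructuredArrow (EtCoh.bc f).op K) AddCommGrpCat.{u + 1} :=
    fun K => hasExactColimitsOfShape_costructuredArrow_bc _ f K
  exact sheafPullback_preservesFiniteLimits' (EtCoh.bc f) AddCommGrpCat.{u + 1} _ _

end Groth.Agent.H45
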