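import Groth.Agent.H45.ExtAdj
import Groth.Agent.H45.Acyclic3
import Groth.Agent.H42.RDBridge
import Groth.Agent.H45.AdjComplexes

/-!
# `Ext^p(L Z, X) ≃+ Ext^p(Z, R X)` for an exact left adjoint `L` and `R`-acyclic `X`
-/

set_option autoImplicit false
universe w w' v v' u u'
open CategoryTheory CategoryTheory.Limits CategoryTheory.Abelian

namespace Groth.Agent.H45.ExtAdj

open Groth.Agent.H45.RDP

section

variable {C : Type u} [Category.{v} C] [Abelian C] [HasDerivedCategory.{w} C]
  {D : Type u'} [Category.{v'} D] [Abelian D] [HasDerivedCategory.{w'} D]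
  [EnoughInjectives C] (F : C ⥤ D) [F.Additive] [PreservesFiniteLimits F]

/-- `Acy` in terms of Mathlib's classical right derived functors. -/
theorem acy_iff_rightDerived (X : C) :
    Acy F X ↔ ∀ i : ℕ, 0 < i → IsZero ((F.rightDerived i).obj X) := by
  rw [acy_iff_isIso_unit, Groth.Agent.H42.RDBridge.isIso_unit_single_iff]
  exact ⟨fun h => h.2, fun h => ⟨inferInstance, h⟩⟩

end

variable {A : Type u} [Category.{v} A] [Abelian A] [HasExt.{w} A] [EnoughInjectives A]
  {B : Type u'} [Category.{v'} B] [Abelian B] [HasExt.{w'} B]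
  {L : B ⥤ A} {R : A ⥤ B} (adj : L ⊣ R) [L.Additive] [R.Additive] [PreservesFiniteLimits L]

include adj in
/-- If `L ⊣ R` with `L` left exact (hence exact) and `X` is right `R`-acyclic, then
`Ext^p(L Z, X) ≃+ Ext^p(Z, R X)`. -/
theorem nonempty_ext_addEquiv_of_rightDerived_isZero (X : A)
    (hX : ∀ i : ℕ, 0 < i → IsZero ((R.rightDerived i).obj X)) (Z : B) (p : ℕ) :
    Nonempty (Ext (L.obj Z) X p ≃+ Ext Z (R.obj X) p) := by
  letI := HasDerivedCategory.standard A
  letI := HasDerivedCategory.standard B
  haveI : PreservesFiniteLimits R := by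
    haveI := adj.rightAdjoint_preservesLimits
    infer_instance
  refine nonempty_addEquiv adj (fun X => Acy R X)
    (fun I _ => Injective.injective_of_adjoint adj I) ?_ Z p X
    ((acy_iff_rightDerived R X).2 hX)
  intro S hS h₁ h₂
  exact ⟨acy_X₃ R hS h₁ (acy_of_injective R S.X₂), shortExact_map_of_acy R hS h₁⟩

end Groth.Agent.H45.ExtAdj

namespace Groth.Agent.H45.ExtAdj

open Groth.Agent.H45.RDP

/-- The higher right derived functors of an exact functor vanish. -/
theorem isZero_rightDerived_of_exact {A B : Type u} [Category.{v} A] [Category.{v} B]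
    [Abelian A] [Abelian B] [EnoughInjectives A] (F : A ⥤ B) [F.Additive]
    [PreservesFiniteLimits F] [PreservesFiniteColimits F] (X : A) (i : ℕ) (hi : 0 < i) :
    IsZero ((F.rightDerived i).obj X) := by
  letI := HasDerivedCategory.standard A
  letI := HasDerivedCategory.standard B
  haveI : IsIso F.rightDerivedFunctorPlusUnit :=
    Groth.Agent.H45.isIso_rightDerivedFunctorPlusUnit_of_exact F
  exact (acy_iff_rightDerived F X).1
    ((Groth.Agent.H45.RDP.acy_iff_isIso_unit F X).2 (NatIso.isIso_app_of_isIso _ _)) i hi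

end Groth.Agent.H45.ExtAdj
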