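import Groth.Agent.H45.AdjComplexes

/-!
# An adjunction between exact functors induces an adjunction on (unbounded) derived categories
-/

set_option autoImplicit false
open CategoryTheory CategoryTheory.Limits

namespace Groth.Agent.H45

universe w₁ w₂ v₁ v₂ u₁ u₂

variable {A : Type u₁} [Category.{v₁} A] [Abelian A] [HasDerivedCategory.{w₁} A]
  {B : Type u₂} [Category.{v₂} B] [Abelian B] [HasDerivedCategory.{w₂} B]
  {L : A ⥤ B} {R : B ⥤ A} [L.Additive] [R.Additive]
  [PreservesFiniteLimits L] [PreservesFiniteColimits L]
  [PreservesFiniteLimits R] [PreservesFiniteColimits R]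

/-- An adjunction `L ⊣ R` between exact functors of abelian categories induces an adjunction
`L.mapDerivedCategory ⊣ R.mapDerivedCategory`. -/
noncomputable def adjMapDerivedCategory (adj : L ⊣ R) :
    L.mapDerivedCategory ⊣ R.mapDerivedCategory :=
  letI : CatCommSq (L.mapHomologicalComplex (ComplexShape.up ℤ)) DerivedCategory.Q
      DerivedCategory.Q L.mapDerivedCategory := ⟨L.mapDerivedCategoryFactors.symm⟩
  letI : CatCommSq (R.mapHomologicalComplex (ComplexShape.up ℤ)) DerivedCategory.Q
      DerivedCategory.Q R.mapDerivedCategory := ⟨R.mapDerivedCategoryFactors.symm⟩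
  (adjMapHomologicalComplex adj (ComplexShape.up ℤ)).localization
    DerivedCategory.Q (HomologicalComplex.quasiIso A (ComplexShape.up ℤ))
    DerivedCategory.Q (HomologicalComplex.quasiIso B (ComplexShape.up ℤ))
    L.mapDerivedCategory R.mapDerivedCategory

end Groth.Agent.H45
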