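import Mathlib

/-!
# Squad piece (P2) for helper28 / S1100

For a localization `δ : D → B = SD⁻¹D` and `φ : B → B'`, extension of scalars along `φ ∘ δ` of a
`B`-module (regarded as a `D`-module) is extension of scalars along `φ`.
-/

set_option autoImplicit false
set_option linter.style.haveILetI false
universe u
open CategoryTheory TensorProduct

namespace Groth.Agent.H45.RelFlatP2

/-- Restriction of scalars along a localization is full. -/
theorem full_restrictScalars {D B : Type u} [CommRing D] [CommRing B] (δ : D →+* B)
    (SD : Submonoid D) (hδ : letI := δ.toAlgebra; IsLocalization SD B) :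
    (ModuleCat.restrictScalars.{u} δ).Full := by
  letI := δ.toAlgebra
  haveI := hδ
  constructor
  intro M N g
  let gf : M → N := fun m => g.hom m
  have hadd : ∀ x y : M, gf (x + y) = gf x + gf y := fun x y => g.hom.map_add x y
  have hD : ∀ (d : D) (x : M), gf (δ d • x) = δ d • gf x := fun d x => g.hom.map_smul d x
  have hB : ∀ (b : B) (x : M), gf (b • x) = b • gf x := by
    intro b x
    obtain ⟨⟨d, s⟩, hds⟩ := IsLocalization.surj SD b
    have hu : IsUnit (δ s) := IsLocalization.map_units B s
    have hds' : b * δ s = δ d := hds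
    apply hu.smul_left_cancel.1
    rw [← hD, smul_smul, mul_comm, hds', hD, ← hds', mul_comm, mul_smul]
  refine ⟨ModuleCat.ofHom ⟨⟨gf, hadd⟩, hB⟩, ?_⟩
  ext m
  rfl

theorem nonempty_extendScalars_comp_iso_of_isLocalization {D B B' : Type u} [CommRing D]
    [CommRing B] [CommRing B'] (δ : D →+* B) (SD : Submonoid D)
    (hδ : letI := δ.toAlgebra; IsLocalization SD B) (φ : B →+* B') :
    Nonempty (ModuleCat.restrictScalars.{u} δ ⋙ ModuleCat.extendScalars.{u, u, u} (φ.comp δ) ≅
      ModuleCat.extendScalars.{u, u, u} φ) := by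
  haveI : (ModuleCat.restrictScalars.{u} δ).Full := full_restrictScalars δ SD hδ
  let adj := ModuleCat.extendRestrictScalarsAdj.{u, u, u} δ
  haveI : IsIso adj.counit := inferInstance
  exact ⟨Functor.isoWhiskerLeft _ (ModuleCat.extendScalarsComp δ φ) ≪≫
    (Functor.associator _ _ _).symm ≪≫ Functor.isoWhiskerRight (asIso adj.counit) _ ≪≫
    Functor.leftUnitor _⟩

end Groth.Agent.H45.RelFlatP2
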