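import Groth.Agent.H45.FpqcModDescent
import Groth.Agent.S1391
import Groth.Agent.S1392
import Groth.Agent.H8.PullbackStalk
import Groth.Prelude.Def_FGA

/-!
# Helper library (helper45): fpqc descent of flatness of modules over the base

* `isFlatOverAt_of_iso` : `FlatMod.IsFlatOverAt` is invariant under isomorphisms of modules.
* `isPullback_XTmap` : the square `X_{T'} → X_T` over `T' → T` is cartesian.
* `exists_preimage_XTmap` : for an fpqc covering family the maps `X_{T_i} → X_T` are jointly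
  surjective.
* `isFlatOver_ET_of_hom`, `isFlatOver_ET_of_cover` : stability and fpqc descent of
  `IsFlatOver (XTproj f T) (ET f F T)`.
-/

set_option autoImplicit false
set_option linter.style.haveILetI false
universe u
open AlgebraicGeometry CategoryTheory Limits Opposite

namespace Groth.Agent.H45.FpqcFlatDescent

open Groth.Agent.H31.Stalk in
theorem isFlatOverAt_of_iso {X S : Scheme.{u}} (f : X ⟶ S) {M N : X.Modules} (e : M ≅ N) (x : X)
    (h : FlatMod.IsFlatOverAt f M x) : FlatMod.IsFlatOverAt f N x := by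
  unfold FlatMod.IsFlatOverAt at h ⊢
  letI := FlatMod.moduleStalkOver f M x
  letI := FlatMod.moduleStalkOver f N x
  let E : (M.presheaf.stalk x) ≃ₗ[X.presheaf.stalk x] (N.presheaf.stalk x) :=
    ((stk (shX X) x).mapIso e).toLinearEquiv
  let E' : (N.presheaf.stalk x) ≃ₗ[S.presheaf.stalk (f.base x)] (M.presheaf.stalk x) :=
    { E.symm.toAddEquiv with
      map_smul' := fun a m => E.symm.map_smul ((f.stalkMap x).hom a) m }
  haveI : Module.Flat (S.presheaf.stalk (f.base x)) (M.presheaf.stalk x) := h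
  exact Module.Flat.of_linearEquiv E'

theorem isPullback_XTmap {X S : Scheme.{u}} (f : X ⟶ S) {T T' : Over S} (k : T' ⟶ T) :
    IsPullback (PicF.XTmap f k) (PicF.XTproj f T') (PicF.XTproj f T) k.left := by
  have hsnd : PicF.XTmap f k ≫ pullback.snd f T.hom = pullback.snd f T'.hom ≫ k.left :=
    pullback.lift_snd _ _ _
  refine IsPullback.of_right (h₁₂ := pullback.fst f T.hom) (v₁₃ := f) (h₂₂ := T.hom) ?_ hsnd
    (IsPullback.of_hasPullback f T.hom)
  rw [FGA.XTmap_fst, Over.w]
  exact IsPullback.of_hasPullback f T'.hom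

theorem exists_preimage_XTmap {X S : Scheme.{u}} (f : X ⟶ S) (T : Over S) {ι : Type*}
    (Ti : ι → Over S) (g : ∀ i, Ti i ⟶ T)
    (hcov : Presieve.ofArrows (fun i => (Ti i).left) (fun i => (g i).left) ∈
      Scheme.fpqcPrecoverage T.left) (y : ↑(PicF.XT f T)) :
    ∃ (i : ι) (z : ↑(PicF.XT f (Ti i))), (PicF.XTmap f (g i)) z = y := by
  have hcov' := (Scheme.propQCPrecoverage_le_precoverage (P := @Flat)) _ hcov
  obtain ⟨hjs, -⟩ := (Scheme.ofArrows_mem_precoverage_iff (P := @Flat)).1 hcov'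
  obtain ⟨i, ti, hti⟩ := hjs ((pullback.snd f T.hom) y)
  obtain ⟨z', hz1, -⟩ := Scheme.Pullback.exists_preimage_pullback
    (f := pullback.snd f T.hom) (g := (g i).left) y ti hti.symm
  refine ⟨i, (isPullback_XTmap f (g i)).isoPullback.inv z', ?_⟩
  rw [← hz1, ← Scheme.Hom.comp_apply, IsPullback.isoPullback_inv_fst]

variable {X S : Scheme.{u}} (f : X ⟶ S) (F : X.Modules) [F.IsQuasicoherent]

theorem isFlatOver_ET_of_hom {T T₀ : Over S} (k : T ⟶ T₀)
    (h : FlatMod.IsFlatOver (PicF.XTproj f T₀) (FGA.ET f F T₀)) :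
    FlatMod.IsFlatOver (PicF.XTproj f T) (FGA.ET f F T) := by
  intro x
  haveI : (FGA.ET f F T₀).IsQuasicoherent := Groth.Agent.H8.isQuasicoherent_pullback _ F
  refine isFlatOverAt_of_iso _ (FGA.ETiso f F k) x ?_
  exact Groth.Agent.S1391.result (PicF.XTproj f T₀) (PicF.XTproj f T) (PicF.XTmap f k) k.left
    (isPullback_XTmap f k) (FGA.ET f F T₀) inferInstance x (h _)

theorem isFlatOver_ET_of_cover (T : Over S) {ι : Type*}
    (Ti : ι → Over S) (g : ∀ i, Ti i ⟶ T)
    (hcov : Presieve.ofArrows (fun i => (Ti i).left) (fun i => (g i).left) ∈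
      Scheme.fpqcPrecoverage T.left)
    (h : ∀ i, FlatMod.IsFlatOver (PicF.XTproj f (Ti i)) (FGA.ET f F (Ti i))) :
    FlatMod.IsFlatOver (PicF.XTproj f T) (FGA.ET f F T) := by
  intro y
  have hcov' := (Scheme.propQCPrecoverage_le_precoverage (P := @Flat)) _ hcov
  obtain ⟨-, hfl⟩ := (Scheme.ofArrows_mem_precoverage_iff (P := @Flat)).1 hcov'
  obtain ⟨i, z, rfl⟩ := exists_preimage_XTmap f T Ti g hcov y
  haveI : (FGA.ET f F T).IsQuasicoherent := Groth.Agent.H8.isQuasicoherent_pullback _ F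
  haveI : Flat (g i).left := hfl i
  refine Groth.Agent.S1392.result (PicF.XTproj f T) (PicF.XTproj f (Ti i)) (PicF.XTmap f (g i))
    (g i).left (isPullback_XTmap f (g i)) (FGA.ET f F T) inferInstance z
    (Flat.stalkMap (g i).left _) ?_
  exact isFlatOverAt_of_iso _ (FGA.ETiso f F (g i)).symm z (h i z)

end Groth.Agent.H45.FpqcFlatDescent
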