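import Mathlib

/-!
# (SML) for helper15's S8826 squad: three small commutative-algebra lemmas

* `exists_bound_torsion` : in a Noetherian ring the `τ`-power torsion is bounded.
* `exists_eval₂_sub` : `P(u) - P(v)` is a linear combination of the `u k - v k`.
* `eq_zero_of_perturbed` : `(1 + τ L) d = θ`, `τ` in the Jacobson radical, `c θ = 0` ⟹ `c d = 0`
  (Nakayama).
-/

set_option autoImplicit false
universe u
open MvPolynomial

namespace Groth.Agent.H45.FPA_SML

/-- The ideal of elements killed by `τ ^ i`. -/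
def annPow {S : Type u} [CommRing S] (τ : S) (i : ℕ) : Ideal S where
  carrier := {s | τ ^ i * s = 0}
  add_mem' := by
    intro a b ha hb
    simp only [Set.mem_ofPred_eq] at *
    rw [mul_add, ha, hb, add_zero]
  zero_mem' := by simp
  smul_mem' := by
    intro c x hx
    simp only [Set.mem_ofPred_eq, smul_eq_mul] at *
    rw [mul_left_comm, hx, mul_zero]

theorem mem_annPow {S : Type u} [CommRing S] (τ : S) (i : ℕ) (s : S) :
    s ∈ annPow τ i ↔ τ ^ i * s = 0 := Iff.rfl

theorem annPow_mono {S : Type u} [CommRing S] (τ : S) : Monotone (annPow τ) := by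
  intro i j hij s hs
  rw [mem_annPow] at hs ⊢
  obtain ⟨e, rfl⟩ := Nat.exists_eq_add_of_le hij
  rw [pow_add, mul_comm (τ ^ i), mul_assoc, hs, mul_zero]

theorem exists_bound_torsion {S : Type u} [CommRing S] [IsNoetherianRing S] (τ : S) :
    ∃ k : ℕ, ∀ (M : ℕ) (s : S), τ ^ M * s = 0 → τ ^ k * s = 0 := by
  obtain ⟨k, hk⟩ := (monotone_stabilizes_iff_noetherian (R := S) (M := S)).mpr inferInstance
    ⟨annPow τ, annPow_mono τ⟩
  refine ⟨k, fun M s hs => ?_⟩
  rcases le_total M k with hMk | hkM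
  · exact (mem_annPow τ k s).mp (annPow_mono τ hMk ((mem_annPow τ M s).mpr hs))
  · have h1 : s ∈ annPow τ M := (mem_annPow τ M s).mpr hs
    have h2 : annPow τ k = annPow τ M := hk M hkM
    rw [← h2] at h1
    exact (mem_annPow τ k s).mp h1

theorem exists_eval₂_sub {R S : Type u} [CommRing R] [CommRing S] (ρ : R →+* S) {n : ℕ}
    (P : MvPolynomial (Fin n) R) (u v : Fin n → S) :
    ∃ L : Fin n → S, eval₂ ρ u P - eval₂ ρ v P = ∑ k, L k * (u k - v k) := by
  classical
  set I : Ideal S := Ideal.span (Set.range (fun k => u k - v k)) with hI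
  have hmk : (Ideal.Quotient.mk I) ∘ u = (Ideal.Quotient.mk I) ∘ v := by
    funext k
    simp only [Function.comp_apply]
    rw [Ideal.Quotient.eq]
    exact Ideal.subset_span ⟨k, rfl⟩
  have hmem : eval₂ ρ u P - eval₂ ρ v P ∈ I := by
    rw [← Ideal.Quotient.eq, eval₂_comp_left (Ideal.Quotient.mk I) ρ u P,
      eval₂_comp_left (Ideal.Quotient.mk I) ρ v P, hmk]
  obtain ⟨L, hL⟩ := Ideal.mem_span_range_iff_exists_fun.mp hmem
  exact ⟨L, hL.symm⟩

theorem eq_zero_of_perturbed {S : Type u} [CommRing S] {n : ℕ} (τ c : S)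
    (hτ : τ ∈ Ideal.jacobson (⊥ : Ideal S)) (L : Fin n → Fin n → S) (d θ : Fin n → S)
    (h : ∀ p, d p + τ * ∑ k, L p k * d k = θ p) (hθ : ∀ p, c * θ p = 0) : ∀ p, c * d p = 0 := by
  classical
  set N : Ideal S := Ideal.span (Set.range (fun p => c * d p)) with hN
  have hfg : (N : Submodule S S).FG := Submodule.fg_span (Set.finite_range _)
  have hjac : Ideal.span {τ} ≤ Ideal.jacobson (⊥ : Ideal S) :=
    (Ideal.span_singleton_le_iff_mem _).mpr hτ
  have hle : N ≤ (Ideal.span {τ} : Ideal S) • N := by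
    rw [hN, Ideal.span_le]
    rintro _ ⟨p, rfl⟩
    have hsum : ∑ k, L p k * (c * d k) ∈ N := by
      refine Ideal.sum_mem _ (fun k _ => ?_)
      exact Ideal.mul_mem_left _ _ (Ideal.subset_span ⟨k, rfl⟩)
    have h1 : c * d p + c * (τ * ∑ k, L p k * d k) = 0 := by
      rw [← mul_add, h p, hθ p]
    have h2 : τ * ∑ k, L p k * (c * d k) = c * (τ * ∑ k, L p k * d k) := by
      simp only [Finset.mul_sum]
      refine Finset.sum_congr rfl (fun k _ => ?_)
      ring
    have key : c * d p = -(τ * ∑ k, L p k * (c * d k)) := by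
      rw [h2]
      linear_combination h1
    have hmem : τ * ∑ k, L p k * (c * d k) ∈ (Ideal.span {τ} : Ideal S) • N := by
      have := Submodule.smul_mem_smul (Ideal.mem_span_singleton_self τ) hsum
      simpa [smul_eq_mul] using this
    show c * d p ∈ (Ideal.span {τ} : Ideal S) • N
    rw [key]
    exact neg_mem hmem
  have hbot : N = ⊥ :=
    Submodule.eq_bot_of_le_smul_of_le_jacobson_bot (Ideal.span {τ}) N hfg hle hjac
  intro p
  have hp : c * d p ∈ N := Ideal.subset_span ⟨p, rfl⟩
  rw [hbot] at hp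
  simpa using hp

end Groth.Agent.H45.FPA_SML
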