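import Mathlib
import Groth.Prelude.Def_CohB1
import Groth.Agent.H48.FlatLimitMod2
import Groth.Agent.S2265
import Groth.Agent.H8.FinType
import Groth.Agent.H8.FPAffine
import Groth.Agent.H8.CohAffine
import Groth.Agent.H8.SectionsExact
import Groth.Agent.H22.GenLocus
import Groth.Agent.H22.QCohLimits

/-!
# Affine Noetherian models (piece (MODEL) of helper57's squad request #4 for S5871)

A morphism of finite presentation between affine schemes together with a quasi-coherent module of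
finite presentation is the base change of a finite type morphism over a Noetherian affine scheme
together with a coherent module.
-/

set_option autoImplicit false
set_option linter.style.haveILetI false
universe u
open CategoryTheory CategoryTheory.Limits AlgebraicGeometry TopologicalSpace Opposite
open AlgebraicGeometry.Scheme.Modules

namespace Groth.Agent.H45.NE_MODEL

open Groth.Agent.H22 Groth.Agent.H8 Groth.Agent.H22.QCohLimits

/-- `tilde` of a finite module is quasi-coherent of finite type. -/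
theorem isCoh_tilde (R : CommRingCat.{u}) (N : ModuleCat.{u} R) [Module.Finite R N] :
    Coh.IsCoh (tilde N) := by
  have hsurj : Function.Surjective (algebraMap R Γ(Spec R, (⊤ : (Spec R).Opens))) := by
    rw [IsAffineOpen.algebraMap_Spec_obj]
    have h1 : (homOfLE (le_top : (⊤ : (Spec R).Opens) ≤ ⊤)).op = 𝟙 _ := rfl
    rw [h1, (Spec R).presheaf.map_id, Category.comp_id]
    exact (ConcreteCategory.bijective_of_isIso (Scheme.ΓSpecIso R).inv).2
  have h1 : Module.Finite R Γ(tilde N, (⊤ : (Spec R).Opens)) :=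
    Module.Finite.equiv (tilde.isoTop N).toLinearEquiv
  have h2 : Module.Finite Γ(Spec R, (⊤ : (Spec R).Opens))
      Γ(tilde N, (⊤ : (Spec R).Opens)) :=
    Module.Finite.of_restrictScalars_finite R _ _
  have hTft : SheafOfModules.IsFiniteType (R := (Spec R).ringCatSheaf) (tilde N) :=
    isFiniteType_of_finite_sections (tilde N)
      (fun _ : PUnit.{u + 1} => (⊤ : (Spec R).Opens)) (iSup_const)
      (fun _ => isAffineOpen_top _) (fun _ => h2)
  exact ⟨inferInstance, hTft⟩

set_option maxHeartbeats 1000000 in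
theorem exists_noetherian_model_affine {X S : Scheme.{u}} [IsAffine X] [IsAffine S] (f : X ⟶ S)
    [LocallyOfFinitePresentation f] (F : X.Modules) [F.IsQuasicoherent] (hF : CohB1.IsFP F) :
    ∃ (S₀ X₀ : Scheme.{u}) (h : S ⟶ S₀) (f₀ : X₀ ⟶ S₀) (eX : X ⟶ X₀) (F₀ : X₀.Modules),
      IsNoetherian S₀ ∧ LocallyOfFiniteType f₀ ∧ QuasiCompact f₀ ∧ IsPullback eX f f₀ h ∧
        Coh.IsCoh F₀ ∧ Nonempty (F ≅ (Scheme.Modules.pullback eX).obj F₀) := by
  classical
  letI algRA : Algebra Γ(S, ⊤) Γ(X, ⊤) := f.appTop.hom.toAlgebra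
  haveI : Algebra.FinitePresentation Γ(S, ⊤) Γ(X, ⊤) := by
    have h1 : RingHom.FinitePresentation f.appTop.hom :=
      (HasRingHomProperty.iff_of_isAffine (P := @LocallyOfFinitePresentation)).1 inferInstance
    exact h1
  haveI : SheafOfModules.IsFinitePresentation (R := X.ringCatSheaf) F := hF
  haveI : Module.FinitePresentation Γ(X, ⊤) Γ(F, ⊤) :=
    Groth.Agent.H8.finitePresentation_sections_of_isAffineOpen F (isAffineOpen_top X)
  obtain ⟨C, _, _, hCft, B₀, _, _, _, _, _, _, hB₀ft, hpo, M₀, _, _, _, _, _, _, hM₀fin, h,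
    hbc⟩ := Groth.Agent.H48.FlatLimit.exists_model_data Γ(S, ⊤) Γ(X, ⊤) Γ(F, ⊤)
  haveI : IsNoetherianRing C := Algebra.FiniteType.isNoetherianRing ℤ C
  haveI : IsNoetherianRing (CommRingCat.of C) := ‹IsNoetherianRing C›
  let a : CommRingCat.of C ⟶ Γ(S, ⊤) := CommRingCat.ofHom (algebraMap C Γ(S, ⊤))
  let b : CommRingCat.of B₀ ⟶ Γ(X, ⊤) := CommRingCat.ofHom (algebraMap B₀ Γ(X, ⊤))
  let c : CommRingCat.of C ⟶ CommRingCat.of B₀ := CommRingCat.ofHom (algebraMap C B₀)
  haveI : Module.Finite (CommRingCat.of B₀) (ModuleCat.of B₀ M₀) := hM₀fin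
  refine ⟨Spec (CommRingCat.of C), Spec (CommRingCat.of B₀), S.isoSpec.hom ≫ Spec.map a,
    Spec.map c, X.isoSpec.hom ≫ Spec.map b, tilde (ModuleCat.of B₀ M₀), inferInstance, ?_,
    inferInstance, ?_, isCoh_tilde (CommRingCat.of B₀) (ModuleCat.of B₀ M₀), ?_⟩
  · -- finite type
    rw [HasRingHomProperty.Spec_iff (P := @LocallyOfFiniteType)]
    exact RingHom.finiteType_algebraMap.2 hB₀ft
  · -- the pullback square
    have hpo' : IsPushout a c (CommRingCat.ofHom (algebraMap Γ(S, ⊤) Γ(X, ⊤))) b :=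
      CommRingCat.isPushout_of_isPushout C Γ(S, ⊤) B₀ Γ(X, ⊤)
    have hpb := isPullback_SpecMap_of_isPushout a c _ b hpo'
    have hnat : Spec.map (CommRingCat.ofHom (algebraMap Γ(S, ⊤) Γ(X, ⊤))) ≫ S.isoSpec.inv =
        X.isoSpec.inv ≫ f := Scheme.isoSpec_inv_naturality f
    refine IsPullback.of_iso hpb.flip X.isoSpec.symm (Iso.refl _) S.isoSpec.symm (Iso.refl _)
      ?_ ?_ ?_ ?_
    · simp
    · exact hnat
    · simp
    · simp
  · -- the module
    have hU := isAffineOpen_top X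
    have hij : X.isoSpec.hom ≫ hU.fromSpec = 𝟙 X := by
      rw [IsAffineOpen.fromSpec_top, Iso.hom_inv_id]
    let G : (Spec Γ(X, ⊤)).Modules := F.restrict hU.fromSpec
    haveI hGq : G.IsQuasicoherent := Scheme.Modules.isQuasicoherent_restrictFunctor hU.fromSpec F
    let iso : restrictFunctor hU.fromSpec ⋙ restrictFunctor X.isoSpec.hom ≅ 𝟭 X.Modules :=
      (restrictFunctorComp _ _).symm ≪≫ restrictFunctorCongr hij ≪≫ restrictFunctorId
    let α : (restrictFunctor X.isoSpec.hom).obj G ≅ F := iso.app F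
    let β : (restrictFunctor X.isoSpec.hom).obj G ≅ (Scheme.Modules.pullback X.isoSpec.hom).obj G :=
      (restrictFunctorIsoPullback X.isoSpec.hom).app G
    haveI : IsIso G.fromTildeΓ := Scheme.Modules.isIso_fromTildeΓ_of_isQuasicoherent G
    let γ : tilde ((modulesSpecToSheaf.obj G).presheaf.obj (op ⊤)) ≅ G := asIso G.fromTildeΓ
    let ε₁ : ((modulesSpecToSheaf.obj G).presheaf.obj (op ⊤)) ≅
        ModuleCat.of Γ(X, ⊤) Γ(F, ⊤) :=
      (Groth.Agent.H8.sectionsRestrictEquiv hU F).toModuleIso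
    let ε₂ : ModuleCat.of Γ(X, ⊤) (TensorProduct B₀ Γ(X, ⊤) M₀) ≅
        ModuleCat.of Γ(X, ⊤) Γ(F, ⊤) := hbc.equiv.toModuleIso
    obtain ⟨ζ⟩ := Groth.Agent.S2265.result B₀ Γ(X, ⊤) M₀
    let κ := (pullbackComp X.isoSpec.hom (Spec.map b)).app (tilde (ModuleCat.of B₀ M₀))
    exact ⟨α.symm ≪≫ β ≪≫ (Scheme.Modules.pullback X.isoSpec.hom).mapIso
      (γ.symm ≪≫ (tilde.functor Γ(X, ⊤)).mapIso (ε₁ ≪≫ ε₂.symm) ≪≫ ζ.symm) ≪≫ κ⟩

end Groth.Agent.H45.NE_MODEL
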