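import Mathlib.Algebra.Homology.DerivedCategory.Ext.ExactSequences
import Mathlib.Algebra.Homology.DerivedCategory.Ext.EnoughInjectives
import Mathlib.CategoryTheory.Adjunction.Additive
import Mathlib.CategoryTheory.Preadditive.Injective.Preserves
import Mathlib.GroupTheory.QuotientGroup.Basic

/-!
# `Ext` groups and adjunctions: dimension shifting

Let `L ⊣ R` be an adjunction between abelian categories with `R` sending injectives to injectives
(e.g. `L` exact). Let `P` be a class of "`R`-acyclic" objects of `A`: for any short exact sequence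
`0 ⟶ X ⟶ I ⟶ X' ⟶ 0` with `P X` and `I` injective, `P X'` holds and `R` maps the sequence to a
short exact sequence. Then `Ext^p(L Z, X) ≃+ Ext^p(Z, R X)` for all `X` in `P`.
-/

set_option autoImplicit false
universe w w' v v' u u'
open CategoryTheory CategoryTheory.Limits CategoryTheory.Abelian

namespace Groth.Agent.H45.ExtAdj

section Shift

variable {A : Type u} [Category.{v} A] [Abelian A] [HasExt.{w} A]
  {S : ShortComplex A} (hS : S.ShortExact) (W : A)

/-- The connecting map `Ext^n(W, X₃) → Ext^{n+1}(W, X₁)`. -/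
noncomputable abbrev δ (n : ℕ) : Ext W S.X₃ n →+ Ext W S.X₁ (n + 1) :=
  hS.extClass.postcomp W rfl

lemma δ_surjective [Injective S.X₂] (n : ℕ) : Function.Surjective (δ hS W n) := by
  intro x₁
  exact Ext.covariant_sequence_exact₁ W hS x₁ (Ext.eq_zero_of_injective _) rfl

lemma δ_injective [Injective S.X₂] (n : ℕ) : Function.Injective (δ hS W (n + 1)) := by
  rw [injective_iff_map_eq_zero]
  intro x₃ hx₃
  obtain ⟨x₂, rfl⟩ := Ext.covariant_sequence_exact₃ W hS x₃ rfl hx₃
  rw [Ext.eq_zero_of_injective x₂, Ext.zero_comp]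

lemma δ_bijective [Injective S.X₂] (n : ℕ) : Function.Bijective (δ hS W (n + 1)) :=
  ⟨δ_injective hS W n, δ_surjective hS W (n + 1)⟩

lemma δ_ker :
    (δ hS W 0).ker = ((Ext.mk₀ S.g).postcomp W (add_zero 0)).range := by
  ext x₃
  simp only [AddMonoidHom.mem_ker, AddMonoidHom.mem_range]
  constructor
  · intro hx₃
    exact Ext.covariant_sequence_exact₃ W hS x₃ rfl hx₃
  · rintro ⟨x₂, rfl⟩
    change (x₂.comp (Ext.mk₀ S.g) (add_zero 0)).comp hS.extClass rfl = 0
    rw [Ext.comp_assoc_of_second_deg_zero, hS.comp_extClass, Ext.comp_zero]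

end Shift

section Main

variable {A : Type u} [Category.{v} A] [Abelian A] [HasExt.{w} A] [EnoughInjectives A]
  {B : Type u'} [Category.{v'} B] [Abelian B] [HasExt.{w'} B]
  {L : B ⥤ A} {R : A ⥤ B} (adj : L ⊣ R) [L.Additive] [R.Additive]

/-- The degree zero comparison. -/
noncomputable def e₀ (Z : B) (X : A) : Ext (L.obj Z) X 0 ≃+ Ext Z (R.obj X) 0 :=
  Ext.addEquiv₀.trans ((adj.homAddEquiv Z X).trans Ext.addEquiv₀.symm)

omit [EnoughInjectives A] [R.Additive] in
lemma e₀_naturality (Z : B) {X Y : A} (g : X ⟶ Y) (x : Ext (L.obj Z) X 0) :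
    e₀ adj Z Y (x.comp (Ext.mk₀ g) (add_zero 0)) =
      (e₀ adj Z X x).comp (Ext.mk₀ (R.map g)) (add_zero 0) := by
  obtain ⟨f, rfl⟩ := Ext.addEquiv₀.symm.surjective x
  change Ext.addEquiv₀.symm (adj.homEquiv Z Y (Ext.addEquiv₀ ((Ext.addEquiv₀.symm f).comp _ _))) =
    (Ext.addEquiv₀.symm (adj.homEquiv Z X (Ext.addEquiv₀ (Ext.addEquiv₀.symm f)))).comp _ _
  have h1 : ∀ {U V : A} (φ : U ⟶ V), (Ext.addEquiv₀.symm φ : Ext U V 0) = Ext.mk₀ φ := fun _ => rfl
  have h2 : ∀ {U V : B} (φ : U ⟶ V), (Ext.addEquiv₀.symm φ : Ext U V 0) = Ext.mk₀ φ := fun _ => rfl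
  rw [AddEquiv.apply_symm_apply, h1, Ext.mk₀_comp_mk₀, h2, h2, Ext.mk₀_comp_mk₀,
    ← h1, AddEquiv.apply_symm_apply, Adjunction.homEquiv_naturality_right]

variable (P : A → Prop)
  (hR : ∀ I : A, Injective I → Injective (R.obj I))
  (hP : ∀ S : ShortComplex A, S.ShortExact → P S.X₁ → Injective S.X₂ →
    P S.X₃ ∧ (S.map R).ShortExact)

include adj hR hP in
theorem nonempty_addEquiv (Z : B) (p : ℕ) :
    ∀ X : A, P X → Nonempty (Ext (L.obj Z) X p ≃+ Ext Z (R.obj X) p) := by
  induction p with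
  | zero => exact fun X _ => ⟨e₀ adj Z X⟩
  | succ n ih =>
    intro X hX
    let S : ShortComplex A := ShortComplex.mk (Injective.ι X) (cokernel.π (Injective.ι X))
      (cokernel.condition _)
    have hS : S.ShortExact :=
      { exact := ShortComplex.exact_cokernel _
        mono_f := inferInstanceAs (Mono (Injective.ι X))
        epi_g := inferInstanceAs (Epi (cokernel.π (Injective.ι X))) }
    haveI : Injective S.X₂ := inferInstanceAs (Injective (Injective.under X))
    obtain ⟨hX₃, hRS⟩ := hP S hS hX inferInstance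
    haveI : Injective (S.map R).X₂ := hR _ inferInstance
    cases n with
    | zero =>
      -- degree one: both groups are cokernels of `Hom(-, I) → Hom(-, X')`
      let d₁ := δ hS (L.obj Z) 0
      let d₂ := δ hRS Z 0
      have hd₁ : Function.Surjective d₁ := δ_surjective hS _ 0
      have hd₂ : Function.Surjective d₂ := δ_surjective hRS _ 0
      let e : Ext (L.obj Z) S.X₃ 0 ≃+ Ext Z (R.obj S.X₃) 0 := e₀ adj Z S.X₃
      have hk : d₁.ker.map (e : Ext (L.obj Z) S.X₃ 0 →+ Ext Z (R.obj S.X₃) 0) = d₂.ker := by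
        have k₁ : d₁.ker = _ := δ_ker hS (L.obj Z)
        have k₂ : d₂.ker = _ := δ_ker hRS Z
        rw [k₁, k₂]
        ext y
        simp only [AddSubgroup.mem_map, AddMonoidHom.mem_range]
        constructor
        · rintro ⟨_, ⟨x₂, rfl⟩, rfl⟩
          exact ⟨e₀ adj Z S.X₂ x₂, (e₀_naturality adj Z S.g x₂).symm⟩
        · rintro ⟨y₂, rfl⟩
          obtain ⟨x₂, rfl⟩ := (e₀ adj Z S.X₂).surjective y₂
          exact ⟨_, ⟨x₂, rfl⟩, e₀_naturality adj Z S.g x₂⟩
      exact ⟨(QuotientAddGroup.quotientKerEquivOfSurjective d₁ hd₁).symm.trans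
        ((QuotientAddGroup.congr d₁.ker d₂.ker e hk).trans
          (QuotientAddGroup.quotientKerEquivOfSurjective d₂ hd₂))⟩
    | succ m =>
      obtain ⟨e⟩ := ih S.X₃ hX₃
      exact ⟨(AddEquiv.ofBijective (δ hS (L.obj Z) (m + 1)) (δ_bijective hS _ m)).symm.trans
        (e.trans (AddEquiv.ofBijective (δ hRS Z (m + 1)) (δ_bijective hRS _ m)))⟩

end Main

end Groth.Agent.H45.ExtAdj

namespace Groth.Agent.H45.ExtAdj

section IsoLeft

variable {A : Type u} [Category.{v} A] [Abelian A] [HasExt.{w} A]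

/-- `Ext` is invariant under isomorphisms in the first variable. -/
noncomputable def addEquivOfIsoLeft {X X' : A} (e : X ≅ X') (Y : A) (n : ℕ) :
    Ext X Y n ≃+ Ext X' Y n where
  toFun x := (Ext.mk₀ e.inv).comp x (zero_add n)
  invFun x := (Ext.mk₀ e.hom).comp x (zero_add n)
  left_inv x := by
    simp only
    rw [Ext.mk₀_comp_mk₀_assoc, e.hom_inv_id, Ext.mk₀_id_comp]
  right_inv x := by
    simp only
    rw [Ext.mk₀_comp_mk₀_assoc, e.inv_hom_id, Ext.mk₀_id_comp]
  map_add' x y := Ext.comp_add _ _ _ _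

/-- `Ext` is invariant under isomorphisms in the second variable. -/
noncomputable def addEquivOfIsoRight (X : A) {Y Y' : A} (e : Y ≅ Y') (n : ℕ) :
    Ext X Y n ≃+ Ext X Y' n where
  toFun x := x.comp (Ext.mk₀ e.hom) (add_zero n)
  invFun x := x.comp (Ext.mk₀ e.inv) (add_zero n)
  left_inv x := by
    simp only
    rw [Ext.comp_assoc_of_third_deg_zero, Ext.mk₀_comp_mk₀, e.hom_inv_id, Ext.comp_mk₀_id]
  right_inv x := by
    simp only
    rw [Ext.comp_assoc_of_third_deg_zero, Ext.mk₀_comp_mk₀, e.inv_hom_id, Ext.comp_mk₀_id]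
  map_add' x y := Ext.add_comp _ _ _ _

end IsoLeft

end Groth.Agent.H45.ExtAdj
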