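import Mathlib.CategoryTheory.Sites.Sheafification
import Mathlib.CategoryTheory.Sites.Abelian
import Mathlib.Algebra.Category.Grp.Adjunctions
import Mathlib.Algebra.Category.Grp.EpiMono
import Mathlib.CategoryTheory.Preadditive.Injective.Basic
import Mathlib.CategoryTheory.Adjunction.Whiskering

/-!
# Restriction maps of an injective abelian sheaf along monomorphisms are surjective

On any site `(C, J)` (not necessarily small) with sheafification for abelian groups in the relevant
universe, if `F` is an injective abelian sheaf and `i : W ⟶ V` is a monomorphism of `C`, then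
`F(V) ⟶ F(W)` is surjective.
-/

set_option autoImplicit false
universe w v u
open CategoryTheory CategoryTheory.Limits Opposite

namespace Groth.Agent.H45.InjSurjMono

variable {C : Type u} [Category.{v} C] (J : GrothendieckTopology C)
  [HasWeakSheafify J AddCommGrpCat.{max w v}]

/-- The free abelian sheaf on a representable presheaf. -/
noncomputable abbrev Zrep : C ⥤ Sheaf J AddCommGrpCat.{max w v} :=
  uliftYoneda.{w} ⋙ (Functor.whiskeringRight _ _ _).obj AddCommGrpCat.free.{max w v} ⋙
    presheafToSheaf J _

/-- Morphisms from the free abelian sheaf on `V` are sections over `V`. -/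
noncomputable def E (V : C) (G : Sheaf J AddCommGrpCat.{max w v}) :
    ((Zrep.{w} J).obj V ⟶ G) ≃ G.obj.obj (op V) :=
  ((sheafificationAdjunction J AddCommGrpCat.{max w v}).homEquiv _ G).trans
    ((((AddCommGrpCat.adj.{max w v}).whiskerRight Cᵒᵖ).homEquiv (uliftYoneda.{w}.obj V) G.obj).trans
      uliftYonedaEquiv.{w})

lemma E_map {V W : C} (i : W ⟶ V) (G : Sheaf J AddCommGrpCat.{max w v})
    (φ : (Zrep.{w} J).obj V ⟶ G) :
    E.{w} J W G ((Zrep.{w} J).map i ≫ φ) = G.obj.map i.op (E.{w} J V G φ) := by
  simp only [E, Equiv.trans_apply]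
  have h1 : (Zrep.{w} J).map i = (presheafToSheaf _ _).map
      (((Functor.whiskeringRight _ _ _).obj AddCommGrpCat.free).map (uliftYoneda.{w}.map i)) := rfl
  rw [h1, Adjunction.homEquiv_naturality_left, Adjunction.homEquiv_naturality_left]
  exact (uliftYonedaEquiv_naturality.{w} (g := i.op) _).symm

instance mono_Zrep_map [HasSheafify J AddCommGrpCat.{max w v}] {V W : C} (i : W ⟶ V) [Mono i] :
    Mono ((Zrep.{w} J).map i) := by
  have h1 : Mono (((Functor.whiskeringRight Cᵒᵖ _ _).obj AddCommGrpCat.free.{max w v}).map
      (uliftYoneda.{w}.map i)) := by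
    have : ∀ T, Mono ((((Functor.whiskeringRight Cᵒᵖ _ _).obj AddCommGrpCat.free.{max w v}).map
        (uliftYoneda.{w}.map i)).app T) := by
      intro T
      have : Mono ((uliftYoneda.{w}.map i).app T) := by
        rw [mono_iff_injective]
        rintro ⟨a⟩ ⟨b⟩ hab
        have : a ≫ i = b ≫ i := congrArg ULift.down hab
        rw [(cancel_mono i).1 this]
      exact inferInstanceAs (Mono (AddCommGrpCat.free.map ((uliftYoneda.{w}.map i).app T)))
    exact NatTrans.mono_of_mono_app _
  exact inferInstanceAs (Mono ((presheafToSheaf _ _).map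
    (((Functor.whiskeringRight Cᵒᵖ _ _).obj AddCommGrpCat.free.{max w v}).map
      (uliftYoneda.{w}.map i))))

/-- Restriction of an injective abelian sheaf along a monomorphism is surjective. -/
theorem surjective_map_of_injective [HasSheafify J AddCommGrpCat.{max w v}]
    (F : Sheaf J AddCommGrpCat.{max w v}) [Injective F] {V W : C} (i : W ⟶ V) [Mono i] :
    Function.Surjective (F.obj.map i.op) := by
  intro s
  let φ := (E.{w} J W F).symm s
  let ψ := Injective.factorThru φ ((Zrep.{w} J).map i)
  refine ⟨E.{w} J V F ψ, ?_⟩
  have h := E_map.{w} J i F ψ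
  rw [Injective.comp_factorThru] at h
  have h2 : E.{w} J W F φ = s := (E.{w} J W F).apply_symm_apply s
  rw [← h2, h]

end Groth.Agent.H45.InjSurjMono
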