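import Groth.Agent.H45.RDerivedExact

/-!
# `(E ⋙ G).rightDerived n ≅ E ⋙ G.rightDerived n` for `E` exact and preserving injectives
-/

set_option autoImplicit false
open CategoryTheory CategoryTheory.Limits

namespace Groth.Agent.H45.RDerivedExact

universe v₁ v₂ v₃ u₁ u₂ u₃

variable {A : Type u₁} [Category.{v₁} A] [Abelian A]
  {A' : Type u₂} [Category.{v₂} A'] [Abelian A']
  {B : Type u₃} [Category.{v₃} B] [Abelian B]
  (E : A ⥤ A') [E.Additive] [PreservesFiniteLimits E] [PreservesFiniteColimits E]
  (G : A' ⥤ B) [G.Additive]

section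

variable (hE : ∀ J : A, Injective J → Injective (E.obj J))

/-- The image of a morphism of resolutions. -/
noncomputable def mapResHom {X Y : A} {I : InjectiveResolution X} {J : InjectiveResolution Y}
    (φ : I.cocomplex ⟶ J.cocomplex) :
    (mapInjectiveResolution E hE I).cocomplex ⟶ (mapInjectiveResolution E hE J).cocomplex :=
  (E.mapHomologicalComplex _).map φ

lemma mapResHom_comm' {X Y : A} (f : X ⟶ Y) {I : InjectiveResolution X}
    {J : InjectiveResolution Y} (φ : I.cocomplex ⟶ J.cocomplex)
    (comm : I.ι ≫ φ = (CochainComplex.single₀ A).map f ≫ J.ι) :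
    (mapInjectiveResolution E hE I).ι ≫ mapResHom E hE φ =
      (CochainComplex.single₀ A').map (E.map f) ≫ (mapInjectiveResolution E hE J).ι := by
  change ((HomologicalComplex.singleMapHomologicalComplex E (ComplexShape.up ℕ) 0).inv.app X ≫
      (E.mapHomologicalComplex _).map I.ι) ≫ (E.mapHomologicalComplex _).map φ =
    (CochainComplex.single₀ A').map (E.map f) ≫
    ((HomologicalComplex.singleMapHomologicalComplex E (ComplexShape.up ℕ) 0).inv.app Y ≫
      (E.mapHomologicalComplex _).map J.ι)
  rw [Category.assoc, ← Functor.map_comp, comm, Functor.map_comp]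
  exact ((HomologicalComplex.singleMapHomologicalComplex E (ComplexShape.up ℕ) 0).inv.naturality_assoc
    f _).symm

lemma mapResHom_comm {X Y : A} (f : X ⟶ Y) {I : InjectiveResolution X}
    {J : InjectiveResolution Y} (φ : I.cocomplex ⟶ J.cocomplex)
    (comm : I.ι ≫ φ = (CochainComplex.single₀ A).map f ≫ J.ι) :
    (mapInjectiveResolution E hE I).ι.f 0 ≫ (mapResHom E hE φ).f 0 =
      E.map f ≫ (mapInjectiveResolution E hE J).ι.f 0 := by
  have h := HomologicalComplex.congr_hom (mapResHom_comm' E hE f φ comm) 0
  simpa using h

/-- The comparison of the two complexes computing the derived functors. -/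
noncomputable def midIso {X : A} (I : InjectiveResolution X) :
    ((E ⋙ G).mapHomologicalComplex _).obj I.cocomplex ≅
      (G.mapHomologicalComplex _).obj (mapInjectiveResolution E hE I).cocomplex :=
  HomologicalComplex.Hom.isoOfComponents (fun i => Iso.refl _)
    (fun i j _ => (Category.id_comp _).trans (Category.comp_id _).symm)

lemma midIso_naturality {X Y : A} {I : InjectiveResolution X} {J : InjectiveResolution Y}
    (φ : I.cocomplex ⟶ J.cocomplex) :
    ((E ⋙ G).mapHomologicalComplex _).map φ ≫ (midIso E G hE J).hom =
      (midIso E G hE I).hom ≫ (G.mapHomologicalComplex _).map (mapResHom E hE φ) := by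
  ext i
  exact (Category.comp_id _).trans (Category.id_comp _).symm

end

variable [HasInjectiveResolutions A] [HasInjectiveResolutions A']

/-- A chosen injective resolution. -/
noncomputable def chosenRes (X : A) : InjectiveResolution X :=
  (HasInjectiveResolutions.out X).out.some

/-- The objectwise isomorphism. -/
noncomputable def compIsoApp (hE : ∀ J : A, Injective J → Injective (E.obj J)) (n : ℕ) (X : A) :
    ((E ⋙ G).rightDerived n).obj X ≅ (G.rightDerived n).obj (E.obj X) :=
  (chosenRes X).isoRightDerivedObj (E ⋙ G) n ≪≫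
    (HomologicalComplex.homologyFunctor _ _ n).mapIso (midIso E G hE (chosenRes X)) ≪≫
    ((mapInjectiveResolution E hE (chosenRes X)).isoRightDerivedObj G n).symm

/-- `(E ⋙ G).rightDerived n ≅ E ⋙ G.rightDerived n`. -/
noncomputable def rightDerivedCompIso (hE : ∀ J : A, Injective J → Injective (E.obj J)) (n : ℕ) :
    (E ⋙ G).rightDerived n ≅ E ⋙ G.rightDerived n :=
  NatIso.ofComponents (fun X => compIsoApp E G hE n X) (fun {X Y} f => by
    have comm : (chosenRes X).ι.f 0 ≫
        (InjectiveResolution.desc f (chosenRes Y) (chosenRes X)).f 0 =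
          f ≫ (chosenRes Y).ι.f 0 :=
      InjectiveResolution.desc_commutes_zero f _ _
    have comm' := mapResHom_comm E hE f _
      (InjectiveResolution.desc_commutes f (chosenRes Y) (chosenRes X))
    dsimp only [compIsoApp, Iso.trans_hom, Iso.symm_hom, Functor.comp_map, Functor.mapIso_hom]
    rw [InjectiveResolution.isoRightDerivedObj_hom_naturality_assoc f _ _ _ comm (E ⋙ G) n]
    simp only [Category.assoc]
    rw [InjectiveResolution.isoRightDerivedObj_inv_naturality (E.map f) _ _ _ comm' G n]
    simp only [Functor.comp_map, ← Category.assoc, ← Functor.map_comp]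
    rw [midIso_naturality])

end Groth.Agent.H45.RDerivedExact
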