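import Mathlib.CategoryTheory.Abelian.RightDerived
import Mathlib.Algebra.Homology.HomologicalComplexAbelian
import Mathlib.Algebra.Homology.HomologySequenceLemmas

/-!
# The long exact sequence of right derived functors

Given natural transformations `α : F₁ ⟶ F₂`, `β : F₂ ⟶ F₃` of additive functors with `α ≫ β = 0`
such that `0 ⟶ F₁ I ⟶ F₂ I ⟶ F₃ I ⟶ 0` is short exact for every injective object `I`, we construct
natural connecting morphisms `δ n : RⁿF₃ ⟶ Rⁿ⁺¹F₁` and show that the resulting long sequence is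
exact.
-/

set_option autoImplicit false
open CategoryTheory CategoryTheory.Limits

namespace Groth.Agent.H45.RDerivedLES

universe v₁ v₂ u₁ u₂

variable {A : Type u₁} [Category.{v₁} A] [Abelian A]
  {B : Type u₂} [Category.{v₂} B] [Abelian B]
  {F₁ F₂ F₃ : A ⥤ B} [F₁.Additive] [F₂.Additive] [F₃.Additive]
  (α : F₁ ⟶ F₂) (β : F₂ ⟶ F₃) (w : α ≫ β = 0)

/-- The hypothesis: short exactness on injective objects. -/
def ExactOnInjectives : Prop :=
  ∀ (I : A), Injective I → (ShortComplex.mk (α.app I) (β.app I)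
    (by rw [← NatTrans.comp_app, w]; rfl)).ShortExact

/-- The short complex of cochain complexes attached to a complex `K`. -/
noncomputable abbrev sc (K : CochainComplex A ℕ) : ShortComplex (CochainComplex B ℕ) :=
  ShortComplex.mk ((NatTrans.mapHomologicalComplex α _).app K)
    ((NatTrans.mapHomologicalComplex β _).app K) (by
      ext i
      simp only [HomologicalComplex.comp_f, NatTrans.mapHomologicalComplex_app_f,
        HomologicalComplex.zero_f]
      exact (NatTrans.comp_app α β (K.X i)).symm.trans (by rw [w]; rfl))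

/-- Functoriality of `sc`. -/
noncomputable def scMap {K L : CochainComplex A ℕ} (φ : K ⟶ L) : sc α β w K ⟶ sc α β w L where
  τ₁ := (F₁.mapHomologicalComplex _).map φ
  τ₂ := (F₂.mapHomologicalComplex _).map φ
  τ₃ := (F₃.mapHomologicalComplex _).map φ
  comm₁₂ := (NatTrans.mapHomologicalComplex α _).naturality φ
  comm₂₃ := (NatTrans.mapHomologicalComplex β _).naturality φ

variable {α β w}

lemma sc_shortExact (h : ExactOnInjectives α β w) (K : CochainComplex A ℕ)
    (hK : ∀ n, Injective (K.X n)) : (sc α β w K).ShortExact :=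
  HomologicalComplex.shortExact_of_degreewise_shortExact _ (fun i =>
    (h (K.X i) (hK i) : ((sc α β w K).map (HomologicalComplex.eval B _ i)).ShortExact))

variable [HasInjectiveResolutions A]

/-- A chosen injective resolution. -/
noncomputable def res (X : A) : InjectiveResolution X :=
  (HasInjectiveResolutions.out X).out.some

lemma res_shortExact (h : ExactOnInjectives α β w) (X : A) :
    (sc α β w (res X).cocomplex).ShortExact :=
  sc_shortExact h _ (fun n => (res X).injective n)

/-- The chosen lift of a morphism to the chosen resolutions. -/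
noncomputable def lift {X Y : A} (f : X ⟶ Y) : (res X).cocomplex ⟶ (res Y).cocomplex :=
  InjectiveResolution.desc f (res Y) (res X)

/-- `RⁿF X` computed with the chosen resolution. -/
noncomputable def iso (F : A ⥤ B) [F.Additive] (X : A) (n : ℕ) :
    (F.rightDerived n).obj X ≅
      ((F.mapHomologicalComplex _).obj (res X).cocomplex).homology n :=
  (res X).isoRightDerivedObj F n

@[reassoc]
lemma iso_hom_naturality (F : A ⥤ B) [F.Additive] {X Y : A} (f : X ⟶ Y) (n : ℕ) :
    (F.rightDerived n).map f ≫ (iso F Y n).hom =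
      (iso F X n).hom ≫
        HomologicalComplex.homologyMap ((F.mapHomologicalComplex _).map (lift f)) n :=
  InjectiveResolution.isoRightDerivedObj_hom_naturality f _ _ _
    (InjectiveResolution.desc_commutes_zero f _ _) F n

@[reassoc]
lemma iso_inv_naturality (F : A ⥤ B) [F.Additive] {X Y : A} (f : X ⟶ Y) (n : ℕ) :
    (iso F X n).inv ≫ (F.rightDerived n).map f =
      HomologicalComplex.homologyMap ((F.mapHomologicalComplex _).map (lift f)) n ≫
        (iso F Y n).inv :=
  InjectiveResolution.isoRightDerivedObj_inv_naturality f _ _ _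
    (InjectiveResolution.desc_commutes_zero f _ _) F n

lemma app_eq {G G' : A ⥤ B} [G.Additive] [G'.Additive] (γ : G ⟶ G') (X : A) (n : ℕ) :
    (NatTrans.rightDerived γ n).app X =
      (iso G X n).hom ≫
        HomologicalComplex.homologyMap
          ((NatTrans.mapHomologicalComplex γ _).app (res X).cocomplex) n ≫
        (iso G' X n).inv :=
  InjectiveResolution.rightDerived_app_eq γ (res X) n

/-- The connecting morphism on objects. -/
noncomputable def δApp (h : ExactOnInjectives α β w) (n : ℕ) (X : A) :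
    (F₃.rightDerived n).obj X ⟶ (F₁.rightDerived (n + 1)).obj X :=
  (iso F₃ X n).hom ≫ (res_shortExact h X).δ n (n + 1) rfl ≫ (iso F₁ X (n + 1)).inv

/-- The connecting natural transformation `RⁿF₃ ⟶ Rⁿ⁺¹F₁`. -/
noncomputable def δ (h : ExactOnInjectives α β w) (n : ℕ) :
    F₃.rightDerived n ⟶ F₁.rightDerived (n + 1) where
  app X := δApp h n X
  naturality {X Y} f := by
    have hnat := HomologicalComplex.HomologySequence.δ_naturality (scMap α β w (lift f))
      (res_shortExact h X) (res_shortExact h Y) n (n + 1) rfl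
    dsimp only [δApp]
    rw [iso_hom_naturality_assoc, Category.assoc, Category.assoc, iso_inv_naturality]
    erw [← reassoc_of% hnat]
    rfl

lemma δ_app (h : ExactOnInjectives α β w) (n : ℕ) (X : A) : (δ h n).app X = δApp h n X := rfl

/-- Exactness at `RⁿF₂`. -/
theorem exact₂ (h : ExactOnInjectives α β w) (n : ℕ) (X : A) (z) :
    (ShortComplex.mk ((NatTrans.rightDerived α n).app X) ((NatTrans.rightDerived β n).app X)
      z).Exact := by
  refine ShortComplex.exact_of_iso ?_ ((res_shortExact h X).homology_exact₂ n)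
  refine ShortComplex.isoMk (iso F₁ X n).symm (iso F₂ X n).symm (iso F₃ X n).symm ?_ ?_
  · dsimp
    rw [app_eq, Iso.inv_hom_id_assoc]
  · dsimp
    rw [app_eq, Iso.inv_hom_id_assoc]

/-- Exactness at `RⁿF₃`. -/
theorem exact₃ (h : ExactOnInjectives α β w) (n : ℕ) (X : A) (z) :
    (ShortComplex.mk ((NatTrans.rightDerived β n).app X) ((δ h n).app X) z).Exact := by
  refine ShortComplex.exact_of_iso ?_ ((res_shortExact h X).homology_exact₃ n (n + 1) rfl)
  refine ShortComplex.isoMk (iso F₂ X n).symm (iso F₃ X n).symm (iso F₁ X (n + 1)).symm ?_ ?_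
  · dsimp
    rw [app_eq, Iso.inv_hom_id_assoc]
  · dsimp
    rw [δ_app, δApp, Iso.inv_hom_id_assoc]

/-- Exactness at `Rⁿ⁺¹F₁`. -/
theorem exact₁ (h : ExactOnInjectives α β w) (n : ℕ) (X : A) (z) :
    (ShortComplex.mk ((δ h n).app X) ((NatTrans.rightDerived α (n + 1)).app X) z).Exact := by
  refine ShortComplex.exact_of_iso ?_ ((res_shortExact h X).homology_exact₁ n (n + 1) rfl)
  refine ShortComplex.isoMk (iso F₃ X n).symm (iso F₁ X (n + 1)).symm
    (iso F₂ X (n + 1)).symm ?_ ?_
  · dsimp
    rw [δ_app, δApp, Iso.inv_hom_id_assoc]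
  · dsimp
    rw [app_eq, Iso.inv_hom_id_assoc]

lemma δ_comp (h : ExactOnInjectives α β w) (n : ℕ) (X : A) :
    (δ h n).app X ≫ (NatTrans.rightDerived α (n + 1)).app X = 0 := by
  rw [δ_app, δApp, app_eq, Category.assoc, Category.assoc, Iso.inv_hom_id_assoc]
  erw [(res_shortExact h X).δ_comp_assoc]
  rw [zero_comp, comp_zero]

lemma comp_δ (h : ExactOnInjectives α β w) (n : ℕ) (X : A) :
    (NatTrans.rightDerived β n).app X ≫ (δ h n).app X = 0 := by
  rw [δ_app, δApp, app_eq, Category.assoc, Category.assoc, Iso.inv_hom_id_assoc]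
  erw [(res_shortExact h X).comp_δ_assoc]
  rw [zero_comp, comp_zero]

lemma toRightDerivedZero_app_eq (G : A ⥤ B) [G.Additive] (X : A) :
    G.toRightDerivedZero.app X =
      (res X).toRightDerivedZero' G ≫
        ((G.mapHomologicalComplex _).obj (res X).cocomplex).homologyπ 0 ≫ (iso G X 0).inv :=
  (res X).toRightDerivedZero_eq G

/-- Naturality of `toRightDerivedZero` in the functor. -/
lemma toRightDerivedZero_naturality {G G' : A ⥤ B} [G.Additive] [G'.Additive] (γ : G ⟶ G')
    (X : A) :
    γ.app X ≫ G'.toRightDerivedZero.app X =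
      G.toRightDerivedZero.app X ≫ (NatTrans.rightDerived γ 0).app X := by
  have h1 : γ.app X ≫ (res X).toRightDerivedZero' G' =
      (res X).toRightDerivedZero' G ≫ HomologicalComplex.cyclesMap
        ((NatTrans.mapHomologicalComplex γ _).app (res X).cocomplex) 0 := by
    have e1 := InjectiveResolution.toRightDerivedZero'_comp_iCycles (res X) G
    have e2 := InjectiveResolution.toRightDerivedZero'_comp_iCycles (res X) G'
    rw [← cancel_mono (HomologicalComplex.iCycles _ _), Category.assoc, Category.assoc,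
      HomologicalComplex.cyclesMap_i, e2, reassoc_of% e1]
    exact (γ.naturality _).symm
  rw [toRightDerivedZero_app_eq G, toRightDerivedZero_app_eq G', app_eq γ X 0]
  simp only [Category.assoc]
  rw [Iso.inv_hom_id_assoc, reassoc_of% h1, HomologicalComplex.homologyπ_naturality_assoc]

/-- If `RⁿF₂` and `Rⁿ⁺¹F₂` vanish, the connecting morphism `RⁿF₃ ⟶ Rⁿ⁺¹F₁` is an isomorphism. -/
lemma isIso_δ (h : ExactOnInjectives α β w) (n : ℕ)
    (hz : ∀ X, IsZero ((F₂.rightDerived n).obj X))
    (hz' : ∀ X, IsZero ((F₂.rightDerived (n + 1)).obj X)) : IsIso (δ h n) := by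
  haveI : ∀ X, IsIso ((δ h n).app X) := fun X => by
    haveI : Mono ((δ h n).app X) :=
      (exact₃ h n X (comp_δ h n X)).mono_g ((hz X).eq_of_src _ _)
    haveI : Epi ((δ h n).app X) :=
      (exact₁ h n X (δ_comp h n X)).epi_f ((hz' X).eq_of_tgt _ _)
    exact isIso_of_mono_of_epi _
  exact NatIso.isIso_of_isIso_app _

/-- A cokernel cofork in a functor category is colimit as soon as it is so objectwise. -/
noncomputable def isColimitCokernelCoforkOfApp {K : Type*} [Category K] {G₁ G₂ G₃ : K ⥤ B}
    (f : G₁ ⟶ G₂) (g : G₂ ⟶ G₃) (zero : f ≫ g = 0)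
    (hc : ∀ X, IsColimit (CokernelCofork.ofπ (g.app X)
      (show f.app X ≫ g.app X = 0 by rw [← NatTrans.comp_app, zero]; rfl))) :
    IsColimit (CokernelCofork.ofπ g zero) :=
  evaluationJointlyReflectsColimits _ (fun X =>
    (isColimitMapCoconeCoforkEquiv' ((evaluation K B).obj X) zero).symm (hc X))

/-- The composite `F₃ ⟶ R⁰F₃ ⟶ R¹F₁`. -/
noncomputable def π₁ (h : ExactOnInjectives α β w) : F₃ ⟶ F₁.rightDerived 1 :=
  F₃.toRightDerivedZero ≫ δ h 0

lemma β_π₁ (h : ExactOnInjectives α β w) : β ≫ π₁ h = 0 := by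
  ext X
  dsimp only [π₁, NatTrans.comp_app]
  rw [reassoc_of% (toRightDerivedZero_naturality β X), comp_δ, comp_zero]
  rfl

variable [PreservesFiniteLimits F₂] [PreservesFiniteLimits F₃]

/-- Objectwise, `R¹F₁ X` is the cokernel of `β_X : F₂ X ⟶ F₃ X` when `R¹F₂ X = 0` and `F₂`, `F₃` are
left exact. -/
noncomputable def isColimitπ₁App (h : ExactOnInjectives α β w) (X : A)
    (hz' : IsZero ((F₂.rightDerived 1).obj X)) :
    IsColimit (CokernelCofork.ofπ ((π₁ h).app X)
      (show β.app X ≫ (π₁ h).app X = 0 by rw [← NatTrans.comp_app, β_π₁]; rfl)) := by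
  have hex : (ShortComplex.mk (β.app X) ((π₁ h).app X)
      (by rw [← NatTrans.comp_app, β_π₁]; rfl)).Exact := by
    have e : ShortComplex.mk (β.app X) ((π₁ h).app X)
        (by rw [← NatTrans.comp_app, β_π₁]; rfl) ≅
        ShortComplex.mk ((NatTrans.rightDerived β 0).app X) ((δ h 0).app X)
          (comp_δ h 0 X) := by
      refine ShortComplex.isoMk (asIso (F₂.toRightDerivedZero.app X))
        (asIso (F₃.toRightDerivedZero.app X)) (Iso.refl _) ?_ ?_
      · exact (toRightDerivedZero_naturality β X).symm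
      · dsimp [π₁]
        rw [Category.comp_id]
    exact ShortComplex.exact_of_iso e.symm (exact₃ h 0 X (comp_δ h 0 X))
  haveI : Epi ((π₁ h).app X) := by
    haveI : Epi ((δ h 0).app X) :=
      (exact₁ h 0 X (δ_comp h 0 X)).epi_f (hz'.eq_of_tgt _ _)
    dsimp only [π₁, NatTrans.comp_app]
    infer_instance
  exact hex.gIsCokernel

/-- `coker (F₂ X ⟶ F₃ X) ≅ R¹F₁ X`. -/
noncomputable def cokernelIsoApp (h : ExactOnInjectives α β w) (X : A)
    (hz' : IsZero ((F₂.rightDerived 1).obj X)) :
    cokernel (β.app X) ≅ (F₁.rightDerived 1).obj X :=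
  (colimit.isColimit _).coconePointUniqueUpToIso (isColimitπ₁App h X hz')

/-- `R¹F₁` is the cokernel of `β : F₂ ⟶ F₃` when `R¹F₂ = 0` and `F₂`, `F₃` are left exact. -/
noncomputable def isColimitπ₁ (h : ExactOnInjectives α β w)
    (hz' : ∀ X, IsZero ((F₂.rightDerived 1).obj X)) :
    IsColimit (CokernelCofork.ofπ (π₁ h) (β_π₁ h)) :=
  isColimitCokernelCoforkOfApp β (π₁ h) (β_π₁ h) (fun X => isColimitπ₁App h X (hz' X))

/-- `coker (F₂ ⟶ F₃) ≅ R¹F₁`. -/
noncomputable def cokernelIso (h : ExactOnInjectives α β w)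
    (hz' : ∀ X, IsZero ((F₂.rightDerived 1).obj X)) : cokernel β ≅ F₁.rightDerived 1 :=
  (colimit.isColimit _).coconePointUniqueUpToIso (isColimitπ₁ h hz')

end Groth.Agent.H45.RDerivedLES
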