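import Groth.Agent.H4.EtaleJCont
import Groth.Agent.H45.InjSurjMono
import Groth.Agent.H45.EtPullExact
import Groth.Agent.H45.RDerivedLES
import Groth.Agent.H45.RDerivedExactFunctor
import Groth.Agent.H45.ExtAdjAcy
import Groth.Prelude.Def_EtDual

/-!
# Local cohomology sheaves on the small étale site: the long exact sequence for an open immersion
-/

set_option autoImplicit false
universe u
open CategoryTheory CategoryTheory.Limits AlgebraicGeometry Opposite

namespace Groth.Agent.H45.EtLocCoh

open Groth.Agent.H45.RDerivedLES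

variable {X U : Scheme.{u}} (j : U ⟶ X) [IsOpenImmersion j]

lemma mono_counit (V : X.Etale) : Mono ((Groth.Agent.H4.compBcAdj j).counit.app V) := by
  have : Mono ((Scheme.Etale.forget X ⋙ Over.forget X).map
      ((Groth.Agent.H4.compBcAdj j).counit.app V)) := by
    change Mono (pullback.fst V.hom j)
    infer_instance
  exact Functor.mono_of_mono_map (Scheme.Etale.forget X ⋙ Over.forget X) this

lemma epi_restrPushAdj_unit (F : EtCoh.Ab X) [Injective F] :
    Epi ((Groth.Agent.H4.restrPushAdj j).unit.app F) := by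
  haveI : Sheaf.IsLocallySurjective ((Groth.Agent.H4.restrPushAdj j).unit.app F) := by
    apply Presheaf.isLocallySurjective_of_surjective
    intro V
    haveI := mono_counit j V.unop
    exact InjSurjMono.surjective_map_of_injective.{u + 1} X.smallEtaleTopology F
      ((Groth.Agent.H4.compBcAdj j).counit.app V.unop)
  exact Sheaf.epi_of_isLocallySurjective _

lemma epi_unitApp (F : EtCoh.Ab X) [Injective F] : Epi (EtDual.unitApp j F) := by
  have h : EtDual.unitApp j F ≫
      (EtCoh.push j).map ((Groth.Agent.H4.pullIsoRestr j).hom.app F) =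
      (Groth.Agent.H4.restrPushAdj j).unit.app F :=
    Adjunction.unit_leftAdjointUniq_hom_app _ _ _
  rw [← IsIso.eq_comp_inv] at h
  rw [h]
  exact epi_comp' (epi_restrPushAdj_unit j F) inferInstance

instance additive_pull : (EtCoh.pull j).Additive :=
  (EtCoh.pullPushAdj j).left_adjoint_additive

instance preservesFiniteLimits_pull : PreservesFiniteLimits (EtCoh.pull j) :=
  preservesFiniteLimits_pullAb j

instance preservesFiniteColimits_pull : PreservesFiniteColimits (EtCoh.pull j) := by
  haveI := (EtCoh.pullPushAdj j).leftAdjoint_preservesColimits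
  infer_instance

instance preservesFiniteLimits_push : PreservesFiniteLimits (EtCoh.push j) := by
  haveI := (EtCoh.pullPushAdj j).rightAdjoint_preservesLimits
  infer_instance

/-- The unit `𝟭 ⟶ j⁻¹ ⋙ j_*`. -/
noncomputable abbrev η : 𝟭 (EtCoh.Ab X) ⟶ EtCoh.pull j ⋙ EtCoh.push j :=
  (EtCoh.pullPushAdj j).unit

/-- The inclusion `Γ_Z ⟶ 𝟭`. -/
noncomputable def αZ : EtDual.secSupp j ⟶ 𝟭 (EtCoh.Ab X) where
  app F := kernel.ι _
  naturality {F G} φ := by
    dsimp [EtDual.secSupp, kernel.map]
    exact kernel.lift_ι _ _ _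

omit [IsOpenImmersion j] in
lemma wZ : αZ j ≫ η j = 0 := by
  ext F : 2
  exact kernel.condition _

lemma exactOnInjectives : ExactOnInjectives (αZ j) (η j) (wZ j) := by
  intro I hI
  haveI := hI
  exact
    { exact := ShortComplex.exact_of_f_is_kernel _ (kernelIsKernel _)
      mono_f := by dsimp [αZ]; exact equalizer.ι_mono
      epi_g := epi_unitApp j I }

lemma isZero_id (n : ℕ) (hn : 0 < n) (F : EtCoh.Ab X) :
    IsZero (((𝟭 (EtCoh.Ab X)).rightDerived n).obj F) :=
  ExtAdj.isZero_rightDerived_of_exact (𝟭 (EtCoh.Ab X)) F n hn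

/-- `coker (F ⟶ j_* j⁻¹ F) ≅ H¹_Z(F)`. -/
noncomputable def cokernelUnitIso (F : EtCoh.Ab X) :
    cokernel (EtDual.unitApp j F) ≅ (EtDual.locCoh j 1).obj F :=
  cokernelIsoApp (exactOnInjectives j) F (isZero_id 1 Nat.one_pos F)

/-- `Rᵖ j_* ∘ j⁻¹ ≅ Hᵖ⁺¹_Z` for `p ≥ 1`. -/
noncomputable def RpushPullIso (p : ℕ) (hp : 1 ≤ p) :
    EtCoh.pull j ⋙ EtCoh.Rpush j p ≅ EtDual.locCoh j (p + 1) :=
  (RDerivedExact.rightDerivedCompIso (EtCoh.pull j) (EtCoh.push j)
    (fun J hJ => by haveI := hJ; exact Groth.Agent.H4.injective_pull_of_etale j J) p).symm ≪≫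
    @asIso _ _ _ _ (δ (exactOnInjectives j) p)
      (isIso_δ (exactOnInjectives j) p (fun F => isZero_id p (by omega) F)
        (fun F => isZero_id (p + 1) (by omega) F))

end Groth.Agent.H45.EtLocCoh
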