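import Groth.Agent.H45.OverShriek
import Mathlib.CategoryTheory.Sites.SheafCohomology.Basic
import Mathlib.Algebra.Category.Grp.ForgetCorepresentable
import Mathlib.CategoryTheory.Adjunction.Whiskering

/-!
# `j_!` of the constant sheaf `ℤ` on `C/U` is the free abelian sheaf on `U`
-/

set_option autoImplicit false
universe u
open CategoryTheory CategoryTheory.Limits Opposite

namespace Groth.Agent.H45

variable {C : Type u} [SmallCategory C] (J : GrothendieckTopology C) (U : C)

/-- The free abelian sheaf on the representable presheaf of `U`. -/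
noncomputable abbrev freeSheaf : Sheaf J AddCommGrpCat.{u} :=
  (presheafToSheaf J AddCommGrpCat.{u}).obj (yoneda.obj U ⋙ AddCommGrpCat.free)

/-- Morphisms out of the free abelian sheaf on `U` are sections over `U`. -/
noncomputable def freeSheafHomEquiv (X : Sheaf J AddCommGrpCat.{u}) :
    (freeSheaf J U ⟶ X) ≃ X.obj.obj (op U) :=
  ((sheafificationAdjunction J AddCommGrpCat.{u}).homEquiv _ _).trans <|
    (((Adjunction.whiskerRight Cᵒᵖ AddCommGrpCat.adj).homEquiv (yoneda.obj U) X.obj)).trans
      yonedaEquiv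

lemma freeSheafHomEquiv_naturality {X Y : Sheaf J AddCommGrpCat.{u}} (f : freeSheaf J U ⟶ X)
    (g : X ⟶ Y) :
    freeSheafHomEquiv J U Y (f ≫ g) = g.hom.app (op U) (freeSheafHomEquiv J U X f) := by
  dsimp only [freeSheafHomEquiv, Equiv.trans_apply]
  rw [Adjunction.homEquiv_naturality_right, Adjunction.homEquiv_naturality_right,
    yonedaEquiv_comp]
  rfl

/-- Extension by zero `j_!`. -/
noncomputable abbrev overShriek : Sheaf (J.over U) AddCommGrpCat.{u} ⥤ Sheaf J AddCommGrpCat.{u} :=
  (Over.forget U).sheafPullback AddCommGrpCat.{u} (J.over U) J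

/-- The adjunction `j_! ⊣ j^*`. -/
noncomputable abbrev overShriekAdj : overShriek J U ⊣ J.overPullback AddCommGrpCat.{u} U :=
  (Over.forget U).sheafAdjunctionContinuous AddCommGrpCat.{u} (J.over U) J

/-- The constant sheaf `ℤ` on `C/U`. -/
noncomputable abbrev constZ : Sheaf (J.over U) AddCommGrpCat.{u} :=
  (constantSheaf (J.over U) AddCommGrpCat.{u}).obj (AddCommGrpCat.of (ULift ℤ))

/-- Morphisms out of the constant sheaf `ℤ` on `C/U` are sections over the terminal object. -/
noncomputable def constZHomEquiv (G : Sheaf (J.over U) AddCommGrpCat.{u}) :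
    (constZ J U ⟶ G) ≃ G.obj.obj (op (Over.mk (𝟙 U))) :=
  ((constantSheafAdj (J.over U) AddCommGrpCat.{u} (Over.mkIdTerminal (X := U))).homEquiv _ _).trans
    (AddCommGrpCat.uliftZMultiplesAddEquiv _).toEquiv

lemma constZHomEquiv_naturality {G G' : Sheaf (J.over U) AddCommGrpCat.{u}} (f : constZ J U ⟶ G)
    (h : G ⟶ G') :
    constZHomEquiv J U G' (f ≫ h) = h.hom.app (op (Over.mk (𝟙 U))) (constZHomEquiv J U G f) := by
  dsimp only [constZHomEquiv, Equiv.trans_apply]
  rw [Adjunction.homEquiv_naturality_right]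
  rfl

noncomputable def shriekConstHomEquiv (X : Sheaf J AddCommGrpCat.{u}) :
    ((overShriek J U).obj (constZ J U) ⟶ X) ≃ X.obj.obj (op U) :=
  ((overShriekAdj J U).homEquiv _ _).trans
    (constZHomEquiv J U ((J.overPullback AddCommGrpCat.{u} U).obj X))

lemma shriekConstHomEquiv_naturality {X Y : Sheaf J AddCommGrpCat.{u}}
    (f : (overShriek J U).obj (constZ J U) ⟶ X) (g : X ⟶ Y) :
    shriekConstHomEquiv J U Y (f ≫ g) = g.hom.app (op U) (shriekConstHomEquiv J U X f) := by
  change constZHomEquiv J U _ ((overShriekAdj J U).homEquiv _ _ (f ≫ g)) = _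
  rw [Adjunction.homEquiv_naturality_right, constZHomEquiv_naturality]
  rfl

/-- `j_! ℤ_{C/U}` is the free abelian sheaf on `U`. -/
noncomputable def freeSheafIsoShriekConst : freeSheaf J U ≅ (overShriek J U).obj (constZ J U) :=
  Coyoneda.ext _ _ (fun f => (shriekConstHomEquiv J U _).symm (freeSheafHomEquiv J U _ f))
    (fun f => (freeSheafHomEquiv J U _).symm (shriekConstHomEquiv J U _ f))
    (fun f => by simp) (fun f => by simp)
    (fun f g => by
      apply (freeSheafHomEquiv J U _).injective
      rw [Equiv.apply_symm_apply, freeSheafHomEquiv_naturality, Equiv.apply_symm_apply,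
        shriekConstHomEquiv_naturality])

end Groth.Agent.H45
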