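import Groth.Agent.H45.AffineCech
import Groth.Agent.H67.CechTop
import Groth.Prelude.Def_Coh
import Groth.Agent.H45.OverShriekFree
import Groth.Agent.H45.ExtAdj

/-!
# Helper library (helper45): vanishing of higher cohomology of quasi-coherent modules on affine
schemes (Serre), via Cartan's criterion (helper67) and Čech vanishing for standard coverings.
-/

set_option autoImplicit false
universe u
open CategoryTheory CategoryTheory.Limits AlgebraicGeometry TopologicalSpace Opposite

namespace Groth.Agent.H45.AffineVanishing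

section Bridge

variable {C : Type u} [SmallCategory C] (J : GrothendieckTopology C) {T : C} (hT : IsTerminal T)

/-- The constant sheaf `ℤ` on a site with terminal object `T`. -/
noncomputable abbrev constZ : Sheaf J AddCommGrpCat.{u} :=
  (constantSheaf J AddCommGrpCat.{u}).obj (AddCommGrpCat.of (ULift ℤ))

/-- Morphisms out of the constant sheaf `ℤ` are sections over the terminal object. -/
noncomputable def constZHomEquiv (G : Sheaf J AddCommGrpCat.{u}) :
    (constZ J ⟶ G) ≃ G.obj.obj (op T) :=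
  ((constantSheafAdj J AddCommGrpCat.{u} hT).homEquiv _ _).trans
    (AddCommGrpCat.uliftZMultiplesAddEquiv _).toEquiv

lemma constZHomEquiv_naturality {G G' : Sheaf J AddCommGrpCat.{u}} (f : constZ J ⟶ G)
    (h : G ⟶ G') :
    constZHomEquiv J hT G' (f ≫ h) = h.hom.app (op T) (constZHomEquiv J hT G f) := by
  dsimp only [constZHomEquiv, Equiv.trans_apply]
  rw [Adjunction.homEquiv_naturality_right]
  rfl

/-- The free abelian sheaf on a terminal object is the constant sheaf `ℤ`. -/
noncomputable def freeSheafTerminalIso : freeSheaf J T ≅ constZ J :=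
  Coyoneda.ext _ _
    (fun f => (constZHomEquiv J hT _).symm (freeSheafHomEquiv _ _ _ f))
    (fun f => (freeSheafHomEquiv _ _ _).symm (constZHomEquiv J hT _ f))
    (fun f => by simp) (fun f => by simp)
    (fun f g => by
      apply (freeSheafHomEquiv _ _ _).injective
      rw [Equiv.apply_symm_apply, freeSheafHomEquiv_naturality, Equiv.apply_symm_apply,
        constZHomEquiv_naturality])

/-- `H^n(T, F) ≃+ H^n(F)` for a terminal object `T` of the site. -/
noncomputable def HTerminalAddEquiv [HasExt.{u} (Sheaf J AddCommGrpCat.{u})]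
    (F : Sheaf J AddCommGrpCat.{u}) (n : ℕ) :
    (Sheaf.H' F n T : AddCommGrpCat.{u}) ≃+ Sheaf.H F n :=
  ExtAdj.addEquivOfIsoLeft (freeSheafTerminalIso J hT) F n

end Bridge

variable {X : Scheme.{u}} [IsAffine X] (M : X.Modules) [M.IsQuasicoherent]

/-- Standard coverings: finite coverings of a basic open by basic opens. -/
def Cov (X : Scheme.{u}) (ι : Type u) (V : ι → X.Opens) : Prop :=
  Finite ι ∧ ∃ (g : ι → Γ(X, ⊤)) (f : Γ(X, ⊤)),
    V = (fun i => X.basicOpen (g i)) ∧ ⨆ i, X.basicOpen (g i) = X.basicOpen f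

lemma iInf_basicOpen {ι : Type u} (g : ι → Γ(X, ⊤)) {p : ℕ} (a : Fin (p + 1) → ι) :
    (⨅ k, X.basicOpen (g (a k))) = X.basicOpen (∏ k, g (a k)) := by
  rw [AffineCech.basicOpen_prod, Finset.inf_univ_eq_iInf]

theorem subsingleton_HU_basicOpen (f : Γ(X, ⊤)) (p : ℕ) :
    Subsingleton (CohTop.HU (X := X.carrier) (Coh.toAb M) (p + 1) (X.basicOpen f)) := by
  refine Groth.Agent.H67.CechTop.cartan_basis_top (X := X.carrier) (Coh.toAb M)
    (Set.range (fun f : Γ(X, ⊤) => X.basicOpen f)) (Cov X) ?_ ?_ ?_ _ ⟨f, rfl⟩ p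
  · rintro ι V ⟨_, g, f, rfl, hcov⟩
    refine ⟨⟨f, hcov.symm⟩, fun p a => ⟨∏ k, g (a k), ?_⟩⟩
    exact (iInf_basicOpen g a).symm
  · rintro U ⟨f, rfl⟩ κ W hW
    classical
    let S : Set Γ(X, ⊤) := {g | ∃ k, X.basicOpen g ≤ W k}
    have hcomp : IsCompact (X.basicOpen f : Set X) :=
      ((isAffineOpen_top X).basicOpen f).isCompact
    have hleS : ∀ g : S, X.basicOpen g.1 ≤ X.basicOpen f := by
      rintro ⟨g, k, hk⟩
      have hW' : iSup W = X.basicOpen f := hW
      exact hk.trans (hW' ▸ le_iSup W k)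
    obtain ⟨t, ht⟩ := hcomp.elim_finite_subcover (fun g : S => (X.basicOpen g.1 : Set X))
      (fun g => (X.basicOpen g.1).isOpen) (by
        intro x hx
        have hx' : x ∈ iSup W := hW ▸ hx
        obtain ⟨k, hk⟩ := Opens.mem_iSup.1 hx'
        obtain ⟨v, ⟨_, ⟨g, rfl⟩, rfl⟩, hxv, hvW⟩ :=
          (isBasis_basicOpen X).exists_subset_of_mem_open hk (W k).isOpen
        exact Set.mem_iUnion.2 ⟨⟨g, k, hvW⟩, hxv⟩)
    have hsup : ⨆ i : t, X.basicOpen i.1.1 = X.basicOpen f := by
      apply le_antisymm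
      · exact iSup_le (fun i => hleS i.1)
      · intro x hx
        obtain ⟨g, hg⟩ := Set.mem_iUnion.1 (ht hx)
        obtain ⟨hgt, hxg⟩ := Set.mem_iUnion.1 hg
        exact Opens.mem_iSup.2 ⟨⟨g, hgt⟩, hxg⟩
    exact ⟨↥t, fun i => X.basicOpen i.1.1, ⟨inferInstance, fun i => i.1.1, f, rfl, hsup⟩, hsup,
      fun i => i.1.2⟩
  · rintro ι V ⟨_, g, f, rfl, hcov⟩ p
    exact AffineCech.isZero_cech_homology M g f hcov p

/-- **Serre vanishing on affine schemes.** -/
theorem subsingleton_HH (p : ℕ) : Subsingleton (Coh.HH X M (p + 1)) := by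
  have h := subsingleton_HU_basicOpen M (1 : Γ(X, ⊤)) p
  rw [Scheme.basicOpen_one] at h
  exact (HTerminalAddEquiv (Opens.grothendieckTopology X) (isTerminalTop : IsTerminal (⊤ : X.Opens))
    (Coh.toAb M) (p + 1)).symm.subsingleton

end Groth.Agent.H45.AffineVanishing
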