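import Groth.Agent.H45.CohTopOpenPull
import Groth.Agent.H45.RDerivedLES
import Groth.Prelude.Def_LocCohZ

/-!
# Library for `LocCohZ` (sheaves of sections with support in a closed subset of a space)
-/

set_option autoImplicit false
universe u
open CategoryTheory CategoryTheory.Limits Opposite TopologicalSpace

namespace Groth.Agent.H45.LocCohZLib

open Groth.Agent.H45.CohTopOpenPull Groth.Agent.H45.RDerivedLES

variable {X : TopCat.{u}}

section Kernel

variable {A B : CohTop.Ab X} (f : A ⟶ B)

/-- Sections of a kernel inject into the sections of the source. -/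
lemma kernel_ι_app_injective (V : Opens X) :
    Function.Injective ((kernel.ι f).hom.app (op V)) := by
  intro s₁ s₂ h
  have h' : CohFree.ofSect (Opens.grothendieckTopology X) V _ s₁ ≫ kernel.ι f =
      CohFree.ofSect (Opens.grothendieckTopology X) V _ s₂ ≫ kernel.ι f := by
    apply (CohFree.homEquivSect (Opens.grothendieckTopology X) V A).injective
    change (kernel.ι f).hom.app (op V) (CohFree.evalGen _ V _ (CohFree.ofSect _ V _ s₁)) =
      (kernel.ι f).hom.app (op V) (CohFree.evalGen _ V _ (CohFree.ofSect _ V _ s₂))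
    rw [CohFree.evalGen_ofSect, CohFree.evalGen_ofSect]
    exact h
  have h'' := (cancel_mono (kernel.ι f)).1 h'
  have := congrArg (CohFree.evalGen (Opens.grothendieckTopology X) V _) h''
  rwa [CohFree.evalGen_ofSect, CohFree.evalGen_ofSect] at this

/-- A section killed by `f` lifts to the kernel. -/
lemma exists_kernel_lift (V : Opens X) (a : A.obj.obj (op V)) (ha : f.hom.app (op V) a = 0) :
    ∃ s : (kernel f).obj.obj (op V), (kernel.ι f).hom.app (op V) s = a := by
  let φ := CohFree.ofSect (Opens.grothendieckTopology X) V A a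
  have hφ : φ ≫ f = 0 := by
    apply (CohFree.homEquivSect (Opens.grothendieckTopology X) V B).injective
    rw [map_zero]
    change f.hom.app (op V) (CohFree.evalGen _ V _ φ) = 0
    rw [CohFree.evalGen_ofSect]
    exact ha
  refine ⟨CohFree.evalGen _ V _ (kernel.lift f φ hφ), ?_⟩
  change CohFree.evalGen _ V _ (kernel.lift f φ hφ ≫ kernel.ι f) = a
  rw [kernel.lift_ι]
  exact CohFree.evalGen_ofSect _ _ _ _

end Kernel

section Glue

/-- Gluing two sections. -/
lemma exists_glue₂ (F : CohTop.Ab X) {U₁ U₂ : Opens X} (a₁ : F.obj.obj (op U₁))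
    (a₂ : F.obj.obj (op U₂))
    (h : F.obj.map (homOfLE (inf_le_left : U₁ ⊓ U₂ ≤ U₁)).op a₁ =
      F.obj.map (homOfLE (inf_le_right : U₁ ⊓ U₂ ≤ U₂)).op a₂) :
    ∃ b : F.obj.obj (op (U₁ ⊔ U₂)), F.obj.map (homOfLE (le_sup_left : U₁ ≤ U₁ ⊔ U₂)).op b = a₁ ∧
      F.obj.map (homOfLE (le_sup_right : U₂ ≤ U₁ ⊔ U₂)).op b = a₂ := by
  let Uf : Bool → Opens X := fun b => Bool.rec U₂ U₁ b
  let sf : ∀ b : Bool, F.obj.obj (op (Uf b)) := fun b => Bool.rec a₂ a₁ b
  have hle : ∀ b, Uf b ≤ U₁ ⊔ U₂ := fun b => by cases b <;> simp [Uf]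
  have hcover : U₁ ⊔ U₂ ≤ iSup Uf := by
    apply sup_le
    · exact le_iSup Uf true
    · exact le_iSup Uf false
  have hcompat : TopCat.Presheaf.IsCompatible F.obj Uf sf := by
    intro i j
    cases i <;> cases j
    · rfl
    · have := congrArg (F.obj.map (homOfLE (by rw [inf_comm] : U₂ ⊓ U₁ ≤ U₁ ⊓ U₂)).op) h
      rw [← ConcreteCategory.comp_apply, ← ConcreteCategory.comp_apply, ← F.obj.map_comp,
        ← F.obj.map_comp] at this
      exact this.symm
    · exact h
    · rfl
  obtain ⟨b, hb, -⟩ := TopCat.Sheaf.existsUnique_gluing' F Uf (U₁ ⊔ U₂) (fun b => homOfLE (hle b))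
    hcover sf hcompat
  exact ⟨b, hb true, hb false⟩

end Glue

section Unit

variable (U : Opens X)

/-- The unit `𝟭 ⟶ j⁻¹ ⋙ j_*`. -/
noncomputable abbrev η : 𝟭 (CohTop.Ab X) ⟶ CohTop.pull (CohCx.incl U) ⋙ CohTop.push (CohCx.incl U) :=
  (TopCat.Sheaf.pullbackPushforwardAdjunction AddCommGrpCat.{u} (CohCx.incl U)).unit

/-- The open `U ∩ V`, in the form in which it comes out of the adjunction. -/
abbrev interOpen (V : Opens X) : Opens X :=
  (U.isOpenEmbedding.isOpenMap.functor).obj ((Opens.map (CohCx.incl U)).obj V)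

lemma interOpen_le (V : Opens X) : interOpen U V ≤ V :=
  leOfHom ((U.isOpenEmbedding.isOpenMap.adjunction).counit.app V)

lemma interOpen_le_self (V : Opens X) : interOpen U V ≤ U := by
  rintro _ ⟨x, -, rfl⟩
  exact x.2

lemma le_interOpen {V W : Opens X} (h₁ : W ≤ V) (h₂ : W ≤ U) : W ≤ interOpen U V := by
  intro x hx
  exact ⟨⟨x, h₂ hx⟩, h₁ hx, rfl⟩

lemma restrPushAdj_unit_app (A : CohTop.Ab X) (V : Opens X) (a : A.obj.obj (op V)) :
    ((restrPushAdj U).unit.app A).hom.app (op V) a =
      A.obj.map (homOfLE (interOpen_le U V)).op a := rfl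

lemma unit_app_eq_zero_iff (A : CohTop.Ab X) (V : Opens X) (a : A.obj.obj (op V)) :
    ((η U).app A).hom.app (op V) a = 0 ↔ A.obj.map (homOfLE (interOpen_le U V)).op a = 0 := by
  have h := unit_comp U A
  have h' : (η U).app A = (restrPushAdj U).unit.app A ≫
      (CohTop.push (CohCx.incl U)).map ((pullIsoRestr U).inv.app A) := by
    have e : (CohTop.push (CohCx.incl U)).map ((pullIsoRestr U).hom.app A) ≫
        (CohTop.push (CohCx.incl U)).map ((pullIsoRestr U).inv.app A) = 𝟙 _ := by
      rw [← Functor.map_comp, Iso.hom_inv_id_app]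
      exact CategoryTheory.Functor.map_id _ _
    calc (η U).app A = (η U).app A ≫ 𝟙 _ := (Category.comp_id _).symm
      _ = (η U).app A ≫ ((CohTop.push (CohCx.incl U)).map ((pullIsoRestr U).hom.app A) ≫
          (CohTop.push (CohCx.incl U)).map ((pullIsoRestr U).inv.app A)) := by rw [e]; rfl
      _ = _ := by rw [← Category.assoc]; exact congrArg (· ≫ _) h
  rw [← restrPushAdj_unit_app]
  constructor
  · intro ha
    have h1 := congrArg (fun φ : A ⟶ _ => (φ.hom.app (op V)) a) h
    refine h1.symm.trans ?_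
    change ((CohTop.push (CohCx.incl U)).map ((pullIsoRestr U).hom.app A)).hom.app (op V)
      (((η U).app A).hom.app (op V) a) = 0
    exact (congrArg _ ha).trans (map_zero _)
  · intro ha
    have h1 := congrArg (fun φ : A ⟶ _ => (φ.hom.app (op V)) a) h'
    refine h1.trans ?_
    change ((CohTop.push (CohCx.incl U)).map ((pullIsoRestr U).inv.app A)).hom.app (op V)
      (((restrPushAdj U).unit.app A).hom.app (op V) a) = 0
    exact (congrArg _ ha).trans (map_zero _)

end Unit

/-- `Γ_Z(A)` is flasque when `A` is. -/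
theorem isFlasque_sectSuppF (A : CohTop.Ab X) [TopCat.Sheaf.IsFlasque A]
    (U : Opens X) : TopCat.Sheaf.IsFlasque ((LocCohZ.sectSuppF U).obj A) := by
  refine ⟨fun {V V'} i => ?_⟩
  rw [AddCommGrpCat.epi_iff_surjective]
  intro s'
  -- notation
  let f := (η U).app A
  have hV'V : V'.unop ≤ V.unop := leOfHom i.unop
  -- the image of `s'` in `A(V')`
  let a' : A.obj.obj (op V'.unop) := (kernel.ι f).hom.app (op V'.unop) s'
  have ha' : f.hom.app (op V'.unop) a' = 0 := by
    have := congrArg (fun φ : kernel f ⟶ _ => φ.hom.app (op V'.unop) s') (kernel.condition f)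
    exact this
  have ha'0 := (unit_app_eq_zero_iff U A V'.unop a').1 ha'
  -- glue with `0` on `U ∩ V`
  let W := interOpen U V.unop
  let W' := interOpen U V'.unop
  have hW : V'.unop ⊓ W ≤ W' :=
    le_interOpen U inf_le_left
      (inf_le_right.trans (interOpen_le_self U V.unop))
  obtain ⟨b, hb₁, hb₂⟩ := exists_glue₂ A a' (0 : A.obj.obj (op W)) (by
    rw [map_zero]
    have := congrArg (A.obj.map (homOfLE hW).op) ha'0
    rw [map_zero, ← ConcreteCategory.comp_apply, ← A.obj.map_comp] at this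
    exact this)
  -- extend to `V`
  have hle : V'.unop ⊔ W ≤ V.unop :=
    sup_le hV'V (interOpen_le U V.unop)
  have hepi : Epi (A.obj.map (homOfLE hle).op) := TopCat.Presheaf.IsFlasque.epi _
  rw [AddCommGrpCat.epi_iff_surjective] at hepi
  obtain ⟨a, ha⟩ := hepi b
  have haW : A.obj.map (homOfLE (interOpen_le U V.unop)).op a = 0 := by
    rw [← hb₂, ← ha, ← ConcreteCategory.comp_apply, ← A.obj.map_comp]
    rfl
  have haV' : A.obj.map (homOfLE hV'V).op a = a' := by
    rw [← hb₁, ← ha, ← ConcreteCategory.comp_apply, ← A.obj.map_comp]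
    rfl
  obtain ⟨s, hs⟩ := exists_kernel_lift f V.unop a
    ((unit_app_eq_zero_iff U A V.unop a).2 haW)
  refine ⟨s, ?_⟩
  apply kernel_ι_app_injective f V'.unop
  have hnat := congrArg (fun φ => φ s) (congrArg ConcreteCategory.hom ((kernel.ι f).hom.naturality i))
  refine hnat.trans ?_
  change A.obj.map i ((kernel.ι f).hom.app (op V.unop) s) = a'
  rw [hs, ← haV']
  rfl


end Groth.Agent.H45.LocCohZLib
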