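import Groth.Agent.H56.PerfDual
import Groth.Agent.S6515
import Groth.Agent.H40.UnitIso
import Groth.Agent.H82.HHFinite
import Groth.Agent.H90.QCohHom

/-!
# `F` coherent ⇒ `F ⊗ O^n` coherent (piece (Q1-c) for helper31's S6498)
-/

set_option autoImplicit false
set_option linter.style.haveILetI false
universe u
open CategoryTheory CategoryTheory.Limits AlgebraicGeometry HomologicalComplex
  CategoryTheory.Pretriangulated
attribute [local instance] HasDerivedCategory.standard

namespace Groth.Agent.H45.DCOH_Q1c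

/-- `F ⊗ O_Z ≅ F`. -/
noncomputable def tensorUnitIso {Z : Scheme.{u}} (F : Z.Modules) :
    ((DCoh.tensorBi (X := Z)).obj F).obj (Coh.structureModule Z) ≅ F :=
  Groth.Agent.H40.UnitIso.rightUnitIso Z.sheaf F

theorem isCoh_tensor_free {Z : Scheme.{u}} [IsLocallyNoetherian Z] (F M : Z.Modules) (n : ℕ)
    (e : M ≅ FlatMod.freeMod Z n) (hF : Coh.IsCoh F) :
    Coh.IsCoh (((DCoh.tensorBi (X := Z)).obj F).obj M) := by
  classical
  let T : Z.Modules ⥤ Z.Modules := (DCoh.tensorBi (X := Z)).obj F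
  haveI : T.Additive := DCoh.additive_tensorBi_obj F
  haveI : PreservesFiniteCoproducts T := Functor.preservesFiniteCoproductsOfAdditive T
  haveI : PreservesColimitsOfShape (Discrete (Fin n)) T :=
    PreservesFiniteCoproducts.preserves _
  let e1 : T.obj M ≅ T.obj (FlatMod.freeMod Z n) := T.mapIso e
  let e2 : T.obj (FlatMod.freeMod Z n) ≅ ∐ fun _ : Fin n => T.obj (Coh.structureModule Z) :=
    PreservesCoproduct.iso T (fun _ : Fin n => Coh.structureModule Z)
  let e3 : (∐ fun _ : Fin n => T.obj (Coh.structureModule Z)) ≅ ∐ fun _ : Fin n => F :=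
    Sigma.mapIso (fun _ => tensorUnitIso F)
  exact Groth.Agent.H90.QH.isCoh_of_iso (e1 ≪≫ e2 ≪≫ e3).symm
    (Groth.Agent.H82.HHFinite.isCoh_sigma (fun _ : Fin n => F) (fun _ => hF))

end Groth.Agent.H45.DCOH_Q1c
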