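import Mathlib

/-!
# Squad piece (B) for helper56 / S1114: termwise self-adjunction of finite free objects

For a bi-additive bifunctor `F : 𝒜 ⥤ 𝒜 ⥤ 𝒜` with a right unit `O` (`ρ : F(-,O) ≅ 𝟭`), every
object `A ≅ O^n` gives an adjunction `F(-,A) ⊣ F(-,O^n)`, and the conjugate of `F(-,f)` is
`F(-,t)` for the transpose matrix `t`.

Abstract core: an endofunctor `G` together with a decomposition `Dec G n` as a biproduct of `n`
copies of the identity functor (in the functor category).  Two functors with decompositions of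
the same rank are adjoint (`Dec.adj`), and conjugation is matrix transposition
(`Dec.conjugateEquiv_adj`).
-/

set_option autoImplicit false

open CategoryTheory CategoryTheory.Limits HomologicalComplex

namespace Groth.Agent.TotAdjB

section Abstract

variable {𝒜 : Type*} [Category 𝒜] [Preadditive 𝒜]

/-- A decomposition of an endofunctor as a finite biproduct of copies of the identity. -/
structure Dec (G : 𝒜 ⥤ 𝒜) (n : ℕ) where
  u : Fin n → (𝟭 𝒜 ⟶ G)
  c : Fin n → (G ⟶ 𝟭 𝒜)
  uc : ∀ i j, u i ≫ c j = if i = j then 𝟙 _ else 0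
  cu : ∑ i, c i ≫ u i = 𝟙 G

namespace Dec

section
variable {G : 𝒜 ⥤ 𝒜} {n : ℕ} (d : Dec G n)

@[reassoc]
lemma uc_app (i j : Fin n) (P : 𝒜) :
    (d.u i).app P ≫ (d.c j).app P = if i = j then 𝟙 P else 0 := by
  have h := congr_app (d.uc i j) P
  rw [NatTrans.comp_app] at h
  rw [h]
  split_ifs <;> simp

lemma cu_app (P : 𝒜) : ∑ i, (d.c i).app P ≫ (d.u i).app P = 𝟙 (G.obj P) := by
  have h := congr_app d.cu P
  rw [NatTrans.app_sum] at h
  simpa using h

@[reassoc]
lemma u_nat (i : Fin n) {X Y : 𝒜} (f : X ⟶ Y) :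
    f ≫ (d.u i).app Y = (d.u i).app X ≫ G.map f := (d.u i).naturality f

@[reassoc]
lemma c_nat (i : Fin n) {X Y : 𝒜} (f : X ⟶ Y) :
    G.map f ≫ (d.c i).app Y = (d.c i).app X ≫ f := (d.c i).naturality f

end

variable {L R : 𝒜 ⥤ 𝒜} [L.Additive] [R.Additive] {n : ℕ}

/-- unit of the adjunction -/
@[simps]
def unit (dL : Dec L n) (dR : Dec R n) : 𝟭 𝒜 ⟶ L ⋙ R where
  app P := ∑ i, (dL.u i).app P ≫ (dR.u i).app (L.obj P)
  naturality P Q f := by
    dsimp only [Functor.id_obj, Functor.id_map, Functor.comp_obj, Functor.comp_map]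
    simp only [Preadditive.comp_sum, Preadditive.sum_comp, Category.assoc]
    refine Finset.sum_congr rfl fun i _ => ?_
    rw [dL.u_nat_assoc i f, dR.u_nat i (L.map f)]

/-- counit of the adjunction -/
@[simps]
def counit (dL : Dec L n) (dR : Dec R n) : R ⋙ L ⟶ 𝟭 𝒜 where
  app M := ∑ i, (dL.c i).app (R.obj M) ≫ (dR.c i).app M
  naturality M N g := by
    dsimp only [Functor.id_obj, Functor.id_map, Functor.comp_obj, Functor.comp_map]
    simp only [Preadditive.comp_sum, Preadditive.sum_comp, Category.assoc]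
    refine Finset.sum_congr rfl fun i _ => ?_
    rw [dL.c_nat_assoc i (R.map g), dR.c_nat i g]

/-- Two additive endofunctors with decompositions of the same rank are adjoint. -/
def adj (dL : Dec L n) (dR : Dec R n) : L ⊣ R where
  unit := unit dL dR
  counit := counit dL dR
  left_triangle_components P := by
    rw [unit_app, counit_app, Functor.map_sum, Preadditive.sum_comp]
    simp only [Preadditive.comp_sum]
    have key : ∀ i j : Fin n,
        L.map ((dL.u i).app P ≫ (dR.u i).app (L.obj P)) ≫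
          (dL.c j).app (R.obj (L.obj P)) ≫ (dR.c j).app (L.obj P) =
        if i = j then (dL.c i).app P ≫ (dL.u i).app P else 0 := by
      intro i j
      rw [dL.c_nat_assoc, Category.assoc, dR.uc_app]
      split_ifs with h
      · subst h; simp
      · simp
    simp only [key, Finset.sum_ite_eq, Finset.mem_univ, if_true]
    exact dL.cu_app P
  right_triangle_components M := by
    rw [unit_app, counit_app, Functor.map_sum, Preadditive.sum_comp]
    simp only [Preadditive.comp_sum]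
    have key : ∀ i j : Fin n,
        ((dL.u i).app (R.obj M) ≫ (dR.u i).app (L.obj (R.obj M))) ≫
          R.map ((dL.c j).app (R.obj M) ≫ (dR.c j).app M) =
        if i = j then (dR.c i).app M ≫ (dR.u i).app M else 0 := by
      intro i j
      rw [Category.assoc, ← dR.u_nat, Category.assoc]
      erw [dL.uc_app_assoc]
      split_ifs with h
      · subst h; simp
      · simp
    simp only [key, Finset.sum_ite_eq, Finset.mem_univ, if_true]
    exact dR.cu_app M

@[simp] lemma adj_unit (dL : Dec L n) (dR : Dec R n) : (adj dL dR).unit = unit dL dR := rfl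
@[simp] lemma adj_counit (dL : Dec L n) (dR : Dec R n) : (adj dL dR).counit = counit dL dR := rfl

/-- Conjugation between the adjunctions `Dec.adj` is matrix transposition. -/
lemma conjugateEquiv_adj {L₁ R₁ L₂ R₂ : 𝒜 ⥤ 𝒜} [L₁.Additive] [R₁.Additive] [L₂.Additive]
    [R₂.Additive] {n₁ n₂ : ℕ} (dL₁ : Dec L₁ n₁) (dR₁ : Dec R₁ n₁) (dL₂ : Dec L₂ n₂)
    (dR₂ : Dec R₂ n₂) (α : L₂ ⟶ L₁) :
    conjugateEquiv (adj dL₁ dR₁) (adj dL₂ dR₂) α =
      ∑ i : Fin n₂, ∑ j : Fin n₁, dR₁.c j ≫ (dL₂.u i ≫ α ≫ dL₁.c j) ≫ dR₂.u i := by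
  ext M
  rw [conjugateEquiv_apply_app, adj_unit, adj_counit, unit_app, counit_app, ← Functor.map_comp,
    Preadditive.sum_comp]
  simp only [NatTrans.app_sum, NatTrans.comp_app]
  refine Finset.sum_congr rfl fun i _ => ?_
  rw [Category.assoc, ← dR₂.u_nat]
  simp only [Preadditive.comp_sum, Preadditive.sum_comp]
  refine Finset.sum_congr rfl fun j _ => ?_
  have hm := (dL₂.u i ≫ α ≫ dL₁.c j).naturality ((dR₁.c j).app M)
  simp only [NatTrans.comp_app, Functor.id_map, Category.assoc] at hm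
  simp only [Category.assoc]
  rw [reassoc_of% hm]

end Dec

end Abstract

section Concrete

variable {𝒜 : Type*} [Category 𝒜] [Preadditive 𝒜]

/-- A frame of rank `n` on `A`: a presentation of `A` as the biproduct of `n` copies of `O`. -/
structure Frame (O A : 𝒜) (n : ℕ) where
  ι : Fin n → (O ⟶ A)
  π : Fin n → (A ⟶ O)
  ιπ : ∀ i j, ι i ≫ π j = if i = j then 𝟙 O else 0
  sum : ∑ i, π i ≫ ι i = 𝟙 A

/-- transport of a frame along an isomorphism -/
def Frame.transport {O A B : 𝒜} {n : ℕ} (fr : Frame O B n) (e : A ≅ B) : Frame O A n where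
  ι i := fr.ι i ≫ e.inv
  π i := e.hom ≫ fr.π i
  ιπ i j := by simp [fr.ιπ]
  sum := by
    calc ∑ i, (e.hom ≫ fr.π i) ≫ fr.ι i ≫ e.inv
        = e.hom ≫ (∑ i, fr.π i ≫ fr.ι i) ≫ e.inv := by
          simp [Preadditive.comp_sum, Preadditive.sum_comp]
      _ = 𝟙 A := by rw [fr.sum]; simp

/-- the standard frame on `O^n` -/
noncomputable def Frame.std [HasFiniteCoproducts 𝒜] (O : 𝒜) (n : ℕ) :
    Frame O (∐ fun _ : Fin n => O) n where
  ι i := Sigma.ι (fun _ : Fin n => O) i
  π i := Sigma.desc (fun j => if j = i then 𝟙 O else 0)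
  ιπ i j := by simp
  sum := by
    apply Sigma.hom_ext
    intro j
    rw [Preadditive.comp_sum, Category.comp_id]
    have : ∀ i, Sigma.ι (fun _ : Fin n => O) j ≫
        Sigma.desc (fun k => if k = i then 𝟙 O else 0) ≫ Sigma.ι (fun _ : Fin n => O) i =
        if j = i then Sigma.ι (fun _ : Fin n => O) j else 0 := by
      intro i
      rw [Sigma.ι_desc_assoc]
      split_ifs with h
      · subst h; simp
      · simp
    simp only [this, Finset.sum_ite_eq, Finset.mem_univ, if_true]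

lemma flip_additive (F : 𝒜 ⥤ 𝒜 ⥤ 𝒜) [∀ X, (F.obj X).Additive] : F.flip.Additive := { }

lemma flip_obj_additive (F : 𝒜 ⥤ 𝒜 ⥤ 𝒜) [F.Additive] (A : 𝒜) : (F.flip.obj A).Additive := { }

variable (F : 𝒜 ⥤ 𝒜 ⥤ 𝒜) [F.Additive] [∀ X, (F.obj X).Additive]

attribute [local instance] flip_additive flip_obj_additive

variable {O : 𝒜} (ρ : F.flip.obj O ≅ 𝟭 𝒜)

/-- the decomposition of `F(-,A)` induced by a frame on `A` -/
def decOfFrame {A : 𝒜} {n : ℕ} (fr : Frame O A n) : Dec (F.flip.obj A) n where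
  u i := ρ.inv ≫ F.flip.map (fr.ι i)
  c i := F.flip.map (fr.π i) ≫ ρ.hom
  uc i j := by
    rw [Category.assoc, ← Category.assoc (F.flip.map _), ← Functor.map_comp, fr.ιπ]
    split_ifs with h
    · simp
    · simp
  cu := by
    have : ∀ i, (F.flip.map (fr.π i) ≫ ρ.hom) ≫ ρ.inv ≫ F.flip.map (fr.ι i) =
        F.flip.map (fr.π i ≫ fr.ι i) := by
      intro i; simp
    simp only [this]
    rw [← Functor.map_sum, fr.sum, CategoryTheory.Functor.map_id]

end Concrete

variable {𝒜 : Type*} [Category 𝒜] [Preadditive 𝒜] [HasFiniteCoproducts 𝒜] (F : 𝒜 ⥤ 𝒜 ⥤ 𝒜) [F.Additive] [∀ X, (F.obj X).Additive]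
  (O : 𝒜) (ρ : F.flip.obj O ≅ 𝟭 𝒜)

attribute [local instance] flip_additive flip_obj_additive

include ρ in
theorem exists_free_adj :
    ∃ (adj : ∀ (A : 𝒜) (n : ℕ) (_ : A ≅ ∐ fun _ : Fin n => O), F.flip.obj A ⊣ F.flip.obj (∐ fun _ : Fin n => O)),
      ∀ (A A' : 𝒜) (n n' : ℕ) (e : A ≅ ∐ fun _ : Fin n => O) (e' : A' ≅ ∐ fun _ : Fin n' => O) (f : A ⟶ A'),
        ∃ t : (∐ fun _ : Fin n' => O) ⟶ (∐ fun _ : Fin n => O),
          conjugateEquiv (adj A' n' e') (adj A n e) (F.flip.map f) = F.flip.map t := by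
  refine ⟨fun A n e => Dec.adj (decOfFrame F ρ ((Frame.std O n).transport e))
    (decOfFrame F ρ (Frame.std O n)), ?_⟩
  intro A A' n n' e e' f
  refine ⟨∑ i : Fin n, ∑ j : Fin n', (Frame.std O n').π j ≫ ((Frame.std O n).transport e).ι i ≫ f ≫
    ((Frame.std O n').transport e').π j ≫ (Frame.std O n).ι i, ?_⟩
  dsimp only
  rw [Dec.conjugateEquiv_adj, Functor.map_sum]
  refine Finset.sum_congr rfl fun i _ => ?_
  rw [Functor.map_sum]
  refine Finset.sum_congr rfl fun j _ => ?_
  simp only [decOfFrame, Functor.map_comp, Category.assoc, Iso.hom_inv_id_assoc]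

end Groth.Agent.TotAdjB
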