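import Groth.Agent.H34.KeyDefs
import Groth.Agent.H71.DimFun

/-!
# (S1) for helper34's S1920 squad: the dimension of a local ring of an integral scheme with a
dimension function
-/

set_option autoImplicit false
set_option linter.style.haveILetI false

universe u

open CategoryTheory AlgebraicGeometry TopologicalSpace Opposite

namespace Groth.Agent.H45.KeyS1

variable {X : Scheme.{u}} [IsIntegral X]

/-- The generic point of `Spec O_{X,x}` maps to the generic point of `X`. -/
theorem fromSpecStalk_bot (x : X) :
    X.fromSpecStalk x (⊥ : PrimeSpectrum (X.presheaf.stalk x)) = genericPoint X := by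
  obtain ⟨q, hq⟩ := Groth.Agent.H71.DimFun.exists_of_specializes X (genericPoint_specializes x)
  have h1 : X.fromSpecStalk x (⊥ : PrimeSpectrum (X.presheaf.stalk x)) ⤳ X.fromSpecStalk x q :=
    (Groth.Agent.H71.DimFun.fromSpecStalk_specializes_iff X x ⊥ q).mpr bot_le
  rw [hq] at h1
  exact (h1.antisymm (genericPoint_specializes _)).eq

/-- (S1) the dimension of a local ring of an integral scheme with a dimension function. -/
theorem exists_dim_stalk (δ : X → ℤ) (hX : Cyc.IsSetup X δ) (x : X) :
    ∃ d : ℕ, ringKrullDim (X.presheaf.stalk x) = (d : WithBot ℕ∞) ∧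
      δ (genericPoint X) = δ x + d := by
  haveI : IsLocallyNoetherian X := hX.1
  obtain ⟨d, hd, hδ⟩ := Groth.Agent.H71.DimFun.delta_eq_add_coheight X δ hX.2.2 x ⊥
  refine ⟨d, ?_, ?_⟩
  · have := Order.coheight_bot_eq_krullDim (α := PrimeSpectrum (X.presheaf.stalk x))
    rw [ringKrullDim, ← this, hd]
    rfl
  · rw [← fromSpecStalk_bot x]
    exact hδ

end Groth.Agent.H45.KeyS1
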