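import Mathlib
import Groth.Agent.H3.Hensel2

/-!
# (D5) for helper15's S9298 squad: `abs_algebraize`, with (D3) and (D4) as hypotheses

`abs_algebraize_of` : given the statement (D3) (`D3Statement`) and the conclusion of (D4)
(`J ≤ (J.comap ι).map ι`, as an implication from the approximation property), the quotient
`S ⧸ J` is the completion of `B' ⧸ ι⁻¹ J`.
-/

set_option autoImplicit false
universe u

namespace Groth.Agent.H45.ALG_D5

/-- The statement of (D3), as a hypothesis. -/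
def D3Statement : Prop :=
  ∀ {T T' : Type u} [CommRing T] [CommRing T'] (K : Ideal T) (_ : K.FG) (ι : T →+* T')
    [IsAdicComplete (K.map ι) T']
    (_ : ∀ n : ℕ, Function.Bijective
      (Ideal.quotientMap ((K ^ n).map ι) ι Ideal.le_comap_map)),
    ∃ e : AdicCompletion K T ≃+* T', ∀ x : T, e (algebraMap T (AdicCompletion K T) x) = ι x

section

variable {B' S : Type u} [CommRing B'] [CommRing S] (ι : B' →+* S) (J : Ideal S)

/-- The induced map `B' ⧸ ι⁻¹ J → S ⧸ J`. -/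
noncomputable abbrev ιD : B' ⧸ J.comap ι →+* S ⧸ J := Ideal.quotientMap J ι le_rfl

theorem ιD_mk (b : B') :
    ιD ι J (Ideal.Quotient.mk (J.comap ι) b) = Ideal.Quotient.mk J (ι b) :=
  Ideal.quotientMap_mk

theorem ιD_comp_mk :
    (ιD ι J).comp (Ideal.Quotient.mk (J.comap ι)) = (Ideal.Quotient.mk J).comp ι :=
  Ideal.quotientMap_comp_mk _

theorem map_map_ιD (𝔟 : Ideal B') :
    (𝔟.map (Ideal.Quotient.mk (J.comap ι))).map (ιD ι J) =
      (𝔟.map ι).map (Ideal.Quotient.mk J) := by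
  rw [Ideal.map_map, Ideal.map_map, ιD_comp_mk]

/-- Surjectivity modulo `𝔫` gives approximation modulo `𝔫 S`. -/
theorem exists_approx (𝔫 : Ideal B')
    (hsurj : Function.Surjective (Ideal.quotientMap (𝔫.map ι) ι Ideal.le_comap_map)) (s : S) :
    ∃ b : B', s - ι b ∈ 𝔫.map ι := by
  obtain ⟨b', hb'⟩ := hsurj (Ideal.Quotient.mk _ s)
  obtain ⟨b, rfl⟩ := Ideal.Quotient.mk_surjective b'
  rw [Ideal.quotientMap_mk] at hb'
  exact ⟨b, Ideal.Quotient.eq.mp hb'.symm⟩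

/-- If `B' ⧸ 𝔫 → S ⧸ 𝔫 S` is bijective, then `ι b ∈ (𝔡 ⊔ 𝔫) S` implies `b ∈ 𝔡 ⊔ 𝔫`. -/
theorem mem_sup_of_map_mem (𝔫 𝔡 : Ideal B') (φ : B' ⧸ 𝔫 →+* S ⧸ 𝔫.map ι)
    (hφ : ∀ x, φ (Ideal.Quotient.mk 𝔫 x) = Ideal.Quotient.mk (𝔫.map ι) (ι x))
    (hbij : Function.Bijective φ) (b : B') (hb : ι b ∈ (𝔡 ⊔ 𝔫).map ι) : b ∈ 𝔡 ⊔ 𝔫 := by
  have hcomp : φ.comp (Ideal.Quotient.mk 𝔫) = (Ideal.Quotient.mk (𝔫.map ι)).comp ι :=
    RingHom.ext (fun x => hφ x)
  have h1 : Ideal.Quotient.mk (𝔫.map ι) (ι b) ∈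
      ((𝔡 ⊔ 𝔫).map ι).map (Ideal.Quotient.mk (𝔫.map ι)) := Ideal.mem_map_of_mem _ hb
  rw [Ideal.map_map, ← hcomp, ← Ideal.map_map, ← hφ b] at h1
  obtain ⟨a, ha, hab⟩ := (Ideal.mem_map_iff_of_surjective φ hbij.2).mp h1
  have h3 : a = Ideal.Quotient.mk 𝔫 b := hbij.1 hab
  rw [h3] at ha
  exact Groth.Agent.H3.mem_of_mk_mem_map 𝔫 (𝔡 ⊔ 𝔫) le_sup_right ha

end

/-- (D5), with (D3) as a hypothesis and the conclusion of (D4) as an implication from the
approximation property. -/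
theorem abs_algebraize_of (hD3 : D3Statement.{u}) {B' S : Type u} [CommRing B'] [CommRing S]
    (ι : B' →+* S) {r : ℕ} (τ : Fin r → B')
    (hlev : ∀ n : ℕ, Function.Bijective
      (Ideal.quotientMap (((Ideal.span (Set.range τ)) ^ n).map ι) ι Ideal.le_comap_map))
    (J : Ideal S)
    (hcompl : IsAdicComplete
      (((Ideal.span (Set.range τ)).map ι).map (Ideal.Quotient.mk J)) (S ⧸ J))
    (hD4 : (∀ (N : ℕ) (s : S), ∃ b : B', s - ι b ∈ ((Ideal.span (Set.range τ)) ^ N).map ι) →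
      J ≤ (J.comap ι).map ι)
    (KD : Ideal (B' ⧸ J.comap ι))
    (hKD : KD = (Ideal.span (Set.range τ)).map (Ideal.Quotient.mk (J.comap ι))) :
    ∃ e : AdicCompletion KD (B' ⧸ J.comap ι) ≃+* S ⧸ J,
      ∀ b : B', e (algebraMap (B' ⧸ J.comap ι) (AdicCompletion KD (B' ⧸ J.comap ι))
        (Ideal.Quotient.mk (J.comap ι) b)) = Ideal.Quotient.mk J (ι b) := by
  subst hKD
  have hJle : J ≤ (J.comap ι).map ι :=
    hD4 (fun N s => exists_approx ι _ (hlev N).2 s)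
  have hJeq : J = (J.comap ι).map ι := le_antisymm hJle Ideal.map_comap_le
  have hKfg : ((Ideal.span (Set.range τ)).map (Ideal.Quotient.mk (J.comap ι))).FG :=
    Ideal.FG.map (Submodule.fg_span (Set.finite_range τ)) _
  obtain ⟨K', hK'⟩ : ∃ K' : Ideal B', K' = Ideal.span (Set.range τ) := ⟨_, rfl⟩
  rw [← hK'] at hlev hcompl hKfg ⊢
  have hKmap : (K'.map (Ideal.Quotient.mk (J.comap ι))).map (ιD ι J) =
      (K'.map ι).map (Ideal.Quotient.mk J) := map_map_ιD ι J K'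
  have hinst : IsAdicComplete ((K'.map (Ideal.Quotient.mk (J.comap ι))).map (ιD ι J))
      (S ⧸ J) := by
    rw [hKmap]
    exact hcompl
  have hlev' : ∀ n : ℕ, Function.Bijective
      (Ideal.quotientMap (((K'.map (Ideal.Quotient.mk (J.comap ι))) ^ n).map (ιD ι J))
        (ιD ι J) Ideal.le_comap_map) := by
    intro n
    have hpow : ((K'.map (Ideal.Quotient.mk (J.comap ι))) ^ n).map (ιD ι J) =
        ((K' ^ n).map ι).map (Ideal.Quotient.mk J) := by
      rw [← Ideal.map_pow, map_map_ιD]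
    constructor
    · rw [injective_iff_map_eq_zero]
      intro x hx
      obtain ⟨x1, rfl⟩ := Ideal.Quotient.mk_surjective x
      obtain ⟨b, rfl⟩ := Ideal.Quotient.mk_surjective x1
      rw [Ideal.quotientMap_mk, ιD_mk, Ideal.Quotient.eq_zero_iff_mem, hpow] at hx
      obtain ⟨z, hz, hzb⟩ :=
        (Ideal.mem_map_iff_of_surjective _ Ideal.Quotient.mk_surjective).mp hx
      have h1 : ι b - z ∈ J := Ideal.Quotient.eq.mp hzb.symm
      have h2 : ι b ∈ ((J.comap ι) ⊔ K' ^ n).map ι := by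
        rw [Ideal.map_sup, ← hJeq]
        have hsplit : ι b = (ι b - z) + z := by ring
        rw [hsplit]
        exact Ideal.add_mem _ (Ideal.mem_sup_left h1) (Ideal.mem_sup_right hz)
      have h3 : b ∈ (J.comap ι) ⊔ K' ^ n :=
        mem_sup_of_map_mem ι (K' ^ n) (J.comap ι) _ (fun x => Ideal.quotientMap_mk)
          (hlev n) b h2
      obtain ⟨d, hd, k, hk, hdk⟩ := Submodule.mem_sup.mp h3
      rw [Ideal.Quotient.eq_zero_iff_mem, ← Ideal.map_pow, ← hdk, map_add,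
        Ideal.Quotient.eq_zero_iff_mem.mpr hd, zero_add]
      exact Ideal.mem_map_of_mem _ hk
    · intro y
      obtain ⟨y1, rfl⟩ := Ideal.Quotient.mk_surjective y
      obtain ⟨s, rfl⟩ := Ideal.Quotient.mk_surjective y1
      obtain ⟨b, hb⟩ := exists_approx ι (K' ^ n) (hlev n).2 s
      refine ⟨Ideal.Quotient.mk _ (Ideal.Quotient.mk _ b), ?_⟩
      rw [Ideal.quotientMap_mk, ιD_mk, eq_comm, Ideal.Quotient.eq, hpow, ← map_sub]
      exact Ideal.mem_map_of_mem _ hb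
  obtain ⟨e, he⟩ := @hD3 (B' ⧸ J.comap ι) (S ⧸ J) _ _
    (K'.map (Ideal.Quotient.mk (J.comap ι))) hKfg (ιD ι J) hinst hlev'
  exact ⟨e, fun b => by rw [he, ιD_mk]⟩

end Groth.Agent.H45.ALG_D5
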