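import Groth.Agent.H45.RDerivedPlusSES
import Mathlib.Algebra.Homology.DerivedCategory.SingleTriangle
import Mathlib.Algebra.Homology.DerivedCategory.FullyFaithful
import Mathlib.Algebra.Homology.SingleHomology
import Mathlib.CategoryTheory.Abelian.Exact

/-!
# Right acyclic objects for `R⁺F`

`RnF F n X = Hⁿ(R⁺F(X[0]))`, its long exact sequence, the comparison map
`uN F n : Hⁿ(F(X)[0]) ⟶ RnF F n X`, and criteria for the unit of `R⁺F` to be an isomorphism.
-/

set_option autoImplicit false
universe w w' v v' u u'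
open CategoryTheory CategoryTheory.Limits Pretriangulated

namespace Groth.Agent.H45.RDP

section Defs

variable {C : Type u} [Category.{v} C] [Abelian C]

/-- The functor `X ↦ X[0]` to bounded below complexes. -/
noncomputable def sglP : C ⥤ CochainComplex.Plus C :=
  ObjectProperty.lift _ (HomologicalComplex.single C (ComplexShape.up ℤ) 0)
    (fun X => ⟨0, inferInstanceAs (((CochainComplex.singleFunctor C 0).obj X).IsStrictlyGE 0)⟩)

instance (X : C) : (sglP.obj X).obj.IsStrictlyGE 0 :=
  inferInstanceAs (((CochainComplex.singleFunctor C 0).obj X).IsStrictlyGE 0)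

lemma injective_sglP_X (J : C) [Injective J] (n : ℤ) : Injective ((sglP.obj J).obj.X n) := by
  by_cases hn : n = 0
  · subst hn
    exact Injective.of_iso
      (HomologicalComplex.singleObjXSelf (ComplexShape.up ℤ) 0 J).symm inferInstance
  · exact IsZero.injective
      (HomologicalComplex.isZero_single_obj_X (ComplexShape.up ℤ) 0 J n hn)

lemma sglP_shortExact {S : ShortComplex C} (hS : S.ShortExact) :
    (ShortComplex.mk (sglP.map S.f).hom (sglP.map S.g).hom
      ((S.map (HomologicalComplex.single C (ComplexShape.up ℤ) 0)).zero)).ShortExact :=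
  hS.map_of_exact (HomologicalComplex.single C (ComplexShape.up ℤ) 0)

variable [HasDerivedCategory.{w} C]

lemma isIso_Qp_map_iff {K L : CochainComplex.Plus C} (f : K ⟶ L) :
    IsIso (Qp.map f) ↔ QuasiIso f.hom := by
  rw [← isIso_iff_of_reflects_iso _ DerivedCategory.Plus.ι,
    ← DerivedCategory.isIso_Q_map_iff_quasiIso]
  have h := qpIso_hom_naturality f
  constructor
  · intro _
    have : IsIso ((qpIso K).hom ≫ DerivedCategory.Q.map f.hom) := by rw [← h]; infer_instance
    exact IsIso.of_isIso_comp_left (qpIso K).hom _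
  · intro _
    have : IsIso (DerivedCategory.Plus.ι.map (Qp.map f) ≫ (qpIso L).hom) := by
      rw [h]; infer_instance
    exact IsIso.of_isIso_comp_right _ (qpIso L).hom

lemma isGE_Qp_obj (M : CochainComplex.Plus C) (n : ℤ) [M.obj.IsStrictlyGE n] :
    (Qp.obj M).IsGE n := by
  rw [← DerivedCategory.Plus.isGE_ι_obj_iff]
  exact DerivedCategory.TStructure.t.isGE_of_iso (qpIso M).symm n

/-- `Q⁺ ⋙ ι ≅ ι ⋙ Q`. -/
noncomputable def qpιIso :
    (Qp : CochainComplex.Plus C ⥤ _) ⋙ DerivedCategory.Plus.ι ≅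
      CochainComplex.Plus.ι C ⋙ DerivedCategory.Q :=
  NatIso.ofComponents qpIso (fun f => qpIso_hom_naturality f)

lemma exists_injective_resolution [EnoughInjectives C] (K : CochainComplex.Plus C) (n : ℤ)
    [K.obj.IsStrictlyGE n] :
    ∃ (L : CochainComplex.Plus C) (_ : L.obj.IsStrictlyGE n) (_ : ∀ m, Injective (L.obj.X m))
      (s : K ⟶ L), QuasiIso s.hom := by
  obtain ⟨L, hL, s, hs⟩ := CochainComplex.Plus.exists_quasiIso_injective K n
  refine ⟨(InjectiveObject.ι C).mapCochainComplexPlus.obj L, ?_, ?_, s, ?_⟩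
  · exact inferInstanceAs (CochainComplex.IsStrictlyGE
      (((InjectiveObject.ι C).mapHomologicalComplex _).obj L.obj) n)
  · intro m
    exact (L.obj.X m).property
  · exact (HomologicalComplex.mem_quasiIso_iff _).1 hs

end Defs

variable {C : Type u} [Category.{v} C] [Abelian C] [HasDerivedCategory.{w} C]
  {D : Type u'} [Category.{v'} D] [Abelian D] [HasDerivedCategory.{w'} D]
  [EnoughInjectives C] (F : C ⥤ D) [F.Additive]

/-- The unit of `R⁺F` at `K` is an isomorphism iff `F` maps a resolution of `K` by a complex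
with injective terms to a quasi-isomorphism. -/
lemma isIso_unit_app_iff {K L : HomotopyCategory.Plus C} (s : K ⟶ L)
    (hs : HomotopyCategory.Plus.quasiIso C s) [∀ n, Injective (L.obj.as.X n)] :
    IsIso (F.rightDerivedFunctorPlusUnit.app K) ↔
      IsIso (DerivedCategory.Plus.Qh.map (F.mapHomotopyCategoryPlus.map s)) := by
  have nat := F.rightDerivedFunctorPlusUnit.naturality s
  have h1 : IsIso (DerivedCategory.Plus.Qh.map s) :=
    Localization.inverts _ (HomotopyCategory.Plus.quasiIso C) _ hs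
  have h2 : IsIso ((DerivedCategory.Plus.Qh ⋙ F.rightDerivedFunctorPlus).map s) := by
    dsimp only [Functor.comp_map]; infer_instance
  have h3 : IsIso (F.rightDerivedFunctorPlusUnit.app L) := inferInstance
  constructor
  · intro h
    have h4 : IsIso (DerivedCategory.Plus.Qh.map (F.mapHomotopyCategoryPlus.map s) ≫
        F.rightDerivedFunctorPlusUnit.app L) := by
      have e : DerivedCategory.Plus.Qh.map (F.mapHomotopyCategoryPlus.map s) ≫
          F.rightDerivedFunctorPlusUnit.app L = F.rightDerivedFunctorPlusUnit.app K ≫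
            (DerivedCategory.Plus.Qh ⋙ F.rightDerivedFunctorPlus).map s := nat
      rw [e]; infer_instance
    exact IsIso.of_isIso_comp_right _ (F.rightDerivedFunctorPlusUnit.app L)
  · intro h
    have h5 : IsIso ((F.mapHomotopyCategoryPlus ⋙ DerivedCategory.Plus.Qh).map s) := h
    have h4 : IsIso (F.rightDerivedFunctorPlusUnit.app K ≫
        (DerivedCategory.Plus.Qh ⋙ F.rightDerivedFunctorPlus).map s) := by
      rw [← nat]; infer_instance
    exact IsIso.of_isIso_comp_right (F.rightDerivedFunctorPlusUnit.app K)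
      ((DerivedCategory.Plus.Qh ⋙ F.rightDerivedFunctorPlus).map s)

lemma isIso_unit_app_quotient_iff {K L : CochainComplex.Plus C} (s : K ⟶ L) [QuasiIso s.hom]
    [∀ n, Injective (L.obj.X n)] :
    IsIso (F.rightDerivedFunctorPlusUnit.app ((HomotopyCategory.Plus.quotient C).obj K)) ↔
      QuasiIso ((F.mapHomologicalComplex (ComplexShape.up ℤ)).map s.hom) := by
  have hs : HomotopyCategory.Plus.quasiIso C ((HomotopyCategory.Plus.quotient C).map s) :=
    (HomotopyCategory.quotient_map_mem_quasiIso_iff s.hom).2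
      ((HomologicalComplex.mem_quasiIso_iff _).2 inferInstance)
  rw [isIso_unit_app_iff F _ hs]
  exact isIso_Qp_map_iff (F.mapCochainComplexPlus.map s)

lemma isGE_rightDerivedFunctorPlus_obj (K : CochainComplex.Plus C) (n : ℤ)
    [K.obj.IsStrictlyGE n] :
    (F.rightDerivedFunctorPlus.obj (Qp.obj K)).IsGE n := by
  obtain ⟨L, hL, hinj, s, hs⟩ := exists_injective_resolution K n
  have hQs : IsIso (Qp.map s) := (isIso_Qp_map_iff s).2 hs
  have : ∀ m, Injective (L.obj.X m) := hinj
  let e1 : F.rightDerivedFunctorPlus.obj (Qp.obj K) ≅ F.rightDerivedFunctorPlus.obj (Qp.obj L) :=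
    F.rightDerivedFunctorPlus.mapIso (asIso (Qp.map s))
  have h2 : IsIso (F.rightDerivedFunctorPlusUnit.app
      ((HomotopyCategory.Plus.quotient C).obj L)) := inferInstance
  let e2 : Qp.obj (F.mapCochainComplexPlus.obj L) ≅ F.rightDerivedFunctorPlus.obj (Qp.obj L) :=
    @asIso _ _ _ _ (F.rightDerivedFunctorPlusUnit.app ((HomotopyCategory.Plus.quotient C).obj L)) h2
  have h3 : (Qp.obj (F.mapCochainComplexPlus.obj L)).IsGE n := by
    have : (F.mapCochainComplexPlus.obj L).obj.IsStrictlyGE n :=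
      inferInstanceAs (CochainComplex.IsStrictlyGE
        ((F.mapHomologicalComplex _).obj L.obj) n)
    exact isGE_Qp_obj _ n
  exact DerivedCategory.Plus.TStructure.t.isGE_of_iso (e2 ≪≫ e1.symm) n

/-- `RⁿF` defined through the derived functor on `D⁺`. -/
noncomputable abbrev RnF (n : ℤ) : C ⥤ D := sglP ⋙ Qp ⋙ Gn F n

lemma isZero_RnF_obj_of_neg (n : ℤ) (hn : n < 0) (X : C) : IsZero ((RnF F n).obj X) := by
  have := isGE_rightDerivedFunctorPlus_obj F (sglP.obj X) 0
  exact DerivedCategory.Plus.isZero_homology_of_isGE _ 0 n hn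

lemma RnF_map_comp_zero {S : ShortComplex C} (hS : S.ShortExact) (n : ℤ) :
    (RnF F n).map S.f ≫ (RnF F n).map S.g = 0 := by
  obtain ⟨δ, hΔ⟩ := exists_distTriang_of_shortExact (sglP.map S.f) (sglP.map S.g) _
    (sglP_shortExact hS)
  exact gn_comp_zero F _ hΔ n

theorem RnF_exact₂ {S : ShortComplex C} (hS : S.ShortExact) (n : ℤ) :
    (ShortComplex.mk ((RnF F n).map S.f) ((RnF F n).map S.g)
      (RnF_map_comp_zero F hS n)).Exact := by
  obtain ⟨δ, hΔ⟩ := exists_distTriang_of_shortExact (sglP.map S.f) (sglP.map S.g) _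
    (sglP_shortExact hS)
  exact homology_exact₂ F _ hΔ n

theorem RnF_exists_δ {S : ShortComplex C} (hS : S.ShortExact) (n₀ n₁ : ℤ) (h : n₀ + 1 = n₁) :
    ∃ (δ : (RnF F n₀).obj S.X₃ ⟶ (RnF F n₁).obj S.X₁)
      (w₁ : (RnF F n₀).map S.g ≫ δ = 0) (w₂ : δ ≫ (RnF F n₁).map S.f = 0),
      (ShortComplex.mk _ _ w₁).Exact ∧ (ShortComplex.mk _ _ w₂).Exact := by
  obtain ⟨δ₀, hΔ⟩ := exists_distTriang_of_shortExact (sglP.map S.f) (sglP.map S.g) _
    (sglP_shortExact hS)
  exact exists_δ F _ hΔ n₀ n₁ h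

/-- `Hⁿ(F(X)[0])` as a functor of `X`. -/
noncomputable abbrev Src (n : ℤ) : C ⥤ D :=
  sglP ⋙ F.mapCochainComplexPlus ⋙ Qp ⋙ DerivedCategory.Plus.ι ⋙
    DerivedCategory.homologyFunctor D n

/-- The natural map `Hⁿ(F(X)[0]) ⟶ Hⁿ(R⁺F(X[0]))` induced by the unit. -/
noncomputable def uN (n : ℤ) : Src F n ⟶ RnF F n where
  app X := (DerivedCategory.Plus.ι ⋙ DerivedCategory.homologyFunctor D n).map
    (F.rightDerivedFunctorPlusUnit.app ((HomotopyCategory.Plus.quotient C).obj (sglP.obj X)))
  naturality X Y f := by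
    have h := F.rightDerivedFunctorPlusUnit.naturality
      ((HomotopyCategory.Plus.quotient C).map (sglP.map f))
    have h' := congrArg (DerivedCategory.Plus.ι ⋙ DerivedCategory.homologyFunctor D n).map h
    simp only [Functor.map_comp] at h'
    exact h'

lemma isIso_unit_sgl_iff (X : C) :
    IsIso (F.rightDerivedFunctorPlusUnit.app
      ((HomotopyCategory.Plus.singleFunctor C 0).obj X)) ↔
      ∀ n : ℤ, IsIso ((uN F n).app X) :=
  DerivedCategory.Plus.isIso_iff _

/-- `Hⁿ(F(X)[0]) ≅ Hⁿ((F X)[0])`. -/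
noncomputable def srcIsoAux (n : ℤ) :
    Src F n ≅ F ⋙ HomologicalComplex.single D (ComplexShape.up ℤ) 0 ⋙
      HomologicalComplex.homologyFunctor D (ComplexShape.up ℤ) n :=
  (show Src F n ≅ (sglP ⋙ F.mapCochainComplexPlus) ⋙ (Qp ⋙ DerivedCategory.Plus.ι) ⋙
      DerivedCategory.homologyFunctor D n from Iso.refl _) ≪≫
  Functor.isoWhiskerLeft (sglP ⋙ F.mapCochainComplexPlus)
    (Functor.isoWhiskerRight qpιIso (DerivedCategory.homologyFunctor D n)) ≪≫
  (show (sglP ⋙ F.mapCochainComplexPlus) ⋙ (CochainComplex.Plus.ι D ⋙ DerivedCategory.Q) ⋙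
      DerivedCategory.homologyFunctor D n ≅
    (HomologicalComplex.single C (ComplexShape.up ℤ) 0 ⋙
      F.mapHomologicalComplex (ComplexShape.up ℤ)) ⋙
      (DerivedCategory.Q ⋙ DerivedCategory.homologyFunctor D n) from Iso.refl _) ≪≫
  Functor.isoWhiskerLeft _ (DerivedCategory.homologyFunctorFactors D n) ≪≫
  Functor.isoWhiskerRight
    (HomologicalComplex.singleMapHomologicalComplex F (ComplexShape.up ℤ) 0) _ ≪≫
  Functor.associator _ _ _

/-- `H⁰(F(X)[0]) ≅ F X`. -/
noncomputable def srcIso : Src F 0 ≅ F :=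
  srcIsoAux F 0 ≪≫
    Functor.isoWhiskerLeft F (HomologicalComplex.homologyFunctorSingleIso D (ComplexShape.up ℤ) 0) ≪≫
    F.rightUnitor

instance (n : ℤ) : (Src F n).PreservesZeroMorphisms :=
  Functor.preservesZeroMorphisms_of_iso (srcIsoAux F n).symm

lemma isZero_Src_obj (n : ℤ) (hn : n ≠ 0) (X : C) : IsZero ((Src F n).obj X) :=
  IsZero.of_iso (HomologicalComplex.isZero_single_obj_homology (ComplexShape.up ℤ) 0 (F.obj X) n hn)
    ((srcIsoAux F n).app X)

lemma isIso_unit_sgl_of_injective (J : C) [Injective J] :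
    IsIso (F.rightDerivedFunctorPlusUnit.app
      ((HomotopyCategory.Plus.quotient C).obj (sglP.obj J))) := by
  have : ∀ n, Injective ((sglP.obj J).obj.X n) := injective_sglP_X J
  infer_instance

lemma isIso_uN_of_injective (J : C) [Injective J] (n : ℤ) : IsIso ((uN F n).app J) := by
  have := isIso_unit_sgl_of_injective F J
  exact (inferInstance : IsIso ((DerivedCategory.Plus.ι ⋙ DerivedCategory.homologyFunctor D n).map
    (F.rightDerivedFunctorPlusUnit.app ((HomotopyCategory.Plus.quotient C).obj (sglP.obj J)))))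

lemma isZero_RnF_obj_of_injective (J : C) [Injective J] (n : ℤ) (hn : n ≠ 0) :
    IsZero ((RnF F n).obj J) := by
  have := isIso_uN_of_injective F J n
  exact IsZero.of_iso (isZero_Src_obj F n hn J) (asIso ((uN F n).app J)).symm

end Groth.Agent.H45.RDP
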