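import Groth.Agent.H45.CechLoc
import Groth.Agent.H8.QCohQcqs
import Mathlib.CategoryTheory.Limits.Lattice

/-!
# Čech cohomology of quasi-coherent modules on affine schemes for standard coverings
-/

set_option autoImplicit false
universe u
open CategoryTheory CategoryTheory.Limits AlgebraicGeometry TopologicalSpace Opposite

namespace Groth.Agent.H45.AffineCech

open Groth.Agent.H8

variable {X : Scheme.{u}} (M : X.Modules)

/-- Restriction of a global function to an open. -/
noncomputable abbrev resTop (W : X.Opens) (a : Γ(X, ⊤)) : Γ(X, W) :=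
  X.presheaf.map (homOfLE (le_top : W ≤ ⊤)).op a

lemma resTop_res {W W' : X.Opens} (h : W' ≤ W) (a : Γ(X, ⊤)) :
    X.presheaf.map (homOfLE h).op (resTop W a) = resTop W' a :=
  ringRes_res h le_top a

lemma resTop_one (W : X.Opens) : resTop W (1 : Γ(X, ⊤)) = 1 := map_one _
lemma resTop_zero (W : X.Opens) : resTop W (0 : Γ(X, ⊤)) = 0 := map_zero _
lemma resTop_mul (W : X.Opens) (a b : Γ(X, ⊤)) : resTop W (a * b) = resTop W a * resTop W b :=
  map_mul _ _ _
lemma resTop_add (W : X.Opens) (a b : Γ(X, ⊤)) : resTop W (a + b) = resTop W a + resTop W b :=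
  map_add _ _ _
lemma resTop_pow (W : X.Opens) (a : Γ(X, ⊤)) (n : ℕ) : resTop W (a ^ n) = resTop W a ^ n :=
  map_pow _ _ _

/-- The action of global functions on the underlying presheaf of abelian groups. -/
noncomputable def ρ : Γ(X, ⊤) →+* End M.presheaf where
  toFun a :=
    { app := fun W => M.smul (resTop W.unop a)
      naturality := fun W W' h => by
        have e := Scheme.Modules.map_comp_smul (M := M) h.unop (resTop W.unop a)
        have e' : X.presheaf.map h.unop.op (resTop W.unop a) = resTop W'.unop a :=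
          resTop_res h.unop.le a
        rw [e'] at e
        exact e.symm }
  map_one' := by
    apply NatTrans.ext
    funext W
    change M.smul (resTop W.unop 1) = 𝟙 _
    rw [resTop_one, map_one]
    rfl
  map_mul' a b := by
    apply NatTrans.ext
    funext W
    change M.smul (resTop W.unop (a * b)) = M.smul (resTop W.unop b) ≫ M.smul (resTop W.unop a)
    rw [resTop_mul, map_mul]
    rfl
  map_zero' := by
    apply NatTrans.ext
    funext W
    change M.smul (resTop W.unop 0) = 0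
    rw [resTop_zero, map_zero]
  map_add' a b := by
    apply NatTrans.ext
    funext W
    change M.smul (resTop W.unop (a + b)) = M.smul (resTop W.unop a) + M.smul (resTop W.unop b)
    rw [resTop_add, map_add]

lemma ρ_app_apply (a : Γ(X, ⊤)) (W : X.Opens) (x : Γ(M, W)) :
    ((ρ M a : M.presheaf ⟶ M.presheaf).app (op W)).hom x = resTop W a • x := rfl

section Loc

variable [M.IsQuasicoherent]

/-- Surjectivity part of "`Γ(M, W) ⟶ Γ(M, W ∩ D(a))` is the localization at `a`". -/
lemma loc_surj {W W' : X.Opens} (hW : IsCompact (W : Set X))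
    (hW' : IsQuasiSeparated (W : Set X)) (a : Γ(X, ⊤)) (hle : W' ≤ W)
    (heq : W' = W ⊓ X.basicOpen a) (y : Γ(M, W')) :
    ∃ (N : ℕ) (x : Γ(M, W)), resTop W' (a ^ N) • y = M.presheaf.map (homOfLE hle).op x := by
  have h1 : X.basicOpen (resTop W a) = W ⊓ X.basicOpen a := X.basicOpen_res _ _
  obtain rfl : W' = X.basicOpen (resTop W a) := heq.trans h1.symm
  obtain ⟨n, s, hs⟩ := exists_smul_eq_res_of_qcqs M hW hW' (resTop W a) y
  refine ⟨n, s, ?_⟩
  rw [resTop_pow, ← resTop_res (X.basicOpen_le (resTop W a)) a]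
  exact hs.symm

/-- Injectivity part of "`Γ(M, W) ⟶ Γ(M, W ∩ D(a))` is the localization at `a`". -/
lemma loc_inj {W W' : X.Opens} (hW : IsCompact (W : Set X)) (a : Γ(X, ⊤)) (hle : W' ≤ W)
    (heq : W' = W ⊓ X.basicOpen a) (x : Γ(M, W))
    (hx : M.presheaf.map (homOfLE hle).op x = 0) : ∃ L : ℕ, resTop W (a ^ L) • x = 0 := by
  have h1 : X.basicOpen (resTop W a) = W ⊓ X.basicOpen a := X.basicOpen_res _ _
  obtain rfl : W' = X.basicOpen (resTop W a) := heq.trans h1.symm
  obtain ⟨n, hn⟩ := exists_pow_smul_eq_zero_of_isCompact M hW (resTop W a) x hx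
  exact ⟨n, by rw [resTop_pow]; exact hn⟩

end Loc

section Opens

/-- Binary products of opens are intersections. -/
lemma prod_eq_inf (W V : X.Opens) : (W ⨯ V : X.Opens) = W ⊓ V :=
  le_antisymm (le_inf (prod.fst : W ⨯ V ⟶ W).le (prod.snd : W ⨯ V ⟶ V).le)
    (prod.lift (homOfLE inf_le_left : W ⊓ V ⟶ W) (homOfLE inf_le_right : W ⊓ V ⟶ V)).le

lemma basicOpen_prod {κ : Type*} (s : Finset κ) (g : κ → Γ(X, ⊤)) :
    X.basicOpen (∏ k ∈ s, g k) = s.inf (fun k => X.basicOpen (g k)) := by
  classical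
  induction s using Finset.induction_on with
  | empty => simp
  | insert k s hk ih => rw [Finset.prod_insert hk, Finset.inf_insert, X.basicOpen_mul, ih]

/-- Finite products of basic opens are basic opens. -/
lemma pi_eq_basicOpen {ι : Type u} (g : ι → Γ(X, ⊤)) {n : ℕ} (a : Fin (n + 1) → ι) :
    (∏ᶜ ((fun i => X.basicOpen (g i)) ∘ a) : X.Opens) = X.basicOpen (∏ k, g (a k)) := by
  rw [basicOpen_prod]
  apply le_antisymm
  · apply Finset.le_inf
    intro k _
    exact (Limits.Pi.π ((fun i => X.basicOpen (g i)) ∘ a) k).le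
  · exact (Limits.Pi.lift (fun k => (homOfLE (Finset.inf_le (Finset.mem_univ k)) :
      (Finset.univ.inf fun k => X.basicOpen (g (a k))) ⟶
        ((fun i => X.basicOpen (g i)) ∘ a) k))).le

end Opens

section Span

variable [IsAffine X]

lemma mem_basicOpen_pow {a : Γ(X, ⊤)} {x : X} (hx : x ∈ X.basicOpen a) (n : ℕ) :
    x ∈ X.basicOpen (a ^ n) := by
  rcases Nat.eq_zero_or_pos n with h | h
  · subst h
    rw [pow_zero, X.basicOpen_one]
    trivial
  · rw [X.basicOpen_pow a h]
    exact hx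

/-- If `D(f)` is covered by the `D(g i)` then a power of `f` lies in the ideal generated by any
powers of the `g i`. -/
lemma exists_pow_mem_span {ι : Type u} (g : ι → Γ(X, ⊤)) (f : Γ(X, ⊤))
    (hcov : X.basicOpen f ≤ ⨆ i, X.basicOpen (g i)) (N : ι → ℕ) :
    ∃ m : ℕ, f ^ m ∈ Ideal.span (Set.range fun i => g i ^ N i) := by
  have hU' : IsAffineOpen (X.basicOpen f) := (isAffineOpen_top X).basicOpen f
  let r : Γ(X, ⊤) →+* Γ(X, X.basicOpen f) := algebraMap Γ(X, ⊤) Γ(X, X.basicOpen f)
  let v : ι → Γ(X, ⊤) := fun i => g i ^ N i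
  have hspan : Ideal.span (r '' Set.range v) = ⊤ := by
    rw [← hU'.self_le_iSup_basicOpen_iff]
    intro x hx
    obtain ⟨i, hi⟩ := Opens.mem_iSup.1 (hcov hx)
    refine Opens.mem_iSup.2 ⟨⟨r (v i), ⟨v i, ⟨i, rfl⟩, rfl⟩⟩, ?_⟩
    change x ∈ X.basicOpen (X.presheaf.map (homOfLE (X.basicOpen_le f)).op (g i ^ N i))
    rw [X.basicOpen_res]
    exact ⟨hx, mem_basicOpen_pow hi _⟩
  rw [← Ideal.map_span] at hspan
  have h1 : algebraMap Γ(X, ⊤) Γ(X, X.basicOpen f) 1 ∈
      (Ideal.span (Set.range v)).map (algebraMap Γ(X, ⊤) Γ(X, X.basicOpen f)) := by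
    change _ ∈ (Ideal.span (Set.range v)).map r
    rw [hspan]
    trivial
  obtain ⟨m, ⟨k, rfl⟩, hm⟩ :=
    (IsLocalization.algebraMap_mem_map_algebraMap_iff (Submonoid.powers f)
      Γ(X, X.basicOpen f) _ 1).1 h1
  exact ⟨k, by simpa using hm⟩

end Span

section Main

variable [IsAffine X] [M.IsQuasicoherent]

open Groth.Agent.H67.Cech in
/-- **Čech vanishing for standard coverings.** On an affine scheme, the Čech cohomology of a
quasi-coherent module for a finite covering of a basic open by basic opens vanishes in positive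
degrees. -/
theorem isZero_cech_homology {ι : Type u} [Finite ι] (g : ι → Γ(X, ⊤)) (f : Γ(X, ⊤))
    (hcov : ⨆ i, X.basicOpen (g i) = X.basicOpen f) (p : ℕ) :
    IsZero ((cx (fun i => X.basicOpen (g i)) M.presheaf).homology (p + 1)) := by
  have hW : ∀ {n : ℕ} (a : Fin (n + 1) → ι),
      IsAffineOpen (∏ᶜ ((fun i => X.basicOpen (g i)) ∘ a) : X.Opens) := by
    intro n a
    rw [pi_eq_basicOpen]
    exact (isAffineOpen_top X).basicOpen _
  refine CechLoc.isZero_homology_succ (fun i => X.basicOpen (g i)) M.presheaf (ρ M) g f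
    ?_ ?_ ?_ ?_ p
  · intro n a i y
    obtain ⟨N, x, hx⟩ := loc_surj M (hW a).isCompact (hW a).isQuasiSeparated (g i)
      (prod.fst : (∏ᶜ ((fun i => X.basicOpen (g i)) ∘ a) : X.Opens) ⨯ X.basicOpen (g i) ⟶ _).le
      (prod_eq_inf _ _) y
    exact ⟨N, x, hx⟩
  · intro n a i x hx
    obtain ⟨L, hL⟩ := loc_inj M (hW a).isCompact (g i)
      (prod.fst : (∏ᶜ ((fun i => X.basicOpen (g i)) ∘ a) : X.Opens) ⨯ X.basicOpen (g i) ⟶ _).le
      (prod_eq_inf _ _) x hx
    exact ⟨L, hL⟩
  · intro N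
    exact exists_pow_mem_span g f hcov.ge N
  · intro n a
    have hle : (∏ᶜ ((fun i => X.basicOpen (g i)) ∘ a) : X.Opens) ≤ X.basicOpen f := by
      rw [← hcov]
      exact (Limits.Pi.π ((fun i => X.basicOpen (g i)) ∘ a) 0).le.trans
        (le_iSup (fun i => X.basicOpen (g i)) (a 0))
    have hu : IsUnit (resTop (∏ᶜ ((fun i => X.basicOpen (g i)) ∘ a) : X.Opens) f) := by
      have h1 := X.toRingedSpace.isUnit_res_basicOpen f
      have h2 := h1.map (X.presheaf.map (homOfLE hle).op).hom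
      have e : resTop (∏ᶜ ((fun i => X.basicOpen (g i)) ∘ a) : X.Opens) f =
          (X.presheaf.map (homOfLE hle).op).hom
            (X.presheaf.map (homOfLE (X.basicOpen_le f)).op f) :=
        (ringRes_res hle (X.basicOpen_le f) f).symm
      rw [e]
      exact h2
    obtain ⟨u, hu⟩ := hu
    constructor
    · intro x y hxy
      have h3 : resTop (∏ᶜ ((fun i => X.basicOpen (g i)) ∘ a) : X.Opens) f • x =
          resTop (∏ᶜ ((fun i => X.basicOpen (g i)) ∘ a) : X.Opens) f • y := hxy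
      rw [← hu] at h3
      have h4 := congrArg (fun z => ((u⁻¹ : (Γ(X,
        (∏ᶜ ((fun i => X.basicOpen (g i)) ∘ a) : X.Opens)))ˣ) :
          Γ(X, (∏ᶜ ((fun i => X.basicOpen (g i)) ∘ a) : X.Opens))) • z) h3
      simp only [smul_smul, Units.inv_mul, one_smul] at h4
      exact h4
    · intro y
      refine ⟨((u⁻¹ : (Γ(X, (∏ᶜ ((fun i => X.basicOpen (g i)) ∘ a) : X.Opens)))ˣ) :
        Γ(X, (∏ᶜ ((fun i => X.basicOpen (g i)) ∘ a) : X.Opens))) • y, ?_⟩
      change resTop (∏ᶜ ((fun i => X.basicOpen (g i)) ∘ a) : X.Opens) f •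
        (((u⁻¹ : (Γ(X, (∏ᶜ ((fun i => X.basicOpen (g i)) ∘ a) : X.Opens)))ˣ) :
          Γ(X, (∏ᶜ ((fun i => X.basicOpen (g i)) ∘ a) : X.Opens))) • y) = y
      rw [← hu, smul_smul, Units.mul_inv, one_smul]

end Main

end Groth.Agent.H45.AffineCech
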