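import Mathlib
import Groth.Prelude.Def_ChGrp
import Groth.Prelude.Def_NonAbH2

/-!
# (EQ) for helper40's S19098 squad: `Φ : G ⊗ Xh ⟶ SΨ` is `G`-equivariant
-/

set_option autoImplicit false
universe u
open CategoryTheory CategoryTheory.Limits AlgebraicGeometry MonoidalCategory CartesianMonoidalCategory MonObj

namespace Groth.Agent.H45.BalStab_EQ

variable {S : Scheme.{u}} {G X Z Ψ Xh SΨ : Over S} [GrpObj G] [GrpObj Z]
    (a : AlgGrp.Action G X) (h : 𝟙_ (Over S) ⟶ G)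
    (i : Z ⟶ G) [IsMonHom i]
    (ψ : Ψ ⟶ G) [Mono ψ] (aΨ : AlgGrp.Action G Ψ)
    (hψ : aΨ.act ≫ ψ = fst G Ψ * (snd G Ψ ≫ ψ) * (fst G Ψ)⁻¹)
    (o : 𝟙_ (Over S) ⟶ Ψ) (ho : o ≫ ψ = h)
    (hhom : ChGrp.IsHomog Scheme.fppfPrecoverage i aΨ o)
    (incl : Xh ⟶ X) [Mono incl]
    (hXh : ∀ (T : Over S) (x : T ⟶ X), (∃ y : T ⟶ Xh, y ≫ incl = x) ↔ lift (toUnit T ≫ h) x ≫ a.act = x)
    (aXh : AlgGrp.Action Z Xh) (hincl : AlgGrp.Action.IsEquivariant aXh (a.restrict i) incl)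
    (σ : SΨ ⟶ G ⊗ X) [Mono σ]
    (hSΨ : ∀ (T : Over S) (g : T ⟶ G) (x : T ⟶ X),
      (∃ q : T ⟶ SΨ, q ≫ σ = lift g x) ↔ ((∃ y : T ⟶ Ψ, y ≫ ψ = g) ∧ lift g x ≫ a.act = x))
    (aS : AlgGrp.Action G SΨ)
    (hσ : aS.act ≫ σ = lift (fst G SΨ * (snd G SΨ ≫ σ ≫ fst G X) * (fst G SΨ)⁻¹)
      (lift (fst G SΨ) (snd G SΨ ≫ σ ≫ snd G X) ≫ a.act))
    (Φ : G ⊗ Xh ⟶ SΨ)
    (hΦ : Φ ≫ σ = lift (fst G Xh * (toUnit (G ⊗ Xh) ≫ h) * (fst G Xh)⁻¹)
      (lift (fst G Xh) (snd G Xh ≫ incl) ≫ a.act))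

include hσ hΦ in
/-- (EQ) `Φ` is `G`-equivariant -/
theorem EQ : AlgGrp.Action.IsEquivariant ((NonAbH1.trivialAction G).prod (AlgGrp.Action.trivial G Xh)) aS Φ := by
  unfold AlgGrp.Action.IsEquivariant
  rw [← cancel_mono σ]
  apply AlgGrp.Action.hom_ext_lift₂
  intro T g' p
  obtain ⟨g, y, rfl⟩ : ∃ (g : T ⟶ G) (y : T ⟶ Xh), p = lift g y :=
    ⟨p ≫ fst _ _, p ≫ snd _ _, by rw [← comp_lift, lift_fst_snd, Category.comp_id]⟩
  have hμ : ∀ (u v : T ⟶ G), lift u v ≫ (NonAbH1.trivialAction G).act = u * v := fun u v => by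
    rw [Hom.mul_def]; rfl
  have hL : lift g' (lift g y) ≫
      ((NonAbH1.trivialAction G).prod (AlgGrp.Action.trivial G Xh)).act = lift (g' * g) y := by
    rw [AlgGrp.Action.lift_prod_act, AlgGrp.Action.trivial_act, lift_snd, hμ]
  have hΦp : ∀ (T : Over S) (g : T ⟶ G) (y : T ⟶ Xh), lift g y ≫ Φ ≫ σ =
      lift (g * (toUnit T ≫ h) * g⁻¹) (lift g (y ≫ incl) ≫ a.act) := by
    intro T g y
    rw [hΦ, comp_lift, comp_mul, comp_mul, GrpObj.comp_inv, lift_fst, ← Category.assoc (lift g y) (toUnit _) h,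
      toUnit_unique (lift g y ≫ toUnit _) (toUnit T), ← Category.assoc (lift g y) (lift _ _) a.act,
      comp_lift, lift_fst, ← Category.assoc (lift g y) (snd G Xh) incl, lift_snd]
  have hΦ1 : ∀ (T : Over S) (g : T ⟶ G) (y : T ⟶ Xh), lift g y ≫ Φ ≫ σ ≫ fst G X =
      g * (toUnit T ≫ h) * g⁻¹ := by
    intro T g y
    have := congrArg (· ≫ fst G X) (hΦp T g y)
    simpa only [Category.assoc, lift_fst] using this
  have hΦ2 : ∀ (T : Over S) (g : T ⟶ G) (y : T ⟶ Xh), lift g y ≫ Φ ≫ σ ≫ snd G X =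
      lift g (y ≫ incl) ≫ a.act := by
    intro T g y
    have := congrArg (· ≫ snd G X) (hΦp T g y)
    simpa only [Category.assoc, lift_snd] using this
  have hR : lift g' (lift g y) ≫ (G ◁ Φ) ≫ aS.act ≫ σ =
      lift (g' * (g * (toUnit T ≫ h) * g⁻¹) * g'⁻¹)
        (lift g' (lift g (y ≫ incl) ≫ a.act) ≫ a.act) := by
    rw [lift_whiskerLeft_assoc, hσ, comp_lift, comp_mul, comp_mul, GrpObj.comp_inv, lift_fst,
      ← Category.assoc (lift g' _) (snd G SΨ), lift_snd, Category.assoc, hΦ1,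
      ← Category.assoc (lift g' _) (lift _ _) a.act, comp_lift, lift_fst,
      ← Category.assoc (lift g' _) (snd G SΨ), lift_snd, Category.assoc, hΦ2]
  simp only [Category.assoc]
  rw [reassoc_of% hL, hΦp, hR, AlgGrp.Action.lift_mul_act]
  congr 1
  simp only [_root_.mul_assoc, mul_inv_rev]

end Groth.Agent.H45.BalStab_EQ
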