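import Groth.Prelude.Def_BigSite

/-!
# For a monomorphism `f`, the counit `f_big⁻¹ f_big,* F ⟶ F` is an isomorphism
-/

set_option autoImplicit false
universe u v' u'
open CategoryTheory CategoryTheory.Limits AlgebraicGeometry Opposite

namespace Groth.Agent.H45

lemma isIso_unit_mapPullbackAdj {C : Type*} [Category C] [HasPullbacks C] {X Y : C} (f : X ⟶ Y)
    [Mono f] (U : Over X) : IsIso ((Over.mapPullbackAdj f).unit.app U) := by
  have h1 : pullback.lift (𝟙 U.left) U.hom (by simp) ≫ pullback.fst (U.hom ≫ f) f = 𝟙 U.left :=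
    pullback.lift_fst _ _ _
  have h2 : pullback.lift (𝟙 U.left) U.hom (by simp) ≫ pullback.snd (U.hom ≫ f) f = U.hom :=
    pullback.lift_snd _ _ _
  have h3 : pullback.fst (U.hom ≫ f) f ≫ U.hom = pullback.snd (U.hom ≫ f) f := by
    rw [← cancel_mono f, Category.assoc]
    exact pullback.condition
  haveI : IsIso ((Over.forget X).map ((Over.mapPullbackAdj f).unit.app U)) := by
    refine ⟨pullback.fst _ _, ?_, ?_⟩
    · exact h1
    · apply pullback.hom_ext
      · change (pullback.fst (U.hom ≫ f) f ≫ pullback.lift (𝟙 U.left) U.hom _) ≫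
          pullback.fst (U.hom ≫ f) f = 𝟙 _ ≫ pullback.fst (U.hom ≫ f) f
        rw [Category.assoc, h1, Category.comp_id, Category.id_comp]
      · change (pullback.fst (U.hom ≫ f) f ≫ pullback.lift (𝟙 U.left) U.hom _) ≫
          pullback.snd (U.hom ≫ f) f = 𝟙 _ ≫ pullback.snd (U.hom ≫ f) f
        rw [Category.assoc, h2, Category.id_comp, h3]
  exact isIso_of_reflects_iso _ (Over.forget X)

theorem isIso_counit_bigAdj {X Y : Scheme.{u}} (f : X ⟶ Y) [Mono f] (K : Precoverage Scheme.{u})
    (A : Type u') [Category.{v'} A] (F : Sheaf (QuotSh.J K X) A) :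
    IsIso ((BigSite.bigAdj K f A).counit.app F) := by
  haveI : IsIso ((sheafToPresheaf _ _).map ((BigSite.bigAdj K f A).counit.app F)) := by
    apply (config := {allowSynthFailures := true}) NatIso.isIso_of_isIso_app
    intro U
    dsimp
    rw [Adjunction.sheafPushforwardContinuous_counit_app_hom_app]
    haveI := isIso_unit_mapPullbackAdj f (unop U)
    haveI : IsIso ((Over.mapPullbackAdj f).unit.app (unop U)).op := inferInstance
    exact Functor.map_isIso _ _
  exact isIso_of_fully_faithful (sheafToPresheaf _ _) _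

end Groth.Agent.H45
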