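import Groth.Agent.H45.OverShriek

/-!
# `f_!` along `Over.map f` is exact on abelian sheaves
-/

set_option autoImplicit false
universe v₁ u₁ u
open CategoryTheory CategoryTheory.Limits Opposite

namespace Groth.Agent.H45

section

variable {C : Type u₁} [Category.{v₁} C] {X Y : C} (f : X ⟶ Y) (V : Over Y)

/-- The structure morphism `V ⟶ (Over.map f).obj (Over.mk φ.left)` attached to `φ : V ⟶ Over.mk f`. -/
abbrev overMapStr (φ : V ⟶ Over.mk f) : V ⟶ (Over.map f).obj (Over.mk φ.left) :=
  Over.homMk (𝟙 V.left) (by
    have := Over.w φ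
    dsimp at this ⊢
    simp [this])

/-- The "terminal objects" of the connected components of
`CostructuredArrow (Over.map f).op (op V)`. -/
abbrev overMapSection : Discrete (V ⟶ Over.mk f) ⥤ CostructuredArrow (Over.map f).op (op V) :=
  Discrete.functor (fun φ =>
    CostructuredArrow.mk (Y := op (Over.mk φ.left)) (overMapStr f V φ).op)

lemma overMapSection_hom_eq {k : CostructuredArrow (Over.map f).op (op V)} {φ : V ⟶ Over.mk f}
    (a : k ⟶ (overMapSection f V).obj ⟨φ⟩) :
    a.left.unop.left = k.hom.unop.left := by
  rw [← CostructuredArrow.w a]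
  exact (Category.id_comp (X := V.left) a.left.unop.left).symm

lemma overMapSection_eq {k : CostructuredArrow (Over.map f).op (op V)} {φ : V ⟶ Over.mk f}
    (a : k ⟶ (overMapSection f V).obj ⟨φ⟩) :
    φ.left = k.hom.unop.left ≫ k.left.unop.hom := by
  have h := Over.w a.left.unop
  rw [overMapSection_hom_eq f V a] at h
  exact h.symm

instance overMapSection_final : (overMapSection f V).Final := by
  constructor
  intro k
  let φ₀ : V ⟶ Over.mk f := Over.homMk (k.hom.unop.left ≫ k.left.unop.hom) (by
    have := Over.w k.hom.unop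
    dsimp at this ⊢
    simp [this])
  let a₀ : k ⟶ (overMapSection f V).obj ⟨φ₀⟩ :=
    CostructuredArrow.homMk (Quiver.Hom.op (Over.homMk k.hom.unop.left rfl)) (by
      apply Quiver.Hom.unop_inj
      apply Over.OverMorphism.ext
      exact Category.id_comp (X := V.left) k.hom.unop.left)
  haveI : Nonempty (StructuredArrow k (overMapSection f V)) := ⟨StructuredArrow.mk a₀⟩
  refine zigzag_isConnected (fun s₁ s₂ => ?_)
  suffices ∀ s : StructuredArrow k (overMapSection f V), s = StructuredArrow.mk a₀ by
    rw [this s₁, this s₂]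
  intro s
  obtain ⟨⟨⟩, ⟨φ⟩, a⟩ := s
  have hφ : φ = φ₀ := Over.OverMorphism.ext (overMapSection_eq f V a)
  subst hφ
  congr 1
  apply CostructuredArrow.hom_ext
  apply Quiver.Hom.unop_inj
  apply Over.OverMorphism.ext
  exact overMapSection_hom_eq f V a

end

end Groth.Agent.H45
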