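import Groth.Prelude.Def_BigSite
import Groth.Agent.H45.LanExact
import Groth.Agent.H45.OverMapShriek
import Groth.Agent.H45.KInjAdj
import Mathlib.Algebra.Category.Grp.AB

/-!
# Exactness of `π_S⁻¹` (small étale site to big site) and of `f_big!`; restriction preserves
K-injectives
-/

set_option autoImplicit false
universe u
open CategoryTheory CategoryTheory.Limits AlgebraicGeometry Opposite

namespace Groth.Agent.H45.BigSiteExact

variable (K : Precoverage Scheme.{u}) (S : Scheme.{u})

theorem preservesFiniteLimits_a : PreservesFiniteLimits (EtFppf.a S) :=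
  inferInstanceAs (PreservesFiniteLimits (Scheme.Etale.forget S))

theorem representablyFlat_a : RepresentablyFlat (EtFppf.a S) := by
  haveI := preservesFiniteLimits_a S
  exact flat_of_preservesFiniteLimits _

theorem hasExactColimitsOfShape_costructuredArrow_a (V : (Over S)ᵒᵖ) :
    HasExactColimitsOfShape (CostructuredArrow (EtFppf.a S).op V) AddCommGrpCat.{u + 1} := by
  haveI := representablyFlat_a S
  have : HasFilteredColimitsOfSize.{u, u + 1} AddCommGrpCat.{u + 1} :=
    hasFilteredColimitsOfSize_of_univLE.{u, u + 1, u + 1, u + 1}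
  have : AB5OfSize.{u, u + 1} AddCommGrpCat.{u + 1} :=
    AB5OfSize_of_univLE.{u, u + 1, u + 1, u + 1} AddCommGrpCat.{u + 1}
  have : IsFiltered (CostructuredArrow (EtFppf.a S).op V) :=
    IsFiltered.of_equivalence (structuredArrowOpEquivalence (EtFppf.a S) (unop V))
  exact AB5OfSize.ofShape _

/-- `π_S⁻¹` is left exact. -/
theorem preservesFiniteLimits_piEtPull [BigSite.AEtCont K S] :
    PreservesFiniteLimits (BigSite.piEtPull K S) := by
  haveI := representablyFlat_a S
  have : ∀ V : (Over S)ᵒᵖ,
      HasExactColimitsOfShape (CostructuredArrow (EtFppf.a S).op V) AddCommGrpCat.{u + 1} :=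
    fun V => hasExactColimitsOfShape_costructuredArrow_a S V
  exact sheafPullback_preservesFiniteLimits' (EtFppf.a S) AddCommGrpCat.{u + 1} _ _

/-- `f_big!` is left exact. -/
theorem preservesFiniteLimits_shriekAb {T : Scheme.{u}} (f : T ⟶ S) :
    PreservesFiniteLimits (BigSite.shriekAb K f) := by
  haveI : AB4OfSize.{u} AddCommGrpCat.{u + 1} := AB4OfSize_shrink.{u, u + 1} AddCommGrpCat.{u + 1}
  haveI : ∀ V : (Over S)ᵒᵖ, HasExactColimitsOfShape
      (CostructuredArrow (Over.map f).op V) AddCommGrpCat.{u + 1} := fun V =>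
    hasExactColimitsOfShape_of_final AddCommGrpCat.{u + 1}
      (Groth.Agent.H45.overMapSection f V.unop)
  exact Groth.Agent.H45.sheafPullback_preservesFiniteLimits_of_exactColimits (Over.map f)
    AddCommGrpCat.{u + 1} (QuotSh.J K T) (QuotSh.J K S)

end Groth.Agent.H45.BigSiteExact
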