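import Mathlib.CategoryTheory.Comma.Over.Pullback
import Mathlib.CategoryTheory.Limits.Shapes.Pullback.IsPullback.Basic
import Mathlib.CategoryTheory.Sites.Continuous

/-!
# Base change for over categories and the induced isomorphism of sheaf pushforwards
-/

set_option autoImplicit false
open CategoryTheory CategoryTheory.Limits

namespace Groth.Agent.H45

section Over

variable {C : Type*} [Category C] [HasPullbacks C] {S T S' T' : C}
  {f : T ⟶ S} {g : S' ⟶ S} {g' : T' ⟶ T} {f' : T' ⟶ S'}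

lemma isPullback_paste (hsq : IsPullback g' f' f g) (U : Over S') :
    IsPullback (pullback.snd U.hom f' ≫ g') (pullback.fst U.hom f') f (U.hom ≫ g) :=
  (IsPullback.of_hasPullback U.hom f').flip.paste_horiz hsq

/-- The comparison `(U → S' → S) ×_S T ≅ U ×_{S'} T'`. -/
noncomputable def overBaseChangeApp (hsq : IsPullback g' f' f g) (U : Over S') :
    pullback (U.hom ≫ g) f ≅ pullback U.hom f' :=
  (IsPullback.of_hasPullback (U.hom ≫ g) f).flip.isoIsPullback _ _ (isPullback_paste hsq U)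

@[reassoc]
lemma overBaseChangeApp_hom_fst (hsq : IsPullback g' f' f g) (U : Over S') :
    (overBaseChangeApp hsq U).hom ≫ pullback.fst U.hom f' = pullback.fst (U.hom ≫ g) f :=
  IsPullback.isoIsPullback_hom_snd _ _ _ _

@[reassoc]
lemma overBaseChangeApp_hom_snd (hsq : IsPullback g' f' f g) (U : Over S') :
    (overBaseChangeApp hsq U).hom ≫ pullback.snd U.hom f' ≫ g' = pullback.snd (U.hom ≫ g) f :=
  IsPullback.isoIsPullback_hom_fst _ _ _ _

/-- For a cartesian square, `U' ↦ (U' → S' → S) ×_S T` and `U' ↦ (U' ×_{S'} T' → T' → T)` are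
isomorphic functors `Over S' ⥤ Over T`. -/
noncomputable def overBaseChangeIso (hsq : IsPullback g' f' f g) :
    Over.map g ⋙ Over.pullback f ≅ Over.pullback f' ⋙ Over.map g' :=
  NatIso.ofComponents
    (fun U => Over.isoMk (overBaseChangeApp hsq U)
      (by
        dsimp
        exact overBaseChangeApp_hom_snd hsq U))
    (fun {U V} φ => by
      ext
      dsimp
      apply (isPullback_paste hsq V).hom_ext
      · simp only [Over.isoMk_hom_left, Over.pullback_map_left, Over.map_map_left, Category.assoc,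
          overBaseChangeApp_hom_snd, pullback.lift_snd_assoc]
        exact pullback.lift_snd _ _ _
      · simp only [Over.isoMk_hom_left, Over.pullback_map_left, Over.map_map_left, Category.assoc,
          overBaseChangeApp_hom_fst, pullback.lift_fst, overBaseChangeApp_hom_fst_assoc]
        exact pullback.lift_fst _ _ _)

end Over

section Sheaf

universe v₁ v₂ v₃ v₄ u₁ u₂ u₃ u₄ v u

variable {C₁ : Type u₁} [Category.{v₁} C₁] {C₂ : Type u₂} [Category.{v₂} C₂]
  {C₃ : Type u₃} [Category.{v₃} C₃] {C₄ : Type u₄} [Category.{v₄} C₄]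
  (J₁ : GrothendieckTopology C₁) (J₂ : GrothendieckTopology C₂)
  (J₃ : GrothendieckTopology C₃) (J₄ : GrothendieckTopology C₄)
  (A : Type u) [Category.{v} A]

/-- If `F₁ ⋙ G₁ ≅ F₂ ⋙ G₂` as continuous functors of sites, the corresponding composites of
pushforwards of sheaves are isomorphic. -/
noncomputable def sheafPushforwardContinuousSquareIso
    (F₁ : C₁ ⥤ C₂) (G₁ : C₂ ⥤ C₄) (F₂ : C₁ ⥤ C₃) (G₂ : C₃ ⥤ C₄)
    [F₁.IsContinuous J₁ J₂] [G₁.IsContinuous J₂ J₄] [F₂.IsContinuous J₁ J₃]
    [G₂.IsContinuous J₃ J₄] (e : F₁ ⋙ G₁ ≅ F₂ ⋙ G₂) :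
    G₁.sheafPushforwardContinuous A J₂ J₄ ⋙ F₁.sheafPushforwardContinuous A J₁ J₂ ≅
      G₂.sheafPushforwardContinuous A J₃ J₄ ⋙ F₂.sheafPushforwardContinuous A J₁ J₃ :=
  haveI : (F₂ ⋙ G₂).IsContinuous J₁ J₄ := Functor.isContinuous_comp F₂ G₂ J₁ J₃ J₄
  Functor.sheafPushforwardContinuousComp' e A J₁ J₂ J₄ ≪≫
    (Functor.sheafPushforwardContinuousComp' (Iso.refl (F₂ ⋙ G₂)) A J₁ J₃ J₄).symm

end Sheaf

end Groth.Agent.H45
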