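import Groth.Prelude.Def_BigSite
import Groth.Agent.H45.OverBaseChange
import Mathlib.CategoryTheory.Adjunction.Mates

/-!
# `i_f⁻¹ π_S⁻¹ F ≅ f⁻¹ F`: restricting the big-site pullback of a small étale sheaf
-/

set_option autoImplicit false
universe u
open CategoryTheory CategoryTheory.Limits AlgebraicGeometry Opposite

namespace Groth.Agent.H45.BigSmallPull

variable {T S : Scheme.{u}} (f : T ⟶ S)


/-- `f_big,*` followed by restriction to `S_et` is restriction to `T_et` followed by `f_small,*`. -/
noncomputable def pushBigResEtIso :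
    BigSite.pushBig Scheme.etalePrecoverage f AddCommGrpCat.{u + 1} ⋙ BigSite.resEt Scheme.etalePrecoverage S ≅
      BigSite.resEt Scheme.etalePrecoverage T ⋙ EtCoh.push f :=
  Groth.Agent.H45.sheafPushforwardContinuousSquareIso _ _ _ _ AddCommGrpCat.{u + 1}
    (EtFppf.a S) (Over.pullback f) (EtCoh.bc f) (EtFppf.a T)
    (MorphismProperty.Over.pullbackCompForgetIso (P := EtCoh.etaleMP) (Q := ⊤) f).symm

instance isIso_counit_iEtAdj (G : EtCoh.Ab T) :
    IsIso ((BigSite.iEtAdj Scheme.etalePrecoverage T).counit.app G) := by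
  haveI : (EtFppf.a T).Full := inferInstanceAs (Scheme.Etale.forget T).Full
  haveI : (EtFppf.a T).Faithful := inferInstanceAs (Scheme.Etale.forget T).Faithful
  haveI : IsIso ((sheafToPresheaf _ _).map ((BigSite.iEtAdj Scheme.etalePrecoverage T).counit.app G)) := by
    change IsIso ((BigSite.iEtAdj Scheme.etalePrecoverage T).counit.app G).hom
    rw [Functor.sheafAdjunctionCocontinuous_counit_app_hom]
    haveI : (EtFppf.a T).op.Full := inferInstance
    haveI : (EtFppf.a T).op.Faithful := inferInstance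
    haveI : ∀ (F : (T.Etale)ᵒᵖ ⥤ AddCommGrpCat.{u + 1}),
      (EtFppf.a T).op.HasPointwiseRightKanExtension F := inferInstance
    haveI : ∀ (F : (T.Etale)ᵒᵖ ⥤ AddCommGrpCat.{u + 1}),
      (EtFppf.a T).op.HasRightKanExtension F := inferInstance
    rw [Functor.ranAdjunction_counit]
    exact NatIso.isIso_app_of_isIso _ _
  exact isIso_of_fully_faithful (sheafToPresheaf _ _) _

instance isIso_counit_iEtAdj' : IsIso (BigSite.iEtAdj Scheme.etalePrecoverage T).counit :=
  NatIso.isIso_of_isIso_app _

/-- The composite right adjoint is `f_small,*`. -/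
noncomputable def rightIso :
    BigSite.iEtPush Scheme.etalePrecoverage T ⋙ BigSite.pushBig Scheme.etalePrecoverage f AddCommGrpCat.{u + 1} ⋙ BigSite.resEt Scheme.etalePrecoverage S ≅
      EtCoh.push f :=
  Functor.isoWhiskerLeft (BigSite.iEtPush Scheme.etalePrecoverage T) (pushBigResEtIso f) ≪≫
    (Functor.associator _ _ _).symm ≪≫
    Functor.isoWhiskerRight (asIso (BigSite.iEtAdj Scheme.etalePrecoverage T).counit) (EtCoh.push f) ≪≫
    Functor.leftUnitor _

/-- The composite adjunction. -/
noncomputable def compAdj :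
    BigSite.piEtPull Scheme.etalePrecoverage S ⋙ BigSite.resEtAlong Scheme.etalePrecoverage f ⊣
      BigSite.iEtPush Scheme.etalePrecoverage T ⋙ BigSite.pushBig Scheme.etalePrecoverage f AddCommGrpCat.{u + 1} ⋙ BigSite.resEt Scheme.etalePrecoverage S :=
  ((BigSite.piEtAdj Scheme.etalePrecoverage S).comp (BigSite.bigAdj Scheme.etalePrecoverage f AddCommGrpCat.{u + 1})).comp (BigSite.iEtAdj Scheme.etalePrecoverage T)

/-- `i_f⁻¹ ∘ π_S⁻¹ ≅ f_small⁻¹`. -/
noncomputable def pullIso :
    EtCoh.pull f ≅ BigSite.piEtPull Scheme.etalePrecoverage S ⋙ BigSite.resEtAlong Scheme.etalePrecoverage f :=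
  (conjugateIsoEquiv (compAdj f) (EtCoh.pullPushAdj f)).symm (rightIso f)

end Groth.Agent.H45.BigSmallPull
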