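import Mathlib

/-!
# Extra codegeneracies and the Čech complex of a presheaf on a thin category (helper45)

* `spec`, `exactAt_of_homotopy`: a cosimplicial object with an extra codegeneracy has an alternating
  coface complex which is exact in positive degrees.
* For a presheaf `P : Cᵒᵖ ⥤ A` on a thin category with finite products, a family `𝒰 : ι → C`, an
  index `i₀` and an additive functor `R : A ⥤ A'` preserving the relevant products such that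
  `R (P (W ⊓ 𝒰 i₀ ≤ W))` is invertible: `R` applied to the Čech complex of `P` is exact in positive
  degrees (`exactAt_map`), and, for an augmentation `u : F₀ ⟶ P` with `R (u_{𝒰 i₀})` invertible, the
  augmented complex is exact at the two bottom spots (`mono_map_aug`, `exact_map_aug`).
-/

set_option autoImplicit false
set_option linter.unusedSectionVars false

open CategoryTheory Limits Opposite Simplicial AlgebraicTopology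

universe w v v' v'' u u' u''

namespace Groth.Agent.H45.CechExtra

section Generic

variable {B : Type u} [Category.{v} B] [Preadditive B] (Q : SimplexCategory ⥤ B)

/-- The alternating coface differential, written with `Functor.map`. -/
def myD (n : ℕ) : Q.obj ⦋n⦌ ⟶ Q.obj ⦋n + 1⦌ :=
  ∑ i : Fin (n + 2), (-1 : ℤ) ^ (i : ℕ) • Q.map (SimplexCategory.δ i)

lemma cx_d (m : ℕ) :
    ((alternatingCofaceMapComplex B).obj Q).d m (m + 1) = myD Q m := by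
  change CochainComplex.of.d _ (AlternatingCofaceMapComplex.objD Q) m (m + 1) = _
  exact (CochainComplex.of_d _ _ m).trans rfl

lemma myD_zero : myD Q 0 = Q.map (SimplexCategory.δ (0 : Fin 2)) - Q.map (SimplexCategory.δ (1 : Fin 2)) := by
  dsimp only [myD]
  rw [Fin.sum_univ_two]
  simp [sub_eq_add_neg]

variable (s : ∀ n : ℕ, Q.obj ⦋n + 1⦌ ⟶ Q.obj ⦋n⦌)

lemma spec (s_zero : ∀ n : ℕ, Q.map (SimplexCategory.δ (0 : Fin (n + 2))) ≫ s n = 𝟙 _)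
    (s_succ : ∀ (n : ℕ) (j : Fin (n + 2)),
      Q.map (SimplexCategory.δ j.succ) ≫ s (n + 1) = s n ≫ Q.map (SimplexCategory.δ j)) (n : ℕ) :
    myD Q (n + 1) ≫ s (n + 1) + s n ≫ myD Q n = 𝟙 _ := by
  dsimp only [myD]
  rw [Preadditive.sum_comp, Preadditive.comp_sum, Fin.sum_univ_succ]
  have h0 : ((-1 : ℤ) ^ ((0 : Fin (n + 3)) : ℕ) • Q.map (SimplexCategory.δ (0 : Fin (n + 3)))) ≫
      s (n + 1) = 𝟙 _ := by
    rw [Fin.val_zero, pow_zero, one_smul]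
    exact s_zero (n + 1)
  have hs : ∀ j : Fin (n + 2), ((-1 : ℤ) ^ ((j.succ : Fin (n + 3)) : ℕ) •
      Q.map (SimplexCategory.δ j.succ)) ≫ s (n + 1) =
      - (s n ≫ ((-1 : ℤ) ^ (j : ℕ) • Q.map (SimplexCategory.δ j))) := by
    intro j
    rw [Fin.val_succ, pow_succ, mul_neg_one, neg_smul, Preadditive.neg_comp,
      Preadditive.zsmul_comp, Preadditive.comp_zsmul]
    congr 2
    exact s_succ n j
  rw [h0]
  simp_rw [hs]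
  rw [Finset.sum_neg_distrib]
  abel

variable {B' : Type u'} [Category.{v'} B'] [Preadditive B'] (R : B ⥤ B') [R.Additive]

lemma map_myD (m : ℕ) : R.map (myD Q m) = myD (Q ⋙ R) m := by
  dsimp only [myD]
  rw [Functor.map_sum]
  refine Finset.sum_congr rfl (fun i _ => ?_)
  rw [Functor.map_zsmul]
  rfl

end Generic

section Homotopy

variable {B : Type u} [Category.{v} B] [Abelian B]

lemma exactAt_of_homotopy (K : CochainComplex B ℕ) (n : ℕ) (h₁ : K.X (n + 2) ⟶ K.X (n + 1))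
    (h₀ : K.X (n + 1) ⟶ K.X n) (a : K.X (n + 1) ⟶ K.X (n + 2)) (b : K.X n ⟶ K.X (n + 1))
    (ha : K.d (n + 1) (n + 2) = a) (hb : K.d n (n + 1) = b)
    (H : a ≫ h₁ + h₀ ≫ b = 𝟙 _) : K.ExactAt (n + 1) := by
  subst ha hb
  rw [HomologicalComplex.exactAt_iff' K n (n + 1) (n + 2) (by simp) (by simp),
    ShortComplex.exact_iff_exact_up_to_refinements]
  intro A₀ (x₂ : A₀ ⟶ K.X (n + 1)) (hx₂ : x₂ ≫ K.d (n + 1) (n + 2) = 0)
  have h3 : x₂ = (x₂ ≫ h₀) ≫ K.d n (n + 1) := by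
    calc x₂ = x₂ ≫ 𝟙 _ := (Category.comp_id _).symm
      _ = x₂ ≫ (K.d (n + 1) (n + 2) ≫ h₁ + h₀ ≫ K.d n (n + 1)) := by rw [H]
      _ = _ := by
        rw [Preadditive.comp_add, reassoc_of% hx₂, zero_comp, zero_add, Category.assoc]
  exact ⟨A₀, 𝟙 A₀, inferInstance, x₂ ≫ h₀, (Category.id_comp _).trans h3⟩

end Homotopy

section Cech

variable {C : Type u} [Category.{v} C] [HasFiniteProducts C]
  {A : Type u'} [Category.{v'} A] [HasProducts.{w} A]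
  (P : Cᵒᵖ ⥤ A) {ι : Type w} (𝒰 : ι → C)

/-- The Čech cosimplicial object. -/
noncomputable abbrev QQ : SimplexCategory ⥤ A :=
  (FormalCoproduct.cosimplicialObjectFunctor (FormalCoproduct.mk _ 𝒰).cech).obj P

/-- The family of terms in degree `n`. -/
noncomputable abbrev TT (n : ℕ) (y : Fin (n + 1) → ι) : A := P.obj (op (∏ᶜ (𝒰 ∘ y)))

instance hasProdTT (n : ℕ) : HasProduct (TT P 𝒰 n) :=
  haveI : HasLimitsOfShape (Discrete (Fin (n + 1) → ι)) A := inferInstance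
  inferInstance

lemma QQ_obj (n : ℕ) : (QQ P 𝒰).obj ⦋n⦌ = ∏ᶜ (TT P 𝒰 n) := rfl

/-- The projections. -/
noncomputable def pr (n : ℕ) (y : Fin (n + 1) → ι) : (QQ P 𝒰).obj ⦋n⦌ ⟶ TT P 𝒰 n y :=
  Pi.π (TT P 𝒰 n) y

lemma δ_π (n : ℕ) (k : Fin (n + 2)) (y : Fin (n + 2) → ι) :
    (QQ P 𝒰).map (SimplexCategory.δ k) ≫ pr P 𝒰 (n + 1) y =
    pr P 𝒰 n (y ∘ k.succAbove) ≫
      P.map (Pi.lift (fun a => Pi.π (𝒰 ∘ y) (k.succAbove a))).op := by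
  refine (Pi.lift_π _ y).trans ?_
  rfl

/-- The product cone. -/
noncomputable def fan (n : ℕ) : Fan (TT P 𝒰 n) := Fan.mk ((QQ P 𝒰).obj ⦋n⦌) (pr P 𝒰 n)

/-- It is a limit. -/
noncomputable def fanIsLimit (n : ℕ) : IsLimit (fan P 𝒰 n) := productIsProduct (TT P 𝒰 n)

variable {A' : Type u''} [Category.{v''} A'] (R : A ⥤ A')
  [∀ n : ℕ, PreservesLimit (Discrete.functor (TT P 𝒰 n)) R]

/-- `R` of the product is a product. -/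
noncomputable def lim (n : ℕ) : IsLimit (R.mapCone (fan P 𝒰 n)) :=
  isLimitOfPreserves R (fanIsLimit P 𝒰 n)

lemma hom_ext' {Z : A'} {n : ℕ} (f g : Z ⟶ R.obj ((QQ P 𝒰).obj ⦋n⦌))
    (h : ∀ y, f ≫ R.map (pr P 𝒰 n y) = g ≫ R.map (pr P 𝒰 n y)) : f = g :=
  (lim P 𝒰 R n).hom_ext (fun ⟨y⟩ => h y)

noncomputable def lift' {Z : A'} {n : ℕ} (f : ∀ y, Z ⟶ R.obj (TT P 𝒰 n y)) :
    Z ⟶ R.obj ((QQ P 𝒰).obj ⦋n⦌) :=
  (lim P 𝒰 R n).lift ⟨Z, Discrete.natTrans (fun ⟨y⟩ => f y)⟩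

lemma lift'_π {Z : A'} {n : ℕ} (f : ∀ y, Z ⟶ R.obj (TT P 𝒰 n y)) (y : Fin (n + 1) → ι) :
    lift' P 𝒰 R f ≫ R.map (pr P 𝒰 n y) = f y :=
  (lim P 𝒰 R n).fac _ ⟨y⟩

variable [Quiver.IsThin C]

omit [∀ n : ℕ, PreservesLimit (Discrete.functor (TT P 𝒰 n)) R] in
lemma π_congr {n : ℕ} {z y : Fin (n + 1) → ι} (h : z = y) {W : C} (g : W ⟶ ∏ᶜ (𝒰 ∘ z))
    (g' : W ⟶ ∏ᶜ (𝒰 ∘ y)) :
    R.map (pr P 𝒰 n z) ≫ R.map (P.map g.op) =
      R.map (pr P 𝒰 n y) ≫ R.map (P.map g'.op) := by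
  subst h
  rw [Subsingleton.elim g g']

omit [∀ n : ℕ, PreservesLimit (Discrete.functor (TT P 𝒰 n)) R] [HasFiniteProducts C]
  [HasProducts.{w} A] in
lemma map_thin {W₁ W₂ W₃ W₂' : C} (a : W₂ ⟶ W₁) (b : W₃ ⟶ W₂) (a' : W₂' ⟶ W₁) (b' : W₃ ⟶ W₂') :
    R.map (P.map a.op) ≫ R.map (P.map b.op) = R.map (P.map a'.op) ≫ R.map (P.map b'.op) := by
  rw [← R.map_comp, ← R.map_comp, ← P.map_comp, ← P.map_comp, ← op_comp, ← op_comp,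
    Subsingleton.elim (b ≫ a) (b' ≫ a')]

variable (i₀ : ι)

/-- The projection `∏ 𝒰 ∘ (i₀, y) ⟶ ∏ 𝒰 ∘ y`. -/
noncomputable def φ {n : ℕ} (y : Fin (n + 1) → ι) :
    ∏ᶜ (𝒰 ∘ (Fin.cons i₀ y : Fin (n + 2) → ι)) ⟶ ∏ᶜ (𝒰 ∘ y) :=
  Pi.lift (fun a => Pi.π (𝒰 ∘ (Fin.cons i₀ y : Fin (n + 2) → ι)) a.succ ≫
    eqToHom (by simp))

variable (hP : ∀ (n : ℕ) (y : Fin (n + 1) → ι), IsIso (R.map (P.map (φ 𝒰 i₀ y).op)))

include hP in
/-- The extra codegeneracy. -/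
noncomputable def ss (n : ℕ) : R.obj ((QQ P 𝒰).obj ⦋n + 1⦌) ⟶ R.obj ((QQ P 𝒰).obj ⦋n⦌) :=
  lift' P 𝒰 R (fun y =>
    haveI := hP n y
    R.map (pr P 𝒰 (n + 1) (Fin.cons i₀ y)) ≫ inv (R.map (P.map (φ 𝒰 i₀ y).op)))

omit [Quiver.IsThin C] in
lemma ss_π (n : ℕ) (y : Fin (n + 1) → ι) :
    haveI := hP n y
    ss P 𝒰 R i₀ hP n ≫ R.map (pr P 𝒰 n y) =
      R.map (pr P 𝒰 (n + 1) (Fin.cons i₀ y)) ≫ inv (R.map (P.map (φ 𝒰 i₀ y).op)) :=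
  lift'_π P 𝒰 R _ y

lemma cons_comp_succAbove_zero {n : ℕ} (y : Fin (n + 1) → ι) :
    (Fin.cons i₀ y : Fin (n + 2) → ι) ∘ (0 : Fin (n + 2)).succAbove = y := by
  funext a
  simp

lemma cons_comp_succAbove_succ {n : ℕ} (y : Fin (n + 2) → ι) (j : Fin (n + 2)) :
    (Fin.cons i₀ y : Fin (n + 3) → ι) ∘ j.succ.succAbove =
      (Fin.cons i₀ (y ∘ j.succAbove) : Fin (n + 2) → ι) := by
  funext a
  refine Fin.cases ?_ (fun b => ?_) a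
  · simp
  · simp

lemma ss_zero (n : ℕ) :
    R.map ((QQ P 𝒰).map (SimplexCategory.δ (0 : Fin (n + 2)))) ≫ ss P 𝒰 R i₀ hP n = 𝟙 _ := by
  apply hom_ext' P 𝒰 R
  intro y
  have := hP n y
  rw [Category.assoc, ss_π, Category.id_comp, ← Category.assoc, ← R.map_comp, δ_π, R.map_comp,
    IsIso.comp_inv_eq]
  exact π_congr P 𝒰 R (cons_comp_succAbove_zero i₀ y) _ _

lemma ss_succ (n : ℕ) (j : Fin (n + 2)) :
    R.map ((QQ P 𝒰).map (SimplexCategory.δ j.succ)) ≫ ss P 𝒰 R i₀ hP (n + 1) =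
      ss P 𝒰 R i₀ hP n ≫ R.map ((QQ P 𝒰).map (SimplexCategory.δ j)) := by
  apply hom_ext' P 𝒰 R
  intro y
  have := hP (n + 1) y
  have := hP n (y ∘ j.succAbove)
  rw [Category.assoc, ss_π, Category.assoc, ← R.map_comp ((QQ P 𝒰).map (SimplexCategory.δ j)),
    δ_π, R.map_comp,
    ← Category.assoc (ss P 𝒰 R i₀ hP n), ss_π, ← Category.assoc, ← R.map_comp, δ_π, R.map_comp,
    IsIso.comp_inv_eq]
  simp only [Category.assoc]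
  -- goal : R π_z ≫ R P ψ₁ = R π_{z'} ≫ inv (R P φ_{y'}) ≫ R P ψ₂ ≫ R P φ_y
  have hz := cons_comp_succAbove_succ i₀ y j
  let ψ₃ : ∏ᶜ (𝒰 ∘ (Fin.cons i₀ y : Fin (n + 3) → ι)) ⟶
      ∏ᶜ (𝒰 ∘ (Fin.cons i₀ (y ∘ j.succAbove) : Fin (n + 2) → ι)) :=
    (Pi.lift (fun a => Pi.π (𝒰 ∘ (Fin.cons i₀ y : Fin (n + 3) → ι)) (j.succ.succAbove a)) :
      _ ⟶ ∏ᶜ (𝒰 ∘ ((Fin.cons i₀ y : Fin (n + 3) → ι) ∘ j.succ.succAbove))) ≫
      eqToHom (congrArg (fun t : Fin (n + 2) → ι => ∏ᶜ (𝒰 ∘ t)) hz)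
  have e1 : R.map (P.map (Pi.lift fun a => Pi.π (𝒰 ∘ y) (j.succAbove a)).op) ≫
      R.map (P.map (φ 𝒰 i₀ y).op) =
      R.map (P.map (φ 𝒰 i₀ (y ∘ j.succAbove)).op) ≫ R.map (P.map ψ₃.op) :=
    map_thin P R _ _ _ _
  rw [e1, IsIso.inv_hom_id_assoc]
  exact π_congr P 𝒰 R hz _ _

end Cech

section Main

variable {C : Type u} [Category.{v} C] [HasFiniteProducts C] [Quiver.IsThin C]
  {A : Type u'} [Category.{v'} A] [HasProducts.{w} A] [Preadditive A]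
  (P : Cᵒᵖ ⥤ A) {ι : Type w} (𝒰 : ι → C)
  {A' : Type u''} [Category.{v''} A'] [Abelian A'] (R : A ⥤ A') [R.Additive]
  [∀ n : ℕ, PreservesLimit (Discrete.functor (TT P 𝒰 n)) R]
  (i₀ : ι) (hP : ∀ (n : ℕ) (y : Fin (n + 1) → ι), IsIso (R.map (P.map (φ 𝒰 i₀ y).op)))

/-- The Čech complex. -/
noncomputable abbrev KK : CochainComplex A ℕ := (cechComplexFunctor 𝒰).obj P

omit [Quiver.IsThin C] in
lemma KK_d (m : ℕ) : (KK P 𝒰).d m (m + 1) = myD (QQ P 𝒰) m :=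
  cx_d (QQ P 𝒰) m

include hP in
lemma homotopy_spec (n : ℕ) :
    R.map (myD (QQ P 𝒰) (n + 1)) ≫ ss P 𝒰 R i₀ hP (n + 1) +
      ss P 𝒰 R i₀ hP n ≫ R.map (myD (QQ P 𝒰) n) = 𝟙 _ := by
  rw [map_myD, map_myD]
  exact spec (QQ P 𝒰 ⋙ R) (fun n => ss P 𝒰 R i₀ hP n) (fun n => ss_zero P 𝒰 R i₀ hP n)
    (fun n j => ss_succ P 𝒰 R i₀ hP n j) n

include hP in
/-- `R` of the Čech complex is exact in positive degrees. -/
theorem exactAt_map (n : ℕ) :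
    ((R.mapHomologicalComplex (ComplexShape.up ℕ)).obj (KK P 𝒰)).ExactAt (n + 1) :=
  exactAt_of_homotopy _ n (ss P 𝒰 R i₀ hP (n + 1)) (ss P 𝒰 R i₀ hP n)
    (R.map (myD (QQ P 𝒰) (n + 1))) (R.map (myD (QQ P 𝒰) n))
    (congrArg R.map (KK_d P 𝒰 (n + 1))) (congrArg R.map (KK_d P 𝒰 n))
    (homotopy_spec P 𝒰 R i₀ hP n)

/-! ### The augmentation -/

variable {F₀ : A} (u : ∀ W : C, F₀ ⟶ P.obj (op W))
  (hu : ∀ {W W' : C} (g : W' ⟶ W), u W ≫ P.map g.op = u W')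

/-- The augmentation. -/
noncomputable def aug : F₀ ⟶ (QQ P 𝒰).obj ⦋0⦌ :=
  Pi.lift (fun x : Fin 1 → ι => u (∏ᶜ (𝒰 ∘ x)))

omit [Quiver.IsThin C] [Preadditive A] in
lemma aug_pr (x : Fin 1 → ι) : aug P 𝒰 u ≫ pr P 𝒰 0 x = u (∏ᶜ (𝒰 ∘ x)) :=
  Pi.lift_π _ x

include hu in
omit [Quiver.IsThin C] in
lemma aug_myD : aug P 𝒰 u ≫ myD (QQ P 𝒰) 0 = 0 := by
  rw [myD_zero, Preadditive.comp_sub, sub_eq_zero]
  refine (fanIsLimit P 𝒰 1).hom_ext (fun ⟨y⟩ => ?_)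
  change (aug P 𝒰 u ≫ (QQ P 𝒰).map (SimplexCategory.δ 0)) ≫ pr P 𝒰 1 y =
    (aug P 𝒰 u ≫ (QQ P 𝒰).map (SimplexCategory.δ 1)) ≫ pr P 𝒰 1 y
  rw [Category.assoc, Category.assoc, δ_π, δ_π, ← Category.assoc, ← Category.assoc, aug_pr, aug_pr,
    hu, hu]

include hu in
omit [Quiver.IsThin C] in
lemma aug_d : aug P 𝒰 u ≫ (KK P 𝒰).d 0 1 = 0 :=
  (congrArg (fun t => aug P 𝒰 u ≫ t) (KK_d P 𝒰 0)).trans (aug_myD P 𝒰 u hu)

variable (hU : IsIso (R.map (u (∏ᶜ (𝒰 ∘ (fun _ : Fin 1 => i₀))))))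

include hU in
/-- The retraction of `R aug`. -/
noncomputable def tt : R.obj ((QQ P 𝒰).obj ⦋0⦌) ⟶ R.obj F₀ :=
  haveI := hU
  R.map (pr P 𝒰 0 (fun _ : Fin 1 => i₀)) ≫ inv (R.map (u (∏ᶜ (𝒰 ∘ (fun _ : Fin 1 => i₀)))))

omit [Quiver.IsThin C] [Preadditive A] [Abelian A'] [R.Additive]
  [∀ n : ℕ, PreservesLimit (Discrete.functor (TT P 𝒰 n)) R] in
lemma aug_tt : R.map (aug P 𝒰 u) ≫ tt P 𝒰 R i₀ u hU = 𝟙 _ := by
  have := hU
  unfold tt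
  rw [← Category.assoc, ← R.map_comp, aug_pr, IsIso.hom_inv_id]

omit [HasFiniteProducts C] [Quiver.IsThin C] [HasProducts.{w} A] [Preadditive A] in
lemma cons_comp_succAbove_one (y : Fin 1 → ι) :
    (Fin.cons i₀ y : Fin 2 → ι) ∘ (1 : Fin 2).succAbove = (fun _ : Fin 1 => i₀) := by
  funext a
  fin_cases a
  rfl

include hu in
lemma δ_one_ss :
    R.map ((QQ P 𝒰).map (SimplexCategory.δ (1 : Fin 2))) ≫ ss P 𝒰 R i₀ hP 0 =
      tt P 𝒰 R i₀ u hU ≫ R.map (aug P 𝒰 u) := by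
  have := hU
  apply hom_ext' P 𝒰 R
  intro y
  have := hP 0 y
  unfold tt
  rw [Category.assoc, ss_π, ← Category.assoc, ← R.map_comp, δ_π, R.map_comp, IsIso.comp_inv_eq]
  simp only [Category.assoc]
  rw [← R.map_comp_assoc (aug P 𝒰 u), aug_pr, ← R.map_comp (u _), hu (φ 𝒰 i₀ y)]
  have hz := cons_comp_succAbove_one i₀ y
  let ψ' : ∏ᶜ (𝒰 ∘ (Fin.cons i₀ y : Fin 2 → ι)) ⟶ ∏ᶜ (𝒰 ∘ (fun _ : Fin 1 => i₀)) :=
    (Pi.lift (fun a => Pi.π (𝒰 ∘ (Fin.cons i₀ y : Fin 2 → ι)) ((1 : Fin 2).succAbove a)) :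
      _ ⟶ ∏ᶜ (𝒰 ∘ ((Fin.cons i₀ y : Fin 2 → ι) ∘ (1 : Fin 2).succAbove))) ≫
      eqToHom (congrArg (fun t : Fin 1 → ι => ∏ᶜ (𝒰 ∘ t)) hz)
  have e1 : inv (R.map (u (∏ᶜ (𝒰 ∘ (fun _ : Fin 1 => i₀))))) ≫
      R.map (u (∏ᶜ (𝒰 ∘ (Fin.cons i₀ y : Fin 2 → ι)))) = R.map (P.map ψ'.op) := by
    rw [IsIso.inv_comp_eq, ← R.map_comp, hu]
  rw [e1]
  exact π_congr P 𝒰 R hz _ _

include hP hu in
lemma aug_spec :
    R.map (myD (QQ P 𝒰) 0) ≫ ss P 𝒰 R i₀ hP 0 + tt P 𝒰 R i₀ u hU ≫ R.map (aug P 𝒰 u) = 𝟙 _ := by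
  rw [myD_zero, R.map_sub, Preadditive.sub_comp, ss_zero P 𝒰 R i₀ hP 0,
    δ_one_ss P 𝒰 R i₀ hP u hu hU]
  abel

include hU in
omit [Quiver.IsThin C] [Preadditive A] [Abelian A'] [R.Additive]
  [∀ n : ℕ, PreservesLimit (Discrete.functor (TT P 𝒰 n)) R] in
theorem mono_map_aug : Mono (R.map (aug P 𝒰 u)) :=
  mono_of_mono_fac (aug_tt P 𝒰 R i₀ u hU)

include hP hu hU in
theorem exact_map_aug :
    (ShortComplex.mk (R.map (aug P 𝒰 u)) (R.map ((KK P 𝒰).d 0 1))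
      ((R.map_comp _ _).symm.trans ((congrArg R.map (aug_d P 𝒰 u hu)).trans (R.map_zero _ _)))).Exact := by
  rw [ShortComplex.exact_iff_exact_up_to_refinements]
  intro A₀ (x₂ : A₀ ⟶ R.obj ((QQ P 𝒰).obj ⦋0⦌)) (hx₂ : x₂ ≫ R.map ((KK P 𝒰).d 0 1) = 0)
  have hx₂' : x₂ ≫ R.map (myD (QQ P 𝒰) 0) = 0 :=
    (congrArg (fun t => x₂ ≫ R.map t) (KK_d P 𝒰 0)).symm.trans hx₂
  have H := aug_spec P 𝒰 R i₀ hP u hu hU
  have h3 : x₂ = (x₂ ≫ tt P 𝒰 R i₀ u hU) ≫ R.map (aug P 𝒰 u) := by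
    calc x₂ = x₂ ≫ 𝟙 _ := (Category.comp_id _).symm
      _ = x₂ ≫ (R.map (myD (QQ P 𝒰) 0) ≫ ss P 𝒰 R i₀ hP 0 +
            tt P 𝒰 R i₀ u hU ≫ R.map (aug P 𝒰 u)) := by rw [H]
      _ = _ := by
        rw [Preadditive.comp_add, reassoc_of% hx₂', zero_comp, zero_add, Category.assoc]
  exact ⟨A₀, 𝟙 A₀, inferInstance, x₂ ≫ tt P 𝒰 R i₀ u hU, (Category.id_comp _).trans h3⟩

end Main

end Groth.Agent.H45.CechExtra
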