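import Groth.Agent.H67.CechC
import Mathlib.RingTheory.Ideal.Operations

/-!
# Vanishing of Čech cohomology by localization

Let `R` be a presheaf of abelian groups on a category `D` with finite products, `Y : ι → D` a finite
family, and let a commutative ring `A` act on `R`. Assume that for elements `g i : A` the maps
`R(W) ⟶ R(W × Y i)` (for `W` a finite product of `Y`'s) are "localizations at `g i`" in the
elementwise sense, that a power of `f` lies in each ideal `(g i ^ N i)`, and that `f` acts bijectively.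
Then the Čech cohomology of `R` for the family `Y` vanishes in positive degrees.
-/

set_option autoImplicit false
universe u

open CategoryTheory CategoryTheory.Limits Opposite Simplicial

namespace Groth.Agent.H45.CechLoc

open Groth.Agent.H67.Cech

variable {D : Type u} [Category.{u} D] [HasFiniteProducts D] {ι : Type u} (Y : ι → D)
  (R : Dᵒᵖ ⥤ AddCommGrpCat.{u})

lemma piMap_add {α : Type u} {F G : α → AddCommGrpCat.{u}} (f g : ∀ a, F a ⟶ G a) :
    Limits.Pi.map (fun a => f a + g a) = Limits.Pi.map f + Limits.Pi.map g := by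
  apply Limits.Pi.hom_ext
  intro a
  rw [Preadditive.add_comp, Limits.Pi.map_π, Limits.Pi.map_π, Limits.Pi.map_π,
    Preadditive.comp_add]

instance additive_cechComplexFunctor :
    (cechComplexFunctor (A := AddCommGrpCat.{u}) Y).Additive where
  map_add {P Q α β} := by
    apply HomologicalComplex.hom_ext
    intro n
    exact piMap_add (fun a => α.app _) (fun a => β.app _)

section Rp

/-- The presheaf `W ↦ R(W × Y i)`. -/
noncomputable def Rp (i : ι) : Dᵒᵖ ⥤ AddCommGrpCat.{u} where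
  obj W := R.obj (op (W.unop ⨯ Y i))
  map {W W'} h := R.map (prod.map h.unop (𝟙 (Y i))).op
  map_id W := by
    simp
  map_comp f g := by
    simp only [← R.map_comp, ← op_comp]
    congr 2
    ext <;> simp

/-- The restriction `R ⟶ (W ↦ R(W × Y i))`. -/
noncomputable def toRp (i : ι) : R ⟶ Rp Y R i where
  app W := R.map (prod.fst : W.unop ⨯ Y i ⟶ W.unop).op
  naturality W W' h := by
    simp only [Rp, ← R.map_comp, ← op_comp]
    congr 2
    simp

/-- Functoriality of `Rp` in `R`. -/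
noncomputable def RpMap {R R' : Dᵒᵖ ⥤ AddCommGrpCat.{u}} (α : R ⟶ R') (i : ι) :
    Rp Y R i ⟶ Rp Y R' i where
  app W := α.app (op (W.unop ⨯ Y i))
  naturality W W' h := α.naturality _

lemma toRp_RpMap {R R' : Dᵒᵖ ⥤ AddCommGrpCat.{u}} (α : R ⟶ R') (i : ι) :
    toRp Y R i ≫ RpMap Y α i = α ≫ toRp Y R' i := by
  ext W : 2
  dsimp only [toRp, RpMap, NatTrans.comp_app]
  exact α.naturality _

/-- The retraction making `Rp` Čech-acyclic. -/
noncomputable def retr (i : ι) : RY Y (Rp Y R i) ⟶ Rp Y R i where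
  app W := Limits.Pi.π _ i ≫
    R.map (prod.lift (𝟙 _) prod.snd : W.unop ⨯ Y i ⟶ (W.unop ⨯ Y i) ⨯ Y i).op
  naturality W W' h := by
    dsimp only [RY, Rp]
    rw [Limits.Pi.map_π_assoc, Category.assoc, ← R.map_comp, ← R.map_comp, ← op_comp, ← op_comp]
    congr 3
    ext <;> simp

lemma η_retr (i : ι) : η Y (Rp Y R i) ≫ retr Y R i = 𝟙 _ := by
  ext W : 2
  have : (prod.lift (𝟙 _) prod.snd : W.unop ⨯ Y i ⟶ (W.unop ⨯ Y i) ⨯ Y i) ≫
      prod.map prod.fst (𝟙 (Y i)) = 𝟙 _ := by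
    ext <;> simp
  change Limits.Pi.lift (fun j => (Rp Y R i).map (prod.fst : W.unop ⨯ Y j ⟶ W.unop).op) ≫
    (Limits.Pi.π _ i ≫
      R.map (prod.lift (𝟙 _) prod.snd : W.unop ⨯ Y i ⟶ (W.unop ⨯ Y i) ⨯ Y i).op) = 𝟙 _
  rw [Limits.Pi.lift_π_assoc]
  change R.map (prod.map (prod.fst : W.unop ⨯ Y i ⟶ W.unop) (𝟙 (Y i))).op ≫ R.map _ = 𝟙 _
  rw [← R.map_comp, ← op_comp, this, op_id, R.map_id]

theorem isZero_homology_Rp (i : ι) (p : ℕ) : IsZero ((cx Y (Rp Y R i)).homology (p + 1)) :=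
  isZero_homology_succ_of_retraction (Rp Y R i) (retr Y R i) (η_retr Y R i) p

end Rp

section Components

variable {R}

/-- Components of the map of Čech complexes induced by a morphism of presheaves. -/
lemma π_map {R' : Dᵒᵖ ⥤ AddCommGrpCat.{u}} (α : R ⟶ R') (n : ℕ) (idx : Fin (n + 1) → ι)
    (x : (∏ᶜ (term Y R n) : AddCommGrpCat.{u})) :
    (Limits.Pi.π (term Y R' n) idx).hom ((Limits.Pi.map (fun a => α.app (op (∏ᶜ (Y ∘ a))))).hom x) =
      (α.app (op (∏ᶜ (Y ∘ idx)))).hom ((Limits.Pi.π (term Y R n) idx).hom x) := by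
  have h := Limits.Pi.map_π (fun a => α.app (op (∏ᶜ (Y ∘ a)))) idx
  exact congrArg (fun φ => φ.hom x) h

lemma map_f {R' : Dᵒᵖ ⥤ AddCommGrpCat.{u}} (α : R ⟶ R') (n : ℕ) :
    ((cechComplexFunctor Y).map α).f n = Limits.Pi.map (fun a => α.app (op (∏ᶜ (Y ∘ a)))) := rfl

end Components

section Algebra

/-- The algebraic core: localization of a complex with exact target. -/
lemma exists_pow_coboundary {K0 K1 K2 K0' K1' K2' : Type*} [AddCommGroup K0] [AddCommGroup K1]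
    [AddCommGroup K2] [AddCommGroup K0'] [AddCommGroup K1'] [AddCommGroup K2']
    (d0 : K0 →+ K1) (d1 : K1 →+ K2) (d0' : K0' →+ K1') (d1' : K1' →+ K2')
    (φ0 : K0 →+ K0') (φ1 : K1 →+ K1') (φ2 : K2 →+ K2')
    (h01 : ∀ x, φ1 (d0 x) = d0' (φ0 x)) (h12 : ∀ x, φ2 (d1 x) = d1' (φ1 x))
    (γ0 : ℕ → K0 →+ K0) (γ1 : ℕ → K1 →+ K1) (γ0' : ℕ → K0' →+ K0') (γ1' : ℕ → K1' →+ K1')
    (hγ1 : ∀ N L x, γ1 L (γ1 N x) = γ1 (L + N) x)
    (hγd : ∀ N x, d0 (γ0 N x) = γ1 N (d0 x)) (hγd' : ∀ N x, d0' (γ0' N x) = γ1' N (d0' x))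
    (hγφ1 : ∀ N x, φ1 (γ1 N x) = γ1' N (φ1 x))
    (hex : ∀ y, d1' y = 0 → ∃ z, d0' z = y)
    (hsurj : ∀ y : K0', ∃ N x, γ0' N y = φ0 x)
    (hinj : ∀ x : K1, φ1 x = 0 → ∃ L, γ1 L x = 0)
    (c : K1) (hc : d1 c = 0) : ∃ N b, d0 b = γ1 N c := by
  obtain ⟨z, hz⟩ := hex (φ1 c) (by rw [← h12, hc, map_zero])
  obtain ⟨N, x, hx⟩ := hsurj z
  have h1 : φ1 (d0 x - γ1 N c) = 0 := by
    rw [map_sub, h01, ← hx, hγd', hz, hγφ1, sub_self]
  obtain ⟨L, hL⟩ := hinj _ h1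
  refine ⟨L + N, γ0 L x, ?_⟩
  rw [hγd, ← hγ1]
  rw [map_sub, sub_eq_zero] at hL
  exact hL

end Algebra

section Main

variable {A : Type*} [CommRing A] (ρ : A →+* End R)

lemma ρ_mul_apply (a b : A) (W : Dᵒᵖ) (z : R.obj W) :
    ((ρ (a * b) : R ⟶ R).app W).hom z =
      ((ρ a : R ⟶ R).app W).hom (((ρ b : R ⟶ R).app W).hom z) := by
  rw [map_mul]
  rfl

lemma ρ_naturality (a : A) {W W' : Dᵒᵖ} (h : W ⟶ W') (z : R.obj W) :
    ((ρ a : R ⟶ R).app W').hom ((R.map h).hom z) = (R.map h).hom (((ρ a : R ⟶ R).app W).hom z) := by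
  have e := congrArg (fun φ => φ.hom z) ((ρ a : R ⟶ R).naturality h)
  simp only [AddCommGrpCat.hom_comp, AddMonoidHom.comp_apply] at e
  exact e

/-- The action of `A` on the Čech complex. -/
noncomputable def act (a : A) : cx Y R ⟶ cx Y R := (cechComplexFunctor Y).map (ρ a : R ⟶ R)

lemma act_add (a b : A) : act Y R ρ (a + b) = act Y R ρ a + act Y R ρ b := by
  unfold act
  rw [map_add]
  exact Functor.map_add _

lemma act_mul (a b : A) : act Y R ρ (a * b) = act Y R ρ b ≫ act Y R ρ a := by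
  unfold act
  rw [map_mul]
  exact Functor.map_comp _ _ _

lemma act_one : act Y R ρ 1 = 𝟙 _ := by
  unfold act
  rw [map_one]
  exact CategoryTheory.Functor.map_id _ _

lemma act_sum {κ : Type*} (s : Finset κ) (a : κ → A) :
    act Y R ρ (∑ k ∈ s, a k) = ∑ k ∈ s, act Y R ρ (a k) := by
  classical
  induction s using Finset.induction_on with
  | empty =>
    simp only [Finset.sum_empty]
    unfold act
    rw [map_zero]
    exact Functor.map_zero _ _ _
  | insert k s hk ih => rw [Finset.sum_insert hk, Finset.sum_insert hk, act_add, ih]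

lemma π_act (a : A) (n : ℕ) (idx : Fin (n + 1) → ι) (x : (∏ᶜ (term Y R n) : AddCommGrpCat.{u})) :
    (Limits.Pi.π (term Y R n) idx).hom (((act Y R ρ a).f n).hom x) =
      ((ρ a : R ⟶ R).app (op (∏ᶜ (Y ∘ idx)))).hom ((Limits.Pi.π (term Y R n) idx).hom x) :=
  π_map Y (ρ a : R ⟶ R) n idx x

/-- The action on the Čech complex of `Rp`. -/
noncomputable def actp (i : ι) (a : A) : cx Y (Rp Y R i) ⟶ cx Y (Rp Y R i) :=
  (cechComplexFunctor Y).map (RpMap Y (ρ a : R ⟶ R) i)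

/-- The localization map of Čech complexes. -/
noncomputable def φ (i : ι) : cx Y R ⟶ cx Y (Rp Y R i) := (cechComplexFunctor Y).map (toRp Y R i)

lemma act_φ (i : ι) (a : A) : act Y R ρ a ≫ φ Y R i = φ Y R i ≫ actp Y R ρ i a := by
  unfold act φ actp
  rw [← Functor.map_comp, ← Functor.map_comp, toRp_RpMap]

variable [Finite ι] (g : ι → A)

/-- Surjectivity part of the localization property, on cochains. -/
lemma cochain_surj
    (hsurj : ∀ (n : ℕ) (a : Fin (n + 1) → ι) (i : ι) (y : R.obj (op (∏ᶜ (Y ∘ a) ⨯ Y i))),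
      ∃ (N : ℕ) (x : R.obj (op (∏ᶜ (Y ∘ a)))),
        ((ρ (g i ^ N) : R ⟶ R).app (op (∏ᶜ (Y ∘ a) ⨯ Y i))).hom y =
          (R.map (prod.fst : ∏ᶜ (Y ∘ a) ⨯ Y i ⟶ ∏ᶜ (Y ∘ a)).op).hom x)
    (i : ι) (n : ℕ) (y : (∏ᶜ (term Y (Rp Y R i) n) : AddCommGrpCat.{u})) :
    ∃ (N : ℕ) (x : (∏ᶜ (term Y R n) : AddCommGrpCat.{u})),
      ((actp Y R ρ i (g i ^ N)).f n).hom y = ((φ Y R i).f n).hom x := by
  classical
  haveI : Fintype (Fin (n + 1) → ι) := Fintype.ofFinite _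
  choose Nf xf hxf using fun a =>
    hsurj n a i ((Limits.Pi.π (term Y (Rp Y R i) n) a).hom y)
  refine ⟨Finset.univ.sup Nf, mkPi _ (fun a =>
    ((ρ (g i ^ (Finset.univ.sup Nf - Nf a)) : R ⟶ R).app (op (∏ᶜ (Y ∘ a)))).hom (xf a)), ?_⟩
  refine pi_ext (F := term Y (Rp Y R i) n) (fun a => ?_)
  have hN : Finset.univ.sup Nf = (Finset.univ.sup Nf - Nf a) + Nf a :=
    (Nat.sub_add_cancel (Finset.le_sup (Finset.mem_univ a))).symm
  have e1 := π_map Y (RpMap Y (ρ (g i ^ Finset.univ.sup Nf) : R ⟶ R) i) n a y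
  have e2 := π_map Y (toRp Y R i) n a (mkPi _ (fun a =>
    ((ρ (g i ^ (Finset.univ.sup Nf - Nf a)) : R ⟶ R).app (op (∏ᶜ (Y ∘ a)))).hom (xf a)))
  refine e1.trans (Eq.trans ?_ e2.symm)
  rw [π_mkPi]
  change ((ρ (g i ^ Finset.univ.sup Nf) : R ⟶ R).app (op (∏ᶜ (Y ∘ a) ⨯ Y i))).hom _ =
    (R.map (prod.fst : ∏ᶜ (Y ∘ a) ⨯ Y i ⟶ ∏ᶜ (Y ∘ a)).op).hom _
  rw [← ρ_naturality, ← hxf a, ← ρ_mul_apply, ← pow_add, ← hN]

/-- Injectivity part of the localization property, on cochains. -/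
lemma cochain_inj
    (hinj : ∀ (n : ℕ) (a : Fin (n + 1) → ι) (i : ι) (x : R.obj (op (∏ᶜ (Y ∘ a)))),
      (R.map (prod.fst : ∏ᶜ (Y ∘ a) ⨯ Y i ⟶ ∏ᶜ (Y ∘ a)).op).hom x = 0 →
        ∃ L : ℕ, ((ρ (g i ^ L) : R ⟶ R).app (op (∏ᶜ (Y ∘ a)))).hom x = 0)
    (i : ι) (n : ℕ) (x : (∏ᶜ (term Y R n) : AddCommGrpCat.{u}))
    (hx : ((φ Y R i).f n).hom x = 0) :
    ∃ L : ℕ, ((act Y R ρ (g i ^ L)).f n).hom x = 0 := by
  classical
  haveI : Fintype (Fin (n + 1) → ι) := Fintype.ofFinite _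
  have h0 : ∀ a, (R.map (prod.fst : ∏ᶜ (Y ∘ a) ⨯ Y i ⟶ ∏ᶜ (Y ∘ a)).op).hom
      ((Limits.Pi.π (term Y R n) a).hom x) = 0 := by
    intro a
    have e2 := π_map Y (toRp Y R i) n a x
    refine e2.symm.trans ?_
    have := congrArg (fun z => (Limits.Pi.π (term Y (Rp Y R i) n) a).hom z) hx
    exact this.trans (map_zero _)
  choose Lf hLf using fun a => hinj n a i _ (h0 a)
  refine ⟨Finset.univ.sup Lf, ?_⟩
  refine pi_ext (F := term Y R n) (fun a => ?_)
  have hN : Finset.univ.sup Lf = (Finset.univ.sup Lf - Lf a) + Lf a :=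
    (Nat.sub_add_cancel (Finset.le_sup (Finset.mem_univ a))).symm
  refine (π_act Y R ρ _ n a x).trans (Eq.trans ?_ (map_zero _).symm)
  rw [hN, pow_add, ρ_mul_apply, hLf a, map_zero]

omit [Finite ι] in
lemma hom_sum_apply {κ : Type*} {X₁ X₂ : AddCommGrpCat.{u}} (s : Finset κ) (ψ : κ → (X₁ ⟶ X₂))
    (x : X₁) : (∑ k ∈ s, ψ k).hom x = ∑ k ∈ s, (ψ k).hom x := by
  classical
  induction s using Finset.induction_on with
  | empty => simp
  | insert k s hk ih =>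
    rw [Finset.sum_insert hk, Finset.sum_insert hk, AddCommGrpCat.hom_add,
      AddMonoidHom.add_apply, ih]

omit [Finite ι] in
lemma sum_f' {κ : Type*} {K L : CochainComplex AddCommGrpCat.{u} ℕ} (s : Finset κ)
    (ψ : κ → (K ⟶ L)) (n : ℕ) : (∑ k ∈ s, ψ k).f n = ∑ k ∈ s, (ψ k).f n := by
  classical
  induction s using Finset.induction_on with
  | empty => simp
  | insert k s hk ih =>
    rw [Finset.sum_insert hk, Finset.sum_insert hk, HomologicalComplex.add_f_apply, ih]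

omit [Finite ι] in
lemma π_piMap_apply {α : Type u} {F G : α → AddCommGrpCat.{u}} (h : ∀ a, F a ⟶ G a) (a : α)
    (x : (∏ᶜ F : AddCommGrpCat.{u})) :
    (Limits.Pi.π G a).hom ((Limits.Pi.map h).hom x) = (h a).hom ((Limits.Pi.π F a).hom x) :=
  congrArg (fun φ => φ.hom x) (Limits.Pi.map_π h a)

omit [Finite ι] in
lemma bijective_piMap {α : Type u} {F G : α → AddCommGrpCat.{u}} (h : ∀ a, F a ⟶ G a)
    (hb : ∀ a, Function.Bijective (h a).hom) : Function.Bijective (Limits.Pi.map h).hom := by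
  constructor
  · intro x y hxy
    refine pi_ext (fun a => (hb a).1 ?_)
    rw [← π_piMap_apply, ← π_piMap_apply, hxy]
  · intro y
    choose x hx using fun a => (hb a).2 ((Limits.Pi.π G a).hom y)
    refine ⟨mkPi F x, pi_ext (fun a => ?_)⟩
    rw [π_piMap_apply, π_mkPi, hx]

omit [Finite ι] in
lemma bijective_act (f : A)
    (hf : ∀ (n : ℕ) (a : Fin (n + 1) → ι),
      Function.Bijective ((ρ f : R ⟶ R).app (op (∏ᶜ (Y ∘ a)))).hom) (n m : ℕ) :
    Function.Bijective ((act Y R ρ (f ^ m)).f n).hom := by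
  induction m with
  | zero =>
    rw [pow_zero, act_one]
    exact Function.bijective_id
  | succ m ih =>
    rw [pow_succ, act_mul]
    have h1 : Function.Bijective ((act Y R ρ f).f n).hom :=
      bijective_piMap (fun a => (ρ f : R ⟶ R).app (op (∏ᶜ (Y ∘ a)))) (hf n)
    exact ih.comp h1

/-- **Čech vanishing by localization.** -/
theorem isZero_homology_succ (f : A)
    (hsurj : ∀ (n : ℕ) (a : Fin (n + 1) → ι) (i : ι) (y : R.obj (op (∏ᶜ (Y ∘ a) ⨯ Y i))),
      ∃ (N : ℕ) (x : R.obj (op (∏ᶜ (Y ∘ a)))),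
        ((ρ (g i ^ N) : R ⟶ R).app (op (∏ᶜ (Y ∘ a) ⨯ Y i))).hom y =
          (R.map (prod.fst : ∏ᶜ (Y ∘ a) ⨯ Y i ⟶ ∏ᶜ (Y ∘ a)).op).hom x)
    (hinj : ∀ (n : ℕ) (a : Fin (n + 1) → ι) (i : ι) (x : R.obj (op (∏ᶜ (Y ∘ a)))),
      (R.map (prod.fst : ∏ᶜ (Y ∘ a) ⨯ Y i ⟶ ∏ᶜ (Y ∘ a)).op).hom x = 0 →
        ∃ L : ℕ, ((ρ (g i ^ L) : R ⟶ R).app (op (∏ᶜ (Y ∘ a)))).hom x = 0)
    (hspan : ∀ N : ι → ℕ, ∃ m : ℕ, f ^ m ∈ Ideal.span (Set.range fun i => g i ^ N i))
    (hf : ∀ (n : ℕ) (a : Fin (n + 1) → ι),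
      Function.Bijective ((ρ f : R ⟶ R).app (op (∏ᶜ (Y ∘ a)))).hom)
    (p : ℕ) : IsZero ((cx Y R).homology (p + 1)) := by
  classical
  haveI : Fintype ι := Fintype.ofFinite ι
  rw [← HomologicalComplex.exactAt_iff_isZero_homology,
    HomologicalComplex.exactAt_iff' _ p (p + 1) (p + 2) (by simp) (by simp),
    ShortComplex.ab_exact_iff]
  intro (c : (cx Y R).X (p + 1)) hc
  have hc' : ((cx Y R).d (p + 1) (p + 2)).hom c = 0 := hc
  -- step 1: each `g i` kills the class of `c` up to a power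
  have step : ∀ i, ∃ (N : ℕ) (b : (cx Y R).X p),
      ((cx Y R).d p (p + 1)).hom b = ((act Y R ρ (g i ^ N)).f (p + 1)).hom c := by
    intro i
    have hexact := isZero_homology_Rp Y R i p
    rw [← HomologicalComplex.exactAt_iff_isZero_homology,
      HomologicalComplex.exactAt_iff' _ p (p + 1) (p + 2) (by simp) (by simp),
      ShortComplex.ab_exact_iff] at hexact
    refine exists_pow_coboundary
      ((cx Y R).d p (p + 1)).hom ((cx Y R).d (p + 1) (p + 2)).hom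
      ((cx Y (Rp Y R i)).d p (p + 1)).hom ((cx Y (Rp Y R i)).d (p + 1) (p + 2)).hom
      ((φ Y R i).f p).hom ((φ Y R i).f (p + 1)).hom ((φ Y R i).f (p + 2)).hom
      ?_ ?_
      (fun N => ((act Y R ρ (g i ^ N)).f p).hom) (fun N => ((act Y R ρ (g i ^ N)).f (p + 1)).hom)
      (fun N => ((actp Y R ρ i (g i ^ N)).f p).hom)
      (fun N => ((actp Y R ρ i (g i ^ N)).f (p + 1)).hom)
      ?_ ?_ ?_ ?_ ?_ ?_ ?_ c hc'
    · intro x
      exact congrArg (fun ψ => ψ.hom x) ((φ Y R i).comm p (p + 1)).symm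
    · intro x
      exact congrArg (fun ψ => ψ.hom x) ((φ Y R i).comm (p + 1) (p + 2)).symm
    · intro N L x
      have e : act Y R ρ (g i ^ (L + N)) = act Y R ρ (g i ^ N) ≫ act Y R ρ (g i ^ L) := by
        rw [pow_add, act_mul]
      rw [e]
      rfl
    · intro N x
      exact congrArg (fun ψ => ψ.hom x) ((act Y R ρ (g i ^ N)).comm p (p + 1))
    · intro N x
      exact congrArg (fun ψ => ψ.hom x) ((actp Y R ρ i (g i ^ N)).comm p (p + 1))
    · intro N x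
      have e := congrArg (fun ψ => (ψ.f (p + 1)).hom x) (act_φ Y R ρ i (g i ^ N))
      exact e
    · intro y hy
      exact hexact y hy
    · intro y
      exact cochain_surj Y R ρ g hsurj i p y
    · intro x hx
      exact cochain_inj Y R ρ g hinj i (p + 1) x hx
  choose N b hb using step
  obtain ⟨m, hm⟩ := hspan N
  obtain ⟨cf, hcf0⟩ := (Ideal.mem_span_range_iff_exists_fun).1 hm
  have hcf : ∑ i, cf i * g i ^ N i = f ^ m := by simpa [smul_eq_mul] using hcf0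
  -- the combination
  let B : (cx Y R).X p := ∑ i, ((act Y R ρ (cf i)).f p).hom (b i)
  have hB : ((cx Y R).d p (p + 1)).hom B = ((act Y R ρ (f ^ m)).f (p + 1)).hom c := by
    rw [map_sum]
    have e1 : ∀ i, ((cx Y R).d p (p + 1)).hom (((act Y R ρ (cf i)).f p).hom (b i)) =
        ((act Y R ρ (cf i * g i ^ N i)).f (p + 1)).hom c := by
      intro i
      have e2 := congrArg (fun ψ => ψ.hom (b i)) ((act Y R ρ (cf i)).comm p (p + 1))
      have e3 : ((cx Y R).d p (p + 1)).hom (((act Y R ρ (cf i)).f p).hom (b i)) =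
          ((act Y R ρ (cf i)).f (p + 1)).hom (((cx Y R).d p (p + 1)).hom (b i)) := e2
      rw [e3, hb i, act_mul]
      rfl
    rw [Finset.sum_congr rfl (fun i _ => e1 i), ← hcf, act_sum, sum_f']
    exact (hom_sum_apply _ _ _).symm
  obtain ⟨b', hb'⟩ := (bijective_act Y R ρ f hf p m).2 B
  refine ⟨b', ?_⟩
  apply (bijective_act Y R ρ f hf (p + 1) m).1
  have e4 := congrArg (fun ψ => ψ.hom b') ((act Y R ρ (f ^ m)).comm p (p + 1))
  have e5 : ((act Y R ρ (f ^ m)).f (p + 1)).hom (((cx Y R).d p (p + 1)).hom b') =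
      ((cx Y R).d p (p + 1)).hom (((act Y R ρ (f ^ m)).f p).hom b') := e4.symm
  exact e5.trans ((congrArg _ hb').trans hB)

end Main

end Groth.Agent.H45.CechLoc
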