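import Groth.Agent.S6773
import Groth.Agent.S6774
import Groth.Agent.S16463
import Groth.Agent.S16465
import Mathlib.Algebra.Homology.DerivedCategory.Ext.ExactSequences
import Mathlib.Algebra.Homology.DerivedCategory.Ext.EnoughInjectives

/-!
# Helper library (helper45): derived functors through effaceable delta-functors

* `DeltaIso.nonempty_rightDerived_iso`: if `T` is an effaceable cohomological delta-functor and
  `F.rightDerived 0 ≅ T.F 0`, then `F.rightDerived q ≅ T.F q` (as functors) for every `q`.
* `DeltaIso.extDelta W`: the delta-functor `Ext^•(W, -)`; it is effaceable when there are enough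
  injectives.
* `DeltaIso.nonempty_rightDerived_iso_extFunctorObj`: `R^q G ≅ Ext^q(W, -)` for `G ≅ Ext^0(W, -)`.
-/

set_option autoImplicit false
universe w v v' u u'
open CategoryTheory CategoryTheory.Limits Opposite

namespace Groth.Agent.H45.DeltaIso

section General

variable {C : Type u} [Category.{v} C] [Abelian C] {D : Type u'} [Category.{v'} D] [Abelian D]

/-- `HasInjectiveResolutions` implies `EnoughInjectives`. -/
theorem enoughInjectives (A : Type u) [Category.{v} A] [Abelian A]
    [HasInjectiveResolutions A] : EnoughInjectives A where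
  presentation X := by
    let I := injectiveResolution X
    exact ⟨{ J := I.cocomplex.X 0
             injective := inferInstance
             f := (HomologicalComplex.singleObjXSelf (ComplexShape.up ℕ) 0 X).inv ≫ I.ι.f 0
             mono := inferInstance }⟩

/-- The degree `q` component of an isomorphism of delta-functors. -/
def appIso {T T' : DeltaF.CohDeltaFunctor C D ℕ} (φ : T ≅ T') (q : ℕ) : T.F q ≅ T'.F q where
  hom := φ.hom.app q
  inv := φ.inv.app q
  hom_inv_id := by
    rw [← DeltaF.CohDeltaFunctor.comp_app, φ.hom_inv_id, DeltaF.CohDeltaFunctor.id_app]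
  inv_hom_id := by
    rw [← DeltaF.CohDeltaFunctor.comp_app, φ.inv_hom_id, DeltaF.CohDeltaFunctor.id_app]

/-- If `T` is an effaceable delta-functor whose degree `0` part is `R⁰F`, then `T.F q ≅ R^q F`. -/
theorem nonempty_rightDerived_iso [HasInjectiveResolutions C] (F : C ⥤ D) [F.Additive]
    (T : DeltaF.CohDeltaFunctor C D ℕ) (hT : T.IsEffaceable) (e : F.rightDerived 0 ≅ T.F 0)
    (q : ℕ) : Nonempty (F.rightDerived q ≅ T.F q) := by
  have := enoughInjectives C
  obtain ⟨Δ⟩ := Groth.Agent.S16463.result F
  have hU := Groth.Agent.S16465.result F Δ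
  have hT' := Groth.Agent.S6773.result T hT
  obtain ⟨φ, -, -⟩ := Groth.Agent.S6774.result Δ.toCohDeltaFunctor T hU hT' e
  exact ⟨appIso φ q⟩

/-- Variant for a left exact functor `F` with `F ≅ T.F 0`. -/
theorem nonempty_rightDerived_iso' [HasInjectiveResolutions C] (F : C ⥤ D) [F.Additive]
    [PreservesFiniteLimits F]
    (T : DeltaF.CohDeltaFunctor C D ℕ) (hT : T.IsEffaceable) (e : F ≅ T.F 0)
    (q : ℕ) : Nonempty (F.rightDerived q ≅ T.F q) :=
  nonempty_rightDerived_iso F T hT (F.rightDerivedZeroIsoSelf ≪≫ e) q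

end General

section Ext

open Abelian

variable {C : Type u} [Category.{v} C] [Abelian C] [HasExt.{w} C]

/-- The delta-functor `Ext^•(W, -)`. -/
noncomputable def extDelta (W : C) : DeltaF.CohDeltaFunctor C AddCommGrpCat.{w} ℕ where
  F n := extFunctorObj W n
  additive n := inferInstance
  δ S hS n₀ n₁ h := AddCommGrpCat.ofHom (hS.extClass.postcomp W h)
  δ_natural {S S'} hS hS' φ n₀ n₁ h := by
    refine AddCommGrpCat.ext fun (x : Ext W S.X₃ n₀) => ?_
    change (x.comp (Ext.mk₀ φ.τ₃) (add_zero n₀)).comp hS'.extClass h =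
      (x.comp hS.extClass h).comp (Ext.mk₀ φ.τ₁) (add_zero n₁)
    rw [Ext.comp_assoc_of_second_deg_zero, ← ShortComplex.ShortExact.extClass_naturality hS hS' φ,
      Ext.comp_assoc_of_third_deg_zero]
  exact₂ S hS n := Ext.covariant_sequence_exact₂' W hS n
  comp_δ S hS n₀ n₁ h := by
    refine AddCommGrpCat.ext fun (x : Ext W S.X₂ n₀) => ?_
    change (x.comp (Ext.mk₀ S.g) (add_zero n₀)).comp hS.extClass h = 0
    rw [Ext.comp_assoc_of_second_deg_zero, ShortComplex.ShortExact.comp_extClass, Ext.comp_zero]
  exact₃ S hS n₀ n₁ h := Ext.covariant_sequence_exact₃' W hS n₀ n₁ h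
  δ_comp S hS n₀ n₁ h := by
    refine AddCommGrpCat.ext fun (x : Ext W S.X₃ n₀) => ?_
    change (x.comp hS.extClass h).comp (Ext.mk₀ S.f) (add_zero n₁) = 0
    rw [Ext.comp_assoc_of_third_deg_zero, ShortComplex.ShortExact.extClass_comp, Ext.comp_zero]
  exact₁ S hS n₀ n₁ h := Ext.covariant_sequence_exact₁' W hS n₀ n₁ h

@[simp] lemma extDelta_F (W : C) (n : ℕ) : (extDelta W).F n = extFunctorObj W n := rfl

lemma extDelta_isEffaceable [EnoughInjectives C] (W : C) : (extDelta W).IsEffaceable := by
  intro n X
  refine ⟨Injective.under X, Injective.ι X, inferInstance, ?_⟩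
  ext x
  exact Ext.eq_zero_of_injective _

/-- `R^q G ≅ Ext^q(W, -)` when `G ≅ Ext^0(W, -)` is left exact. -/
theorem nonempty_rightDerived_iso_extFunctorObj [HasInjectiveResolutions C]
    (G : C ⥤ AddCommGrpCat.{w}) [G.Additive] [PreservesFiniteLimits G] (W : C)
    (e : G ≅ extFunctorObj W 0) (q : ℕ) :
    Nonempty (G.rightDerived q ≅ extFunctorObj W q) := by
  have := enoughInjectives C
  exact nonempty_rightDerived_iso' G (extDelta W) (extDelta_isEffaceable W) e q

end Ext

end Groth.Agent.H45.DeltaIso
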