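import Mathlib.Algebra.Homology.ShortComplex.ExactFunctor
import Mathlib.CategoryTheory.Abelian.Exact

/-!
# A functor which is objectwise the kernel of a natural transformation between left exact functors
is left exact
-/

set_option autoImplicit false
open CategoryTheory CategoryTheory.Limits

namespace Groth.Agent.H45.KernelFunctor

universe v₁ v₂ u₁ u₂

variable {A : Type u₁} [Category.{v₁} A] [Abelian A]
  {B : Type u₂} [Category.{v₂} B] [Abelian B]
  {G F₂ F₃ : A ⥤ B} [G.Additive] [F₂.Additive] [F₃.Additive]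
  (α : G ⟶ F₂) (β : F₂ ⟶ F₃) (w : α ≫ β = 0)

omit [Abelian A] [G.Additive] [F₂.Additive] [F₃.Additive] in
include w in
lemma w_app (X : A) : α.app X ≫ β.app X = 0 := by
  rw [← NatTrans.comp_app, w]; rfl

/-- If `G X = ker (F₂ X ⟶ F₃ X)` naturally, with `F₂` left exact and `F₃` preserving monomorphisms,
then `G` is left exact. -/
theorem preservesFiniteLimits
    (hk : ∀ X, IsLimit (KernelFork.ofι (α.app X) (w_app α β w X)))
    [PreservesFiniteLimits F₂] [F₃.PreservesMonomorphisms] : PreservesFiniteLimits G := by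
  rw [Functor.preservesFiniteLimits_iff_forall_exact_map_and_mono]
  intro S hS
  haveI := hS.mono_f
  haveI : ∀ X, Mono (α.app X) := fun X => mono_of_isLimit_fork (hk X)
  have hmono : Mono (G.map S.f) := by
    haveI : Mono (G.map S.f ≫ α.app S.X₂) := by
      rw [α.naturality]
      infer_instance
    exact mono_of_mono (G.map S.f) (α.app S.X₂)
  refine ⟨?_, hmono⟩
  -- `F₂` maps `S` to a left exact sequence
  have hF₂ := ((Functor.preservesFiniteLimits_iff_forall_exact_map_and_mono F₂).1 inferInstance) S hS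
  haveI : Mono (S.map F₂).f := hF₂.2
  have hker : IsLimit (KernelFork.ofι (F₂.map S.f) (S.map F₂).zero) := hF₂.1.fIsKernel
  haveI : Mono (S.map G).f := hmono
  refine ShortComplex.exact_of_f_is_kernel _ ?_
  refine KernelFork.IsLimit.ofι' _ _ (fun {T} (t : T ⟶ G.obj S.X₂) (ht : t ≫ G.map S.g = 0) => ?_)
  -- `t : T ⟶ G S.X₂` with `t ≫ G.map S.g = 0`
  have h1 : (t ≫ α.app S.X₂) ≫ F₂.map S.g = 0 := by
    rw [Category.assoc, ← α.naturality, reassoc_of% ht, zero_comp]
  obtain ⟨s, hs⟩ := KernelFork.IsLimit.lift' hker (t ≫ α.app S.X₂) h1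
  have hs' : s ≫ F₂.map S.f = t ≫ α.app S.X₂ := hs
  have h2 : s ≫ β.app S.X₁ = 0 := by
    haveI : Mono (F₃.map S.f) := inferInstance
    rw [← cancel_mono (F₃.map S.f), Category.assoc, ← β.naturality, reassoc_of% hs',
      w_app α β w, comp_zero, zero_comp]
  obtain ⟨s₀, hs''⟩ := KernelFork.IsLimit.lift' (hk S.X₁) s h2
  let s' : T ⟶ G.obj S.X₁ := s₀
  have hs3 : s' ≫ α.app S.X₁ = s := hs''
  refine ⟨s', ?_⟩
  have h3 : (s' ≫ G.map S.f) ≫ α.app S.X₂ = t ≫ α.app S.X₂ := by
    rw [Category.assoc, α.naturality, reassoc_of% hs3, hs']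
  exact (cancel_mono (α.app S.X₂)).1 h3

end Groth.Agent.H45.KernelFunctor
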