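import Groth.Prelude.Def_LocCohZ
import Groth.Prelude.Def_CxOX
import Groth.Agent.H30.ExtZeroSch
import Groth.Agent.H92.SheafHomLES
import Groth.Agent.H42.CmpLib
import Groth.Agent.S0856
import Groth.Agent.H45.RDerivedLES
import Groth.Agent.H45.RDerivedExactFunctor
import Groth.Agent.H45.ExtAdjAcy
import Groth.Agent.H45.KernelFunctor
import Groth.Agent.H45.DeltaIso

/-!
# Helper library (helper45): local cohomology sheaves of `O_Y`-modules

For an open immersion `j : U ⟶ Y` with closed complement `Z`:

* `injective_restrict j I`: restriction of an injective `O_Y`-module to `U` is injective (general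
  open immersion; from helper30's `ExtZeroSch` for `V.ι` and the equivalence `restrictEquiv`).
* `enoughInjectives_of_openImmersion`, `hasInjectiveResolutions_of_openImmersion`.
* `epi_unit_of_injective`: `I ⟶ j_* j^* I` is an epimorphism for `I` injective.
* `exactOnInjectives j`: `0 ⟶ Γ_Z I ⟶ I ⟶ j_* j^* I ⟶ 0` is short exact for injective `I`.
* `HZshMZeroIso`, `HZshMOneIso`, `HZshMSuccIso`: `ℋ⁰_Z = Γ_Z`, `ℋ¹_Z M = coker (M ⟶ j_* j^* M)`,
  `ℋ^{i+1}_Z = j^* ⋙ R^i j_*` (`i ≥ 1`).
-/

set_option autoImplicit false
set_option linter.style.haveILetI false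
universe u
open CategoryTheory CategoryTheory.Limits AlgebraicGeometry

namespace Groth.Agent.H45.GammaZMod

open Groth.Agent.H45 Groth.Agent.H45.RDerivedLES

section Equiv

variable {U V : Scheme.{u}} (e : U ≅ V)

/-- Restriction along an isomorphism of schemes is an equivalence of categories of modules. -/
noncomputable def restrictEquiv : V.Modules ≌ U.Modules :=
  CategoryTheory.Equivalence.mk (Scheme.Modules.restrictFunctor e.hom) (Scheme.Modules.restrictFunctor e.inv)
    ((Scheme.Modules.restrictFunctorId (X := V)).symm ≪≫
      Scheme.Modules.restrictFunctorCongr (e.inv_hom_id.symm) ≪≫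
      Scheme.Modules.restrictFunctorComp e.inv e.hom)
    ((Scheme.Modules.restrictFunctorComp e.hom e.inv).symm ≪≫
      Scheme.Modules.restrictFunctorCongr (e.hom_inv_id) ≪≫
      Scheme.Modules.restrictFunctorId (X := U))

lemma injective_restrict_iso (K : V.Modules) [Injective K] :
    Injective ((Scheme.Modules.restrictFunctor e.hom).obj K) :=
  ((restrictEquiv e).map_injective_iff K).2 inferInstance

end Equiv

variable {U Y : Scheme.{u}} (j : U ⟶ Y) [IsOpenImmersion j]

/-- Restriction of an injective module along an open immersion is injective. -/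
theorem injective_restrict (I : Y.Modules) [Injective I] :
    Injective ((Scheme.Modules.restrictFunctor j).obj I) := by
  let V : Y.Opens := j.opensRange
  let e : U ≅ V.toScheme := j.isoOpensRange
  have he : e.hom ≫ V.ι = j := j.isoOpensRange_hom_ι
  have h1 : Injective ((Scheme.Modules.restrictFunctor V.ι).obj I) :=
    Groth.Agent.H30.ExtZeroSch.injective_restrict V I
  have h2 : Injective ((Scheme.Modules.restrictFunctor V.ι ⋙
      Scheme.Modules.restrictFunctor e.hom).obj I) :=
    @injective_restrict_iso _ _ e ((Scheme.Modules.restrictFunctor V.ι).obj I) h1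
  have i1 : Scheme.Modules.restrictFunctor j ≅ Scheme.Modules.restrictFunctor (e.hom ≫ V.ι) :=
    Scheme.Modules.restrictFunctorCongr he.symm
  have i2 := Scheme.Modules.restrictFunctorComp e.hom V.ι
  exact Injective.of_iso ((i1 ≪≫ i2).app I).symm h2

instance : PreservesFiniteLimits (Scheme.Modules.restrictFunctor j) :=
  Groth.Agent.H42.CmpLib.preservesFiniteLimits_restrictFunctor j

instance : PreservesFiniteColimits (Scheme.Modules.restrictFunctor j) :=
  Groth.Agent.H42.CmpLib.preservesFiniteColimits_restrictFunctor j

instance : PreservesFiniteLimits (Scheme.Modules.pushforward j) := by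
  haveI := (Scheme.Modules.restrictAdjunction j).rightAdjoint_preservesLimits
  infer_instance

include j in
/-- Enough injectives on an open subscheme, from enough injectives on the ambient scheme. -/
theorem enoughInjectives_of_openImmersion [EnoughInjectives Y.Modules] :
    EnoughInjectives U.Modules where
  presentation N := by
    let P := (Scheme.Modules.pushforward j).obj N
    haveI : Injective ((Scheme.Modules.restrictFunctor j).obj (Injective.under P)) :=
      injective_restrict j _
    haveI : Mono ((Scheme.Modules.restrictFunctor j).map (Injective.ι P)) := inferInstance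
    exact ⟨{ J := (Scheme.Modules.restrictFunctor j).obj (Injective.under P)
             injective := inferInstance
             f := inv ((Scheme.Modules.restrictAdjunction j).counit.app N) ≫
               (Scheme.Modules.restrictFunctor j).map (Injective.ι P)
             mono := inferInstance }⟩

include j in
theorem hasInjectiveResolutions_of_openImmersion [HasInjectiveResolutions Y.Modules] :
    HasInjectiveResolutions U.Modules := by
  haveI := DeltaIso.enoughInjectives Y.Modules
  haveI := enoughInjectives_of_openImmersion j
  infer_instance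

/-- The unit `𝟭 ⟶ j^* ⋙ j_*`. -/
noncomputable abbrev η : 𝟭 Y.Modules ⟶
    Scheme.Modules.restrictFunctor j ⋙ Scheme.Modules.pushforward j :=
  (Scheme.Modules.restrictAdjunction j).unit

/-- The inclusion `Γ_Z ⟶ 𝟭`. -/
noncomputable abbrev αZ : DCoh.gammaZ j ⟶ 𝟭 Y.Modules := CxOX.gammaZι j

lemma wZ : αZ j ≫ η j = 0 := by
  ext F : 2
  exact kernel.condition _

lemma epi_unit_of_injective (I : Y.Modules) [hI : Injective I] : Epi ((η j).app I) := by
  refine Groth.Agent.H92.SheafHomLES.epi_of_surjective (R := Y.ringCatSheaf)
    ((η j).app I) (fun W => ?_)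
  exact @Groth.Agent.S0856.result _ _ _ Y.ringCatSheaf I hI _ _
    (homOfLE (j.image_preimage_le W.unop)) _

instance : (Scheme.Modules.restrictFunctor j).Additive :=
  (Scheme.Modules.restrictAdjunction j).left_adjoint_additive

instance : (Scheme.Modules.pushforward j).Additive :=
  (Scheme.Modules.restrictAdjunction j).right_adjoint_additive

lemma exactOnInjectives : ExactOnInjectives (αZ j) (η j) (wZ j) := by
  intro I hI
  haveI := hI
  exact
    { exact := ShortComplex.exact_of_f_is_kernel _ (kernelIsKernel _)
      mono_f := by dsimp [αZ, CxOX.gammaZι]; exact equalizer.ι_mono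
      epi_g := epi_unit_of_injective j I }

instance preservesFiniteLimits_gammaZ : PreservesFiniteLimits (DCoh.gammaZ j) := by
  haveI : PreservesFiniteLimits
      (Scheme.Modules.restrictFunctor j ⋙ Scheme.Modules.pushforward j) :=
    comp_preservesFiniteLimits _ _
  haveI : PreservesLimitsOfShape WalkingCospan
      (Scheme.Modules.restrictFunctor j ⋙ Scheme.Modules.pushforward j) :=
    PreservesFiniteLimits.preservesFiniteLimits WalkingCospan
  haveI : (Scheme.Modules.restrictFunctor j ⋙
      Scheme.Modules.pushforward j).PreservesMonomorphisms :=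
    preservesMonomorphisms_of_preservesLimitsOfShape _
  exact KernelFunctor.preservesFiniteLimits (αZ j) (η j) (wZ j) (fun F => kernelIsKernel _)

variable [HasInjectiveResolutions Y.Modules]

lemma isZero_id (n : ℕ) (hn : 0 < n) (F : Y.Modules) :
    IsZero (((𝟭 Y.Modules).rightDerived n).obj F) := by
  haveI := DeltaIso.enoughInjectives Y.Modules
  exact ExtAdj.isZero_rightDerived_of_exact (𝟭 Y.Modules) F n hn

/-- `ℋ⁰_Z ≅ Γ_Z`. -/
noncomputable def HZshMZeroIso : LocCohZ.HZshM j 0 ≅ DCoh.gammaZ j :=
  (DCoh.gammaZ j).rightDerivedZeroIsoSelf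

/-- `ℋ¹_Z(M) ≅ coker (M ⟶ j_* j^* M)`. -/
noncomputable def HZshMOneIso (M : Y.Modules) :
    (LocCohZ.HZshM j 1).obj M ≅ cokernel ((η j).app M) :=
  (cokernelIsoApp (exactOnInjectives j) M (isZero_id 1 Nat.one_pos M)).symm

/-- `ℋ^{i+1}_Z ≅ j^* ⋙ R^i j_*` for `i ≥ 1`. -/
noncomputable def HZshMSuccIso [HasInjectiveResolutions U.Modules] (i : ℕ) (hi : 1 ≤ i) :
    LocCohZ.HZshM j (i + 1) ≅
      Scheme.Modules.restrictFunctor j ⋙ (Scheme.Modules.pushforward j).rightDerived i := by
  haveI := isIso_δ (exactOnInjectives j) i (fun F => isZero_id i (by omega) F)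
    (fun F => isZero_id (i + 1) (by omega) F)
  exact (asIso (δ (exactOnInjectives j) i)).symm ≪≫
    RDerivedExact.rightDerivedCompIso (Scheme.Modules.restrictFunctor j)
      (Scheme.Modules.pushforward j)
      (fun J hJ => by haveI := hJ; exact injective_restrict j J) i

end Groth.Agent.H45.GammaZMod
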