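import Groth.Agent.H45.CechExtra
import Groth.Agent.H45.GammaZMod
import Groth.Prelude.Def_CechOX
import Groth.Prelude.Def_CxOX
import Groth.Prelude.Def_Coh

/-!
# The Čech complex of sheaves of an `O_X`-module is a resolution (helper45)

`CechOX.cechSh 𝒰 F` with the coaugmentation `CechOX.cechShAug 𝒰 F`: for a covering `𝒰` the
coaugmentation is a kernel of the first differential and the complex is exact in positive degrees.
-/

set_option autoImplicit false
set_option linter.unusedSectionVars false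

open CategoryTheory Limits Opposite AlgebraicGeometry TopologicalSpace Simplicial

universe u

namespace Groth.Agent.H45.CechSh

open Groth.Agent.H45.CechExtra

variable {X : Scheme.{u}}

/-! ### Joint reflection of zero objects / exactness by restrictions to a cover -/

section Reflect

variable {ι : Type u} (𝒰 : ι → X.Opens) (h𝒰 : ⨆ i, 𝒰 i = ⊤)

lemma image_preimage_le (W V : X.Opens) : W.ι ''ᵁ (W.ι ⁻¹ᵁ V) ≤ V := by
  rw [Scheme.Hom.image_preimage_eq_opensRange_inf, Scheme.Opens.opensRange_ι]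
  exact inf_le_right

lemma image_preimage_eq (W V : X.Opens) : W.ι ''ᵁ (W.ι ⁻¹ᵁ V) = W ⊓ V := by
  rw [Scheme.Hom.image_preimage_eq_opensRange_inf, Scheme.Opens.opensRange_ι]

include h𝒰 in
lemma isZero_of_restrict (M : X.Modules)
    (h : ∀ i, IsZero ((Scheme.Modules.restrictFunctor (𝒰 i).ι).obj M)) : IsZero M := by
  rw [IsZero.iff_id_eq_zero]
  apply Scheme.Modules.hom_ext
  intro V
  have key : ∀ s t : (Coh.toAb M).obj.obj (op V), s = t := by
    intro s t
    refine TopCat.Sheaf.eq_of_locally_eq' (C := AddCommGrpCat.{u}) (Coh.toAb M)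
      (fun i : ι => (𝒰 i).ι ''ᵁ ((𝒰 i).ι ⁻¹ᵁ V)) V
      (fun i => homOfLE (image_preimage_le (𝒰 i) V)) ?_ s t ?_
    · intro y hy
      have hy' : y ∈ (⨆ i, 𝒰 i : X.Opens) := by rw [h𝒰]; trivial
      obtain ⟨i, hi⟩ := TopologicalSpace.Opens.mem_iSup.1 hy'
      refine TopologicalSpace.Opens.mem_iSup.2 ⟨i, ?_⟩
      rw [image_preimage_eq]
      exact ⟨hi, hy⟩
    · intro i
      have hz : 𝟙 ((Scheme.Modules.restrictFunctor (𝒰 i).ι).obj M) = 0 :=
        (IsZero.iff_id_eq_zero _).1 (h i)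
      have hz' := congrArg (fun φ => Scheme.Modules.Hom.app φ ((𝒰 i).ι ⁻¹ᵁ V)) hz
      have key2 : ∀ a : (Coh.toAb M).obj.obj (op ((𝒰 i).ι ''ᵁ ((𝒰 i).ι ⁻¹ᵁ V))), a = 0 := by
        intro a
        exact ConcreteCategory.congr_hom hz' a
      exact (key2 _).trans (key2 _).symm
  ext s
  exact key _ _

variable [∀ i, PreservesFiniteLimits (Scheme.Modules.restrictFunctor (𝒰 i).ι)]
  [∀ i, PreservesFiniteColimits (Scheme.Modules.restrictFunctor (𝒰 i).ι)]

include h𝒰 in
lemma exact_of_restrict (S : ShortComplex X.Modules)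
    (h : ∀ i, (S.map (Scheme.Modules.restrictFunctor (𝒰 i).ι)).Exact) : S.Exact := by
  rw [ShortComplex.exact_iff_isZero_homology]
  apply isZero_of_restrict 𝒰 h𝒰
  intro i
  have hi := h i
  rw [ShortComplex.exact_iff_isZero_homology] at hi
  exact hi.of_iso (S.mapHomologyIso (Scheme.Modules.restrictFunctor (𝒰 i).ι)).symm

include h𝒰 in
lemma mono_of_restrict {M N : X.Modules} (f : M ⟶ N)
    (h : ∀ i, Mono ((Scheme.Modules.restrictFunctor (𝒰 i).ι).map f)) : Mono f := by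
  let S : ShortComplex X.Modules := ShortComplex.mk (0 : M ⟶ M) f zero_comp
  have hS : S.Exact := by
    apply exact_of_restrict 𝒰 h𝒰
    intro i
    have : Mono (S.map (Scheme.Modules.restrictFunctor (𝒰 i).ι)).g := h i
    exact (ShortComplex.exact_iff_mono _ (by
      change (Scheme.Modules.restrictFunctor (𝒰 i).ι).map (0 : M ⟶ M) = 0
      exact Functor.map_zero _ _ _)).2 this
  exact (ShortComplex.exact_iff_mono S rfl).1 hS

end Reflect

/-! ### The two invertibility facts -/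

section Iso

variable (F : X.Modules)

lemma isIso_presheaf_map {V₁ V₂ : X.Opens} (h : V₁ ≤ V₂) (h' : V₂ ≤ V₁) :
    IsIso (F.presheaf.map (homOfLE h).op) := by
  refine ⟨⟨F.presheaf.map (homOfLE h').op, ?_, ?_⟩⟩
  · rw [← F.presheaf.map_comp]
    exact (congrArg F.presheaf.map (Subsingleton.elim _ _)).trans (F.presheaf.map_id _)
  · rw [← F.presheaf.map_comp]
    exact (congrArg F.presheaf.map (Subsingleton.elim _ _)).trans (F.presheaf.map_id _)

lemma iso1 (U : X.Opens) {W W' : X.Opens} (h : W' ≤ W) (h' : W ⊓ U ≤ W') :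
    IsIso ((Scheme.Modules.restrictFunctor U.ι).map (CechOX.pushRestrMapApp h F)) := by
  rw [Scheme.Modules.Hom.isIso_iff_isIso_app]
  intro V'
  change IsIso ((CechOX.pushRestrMapApp h F).app (U.ι ''ᵁ V'))
  rw [CechOX.pushRestrMapApp_app]
  apply isIso_presheaf_map
  rw [image_preimage_eq, image_preimage_eq]
  have hV : U.ι ''ᵁ V' ≤ U := by
    conv_rhs => rw [← Scheme.Opens.opensRange_ι U]
    exact Scheme.Hom.image_le_opensRange _ _
  exact le_inf ((le_inf inf_le_left (inf_le_right.trans hV)).trans h') inf_le_right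

lemma iso2 (U W : X.Opens) (h : U ≤ W) :
    IsIso ((Scheme.Modules.restrictFunctor U.ι).map
      ((Scheme.Modules.restrictAdjunction W.ι).unit.app F)) := by
  rw [Scheme.Modules.Hom.isIso_iff_isIso_app]
  intro V'
  change IsIso (F.presheaf.map (homOfLE (image_preimage_le W (U.ι ''ᵁ V'))).op)
  apply isIso_presheaf_map
  rw [image_preimage_eq]
  have hV : U.ι ''ᵁ V' ≤ U := by
    conv_rhs => rw [← Scheme.Opens.opensRange_ι U]
    exact Scheme.Hom.image_le_opensRange _ _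
  exact le_inf (hV.trans h) le_rfl

/-- The presheaf of modules `W ↦ (j_W)_*(F|_W)`. -/
noncomputable abbrev PP : (X.Opens)ᵒᵖ ⥤ X.Modules := CechOX.pushRestrFam.flip.obj F

/-- The units. -/
noncomputable def uu (W : X.Opens) : F ⟶ (PP F).obj (op W) :=
  (Scheme.Modules.restrictAdjunction W.ι).unit.app F

lemma uu_nat {W W' : X.Opens} (g : W' ⟶ W) : uu F W ≫ (PP F).map g.op = uu F W' := by
  apply Scheme.Modules.hom_ext
  intro V
  rw [Scheme.Modules.Hom.comp_app]
  change F.presheaf.map (homOfLE (image_preimage_le W V)).op ≫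
    F.presheaf.map (homOfLE (CechOX.image_preimage_mono (leOfHom g) V)).op =
    F.presheaf.map (homOfLE (image_preimage_le W' V)).op
  rw [← F.presheaf.map_comp]
  rfl

end Iso

/-! ### The main statements -/

section Main

variable {ι : Type u} (𝒰 : ι → X.Opens) (F : X.Modules)

instance (U : X.Opens) (n : ℕ) :
    PreservesLimit (Discrete.functor (TT (PP F) 𝒰 n)) (Scheme.Modules.restrictFunctor U.ι) :=
  haveI : PreservesLimitsOfSize.{u, u} (Scheme.Modules.restrictFunctor U.ι) :=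
    (CxOX.extZeroAdj U.ι).rightAdjoint_preservesLimits
  inferInstance

lemma cons_le (i : ι) {n : ℕ} (y : Fin (n + 1) → ι) :
    (∏ᶜ (𝒰 ∘ y) : X.Opens) ⊓ 𝒰 i ≤ ∏ᶜ (𝒰 ∘ (Fin.cons i y : Fin (n + 2) → ι)) := by
  refine leOfHom (Pi.lift (fun a => ?_))
  refine Fin.cases ?_ (fun b => ?_) a
  · exact homOfLE inf_le_right
  · exact homOfLE inf_le_left ≫ Pi.π (𝒰 ∘ y) b

lemma hP (i : ι) (n : ℕ) (y : Fin (n + 1) → ι) :
    IsIso ((Scheme.Modules.restrictFunctor (𝒰 i).ι).map ((PP F).map (φ 𝒰 i y).op)) :=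
  iso1 F (𝒰 i) (leOfHom (φ 𝒰 i y)) (cons_le 𝒰 i y)

lemma hU (i : ι) :
    IsIso ((Scheme.Modules.restrictFunctor (𝒰 i).ι).map
      (uu F (∏ᶜ (𝒰 ∘ (fun _ : Fin 1 => i))))) :=
  iso2 F (𝒰 i) _ (leOfHom (Pi.lift (fun _ => 𝟙 _)))

lemma cechSh_eq : (CechOX.cechSh 𝒰).obj F = KK (PP F) 𝒰 := rfl

lemma cechShAug_eq : CechOX.cechShAug 𝒰 F = aug (PP F) 𝒰 (uu F) := rfl

lemma aug_comp_d : CechOX.cechShAug 𝒰 F ≫ ((CechOX.cechSh 𝒰).obj F).d 0 1 = 0 :=
  aug_d (PP F) 𝒰 (uu F) (fun g => uu_nat F g)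

variable (h𝒰 : ⨆ i, 𝒰 i = ⊤)

include h𝒰 in
theorem mono_aug : Mono (CechOX.cechShAug 𝒰 F) := by
  apply mono_of_restrict 𝒰 h𝒰
  intro i
  exact mono_map_aug (PP F) 𝒰 (Scheme.Modules.restrictFunctor (𝒰 i).ι) i (uu F) (hU 𝒰 F i)

include h𝒰 in
theorem exact_aug :
    (ShortComplex.mk (CechOX.cechShAug 𝒰 F) (((CechOX.cechSh 𝒰).obj F).d 0 1)
      (aug_comp_d 𝒰 F)).Exact := by
  apply exact_of_restrict 𝒰 h𝒰
  intro i
  exact exact_map_aug (PP F) 𝒰 (Scheme.Modules.restrictFunctor (𝒰 i).ι) i (hP 𝒰 F i) (uu F)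
    (fun g => uu_nat F g) (hU 𝒰 F i)

include h𝒰 in
theorem isZero_homology (p : ℕ) : IsZero (((CechOX.cechSh 𝒰).obj F).homology (p + 1)) := by
  rw [← HomologicalComplex.exactAt_iff_isZero_homology]
  apply exact_of_restrict 𝒰 h𝒰
  intro i
  exact exactAt_map (PP F) 𝒰 (Scheme.Modules.restrictFunctor (𝒰 i).ι) i (hP 𝒰 F i) p

end Main

end Groth.Agent.H45.CechSh
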