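import Mathlib.Topology.Sheaves.Functors
import Mathlib.Topology.Sheaves.Stalks
import Mathlib.Topology.Sheaves.SheafCondition.UniqueGluing
import Mathlib.Topology.Sheaves.SheafCondition.PairwiseIntersections
import Mathlib.CategoryTheory.Localization.Adjunction
import Mathlib.CategoryTheory.Localization.Opposite
import Mathlib.CategoryTheory.Localization.Predicate

/-!
# Sheaves and closed embeddings of topological spaces

For a closed embedding `i : Z ⟶ X`, the functor `Opens.map i : Opens X ⥤ Opens Z` has a fully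
faithful right adjoint `W ↦ (range i)ᶜ ∪ i '' W`; hence it is a localization functor and the
pushforward of (pre)sheaves along `i` is fully faithful. Its essential image consists of the sheaves
vanishing on the opens disjoint from `i(Z)`.
-/

set_option autoImplicit false
universe v u
open CategoryTheory CategoryTheory.Limits TopologicalSpace Opposite

namespace Groth.Agent.H45.ClosedEmb

variable {Z X : TopCat.{u}} (i : Z ⟶ X) (hi : Topology.IsClosedEmbedding i)

/-- The open complement of the image. -/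
def complOpen : Opens X := ⟨(Set.range i)ᶜ, hi.isClosed_range.isOpen_compl⟩

include hi in
lemma isOpen_rSet (W : Opens Z) : IsOpen ((Set.range i)ᶜ ∪ i '' (W : Set Z)) := by
  obtain ⟨V, hV, hVW⟩ := hi.isInducing.isOpen_iff.1 W.2
  have : (Set.range i)ᶜ ∪ i '' (W : Set Z) = (Set.range i)ᶜ ∪ V := by
    ext x
    constructor
    · rintro (h | ⟨z, hz, rfl⟩)
      · exact Or.inl h
      · refine Or.inr ?_
        have : z ∈ i ⁻¹' V := by rw [hVW]; exact hz
        exact this
    · rintro (h | h)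
      · exact Or.inl h
      · by_cases hx : x ∈ Set.range i
        · obtain ⟨z, rfl⟩ := hx
          refine Or.inr ⟨z, ?_, rfl⟩
          have : z ∈ i ⁻¹' V := h
          rw [hVW] at this
          exact this
        · exact Or.inl hx
  rw [this]
  exact hi.isClosed_range.isOpen_compl.union hV

/-- The largest open of `X` whose trace on `Z` is `W`. -/
def rOpen (W : Opens Z) : Opens X := ⟨(Set.range i)ᶜ ∪ i '' (W : Set Z), isOpen_rSet i hi W⟩

lemma mem_rOpen_iff (W : Opens Z) (x : X) :
    x ∈ rOpen i hi W ↔ x ∉ Set.range i ∨ ∃ z, z ∈ W ∧ i z = x := Iff.rfl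

lemma apply_mem_rOpen_iff (W : Opens Z) (z : Z) : i z ∈ rOpen i hi W ↔ z ∈ W := by
  rw [mem_rOpen_iff]
  constructor
  · rintro (h | ⟨z', hz', h⟩)
    · exact absurd ⟨z, rfl⟩ h
    · rw [← hi.injective h]; exact hz'
  · intro h
    exact Or.inr ⟨z, h, rfl⟩

lemma gc : GaloisConnection (fun V : Opens X => (Opens.map i).obj V) (rOpen i hi) := by
  intro V W
  constructor
  · intro h x hx
    by_cases hxr : x ∈ Set.range i
    · obtain ⟨z, rfl⟩ := hxr
      exact (apply_mem_rOpen_iff i hi W z).2 (h hx)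
    · exact Or.inl hxr
  · intro h z hz
    exact (apply_mem_rOpen_iff i hi W z).1 (h hz)

lemma map_rOpen (W : Opens Z) : (Opens.map i).obj (rOpen i hi W) = W := by
  ext z
  exact apply_mem_rOpen_iff i hi W z

lemma rOpen_mono : Monotone (rOpen i hi) := (gc i hi).monotone_u

lemma complOpen_le_rOpen (W : Opens Z) : complOpen i hi ≤ rOpen i hi W :=
  fun _ hx => Or.inl hx

lemma rOpen_bot : rOpen i hi ⊥ = complOpen i hi := by
  ext x
  constructor
  · rintro (h | ⟨z, hz, _⟩)
    · exact h
    · exact absurd hz (by simp)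
  · intro h
    exact Or.inl h

lemma rOpen_inf (W₁ W₂ : Opens Z) : rOpen i hi (W₁ ⊓ W₂) = rOpen i hi W₁ ⊓ rOpen i hi W₂ :=
  (gc i hi).u_inf

lemma rOpen_map (V : Opens X) : rOpen i hi ((Opens.map i).obj V) = V ⊔ complOpen i hi := by
  ext x
  constructor
  · rintro (h | ⟨z, hz, rfl⟩)
    · exact Or.inr h
    · exact Or.inl hz
  · rintro (h | h)
    · by_cases hxr : x ∈ Set.range i
      · obtain ⟨z, rfl⟩ := hxr
        exact Or.inr ⟨z, h, rfl⟩
      · exact Or.inl hxr
    · exact Or.inl h

lemma rOpen_iSup_le {ι : Type*} [Nonempty ι] (W : ι → Opens Z) :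
    rOpen i hi (iSup W) ≤ iSup (fun a => rOpen i hi (W a)) := by
  intro x hx
  rcases hx with h | ⟨z, hz, rfl⟩
  · obtain ⟨a⟩ := ‹Nonempty ι›
    exact Opens.mem_iSup.2 ⟨a, Or.inl h⟩
  · obtain ⟨a, ha⟩ := Opens.mem_iSup.1 hz
    exact Opens.mem_iSup.2 ⟨a, Or.inr ⟨z, ha, rfl⟩⟩

/-- `rOpen` as a functor. -/
def rFunctor : Opens Z ⥤ Opens X := (rOpen_mono i hi).functor

/-- The adjunction `Opens.map i ⊣ rFunctor`. -/
def opensAdj : Opens.map i ⊣ rFunctor i hi :=
  Adjunction.mkOfHomEquiv
    { homEquiv := fun V W =>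
        { toFun := fun f => homOfLE ((gc i hi V W).1 f.le)
          invFun := fun g => homOfLE ((gc i hi V W).2 g.le)
          left_inv := fun _ => Subsingleton.elim _ _
          right_inv := fun _ => Subsingleton.elim _ _ }
      homEquiv_naturality_left_symm := fun _ _ => Subsingleton.elim _ _
      homEquiv_naturality_right := fun _ _ => Subsingleton.elim _ _ }

instance : (rFunctor i hi).Faithful := ⟨fun _ => Subsingleton.elim _ _⟩

instance : (rFunctor i hi).Full :=
  ⟨fun {W W'} f => ⟨homOfLE (by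
    have h := (Opens.map i).monotone f.le
    change (Opens.map i).obj (rOpen i hi W) ≤ (Opens.map i).obj (rOpen i hi W') at h
    rwa [map_rOpen, map_rOpen] at h), Subsingleton.elim _ _⟩⟩

section FullyFaithful

variable (C : Type*) [Category C]

include hi

/-- Presheaf pushforward along a closed embedding is full. -/
lemma full_presheaf_pushforward : (TopCat.Presheaf.pushforward C i).Full := by
  haveI := (opensAdj i hi).isLocalization
  exact Localization.full_whiskeringLeft (Opens.map i).op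
    ((MorphismProperty.isomorphisms (Opens Z)).inverseImage (Opens.map i)).op C

lemma faithful_presheaf_pushforward : (TopCat.Presheaf.pushforward C i).Faithful := by
  haveI := (opensAdj i hi).isLocalization
  exact Localization.faithful_whiskeringLeft (Opens.map i).op
    ((MorphismProperty.isomorphisms (Opens Z)).inverseImage (Opens.map i)).op C

lemma full_sheaf_pushforward : (TopCat.Sheaf.pushforward C i).Full := by
  haveI := full_presheaf_pushforward i hi C
  refine ⟨fun {G G'} φ => ?_⟩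
  let ψ : G.obj ⟶ G'.obj := (TopCat.Presheaf.pushforward C i).preimage φ.hom
  refine ⟨⟨ψ⟩, ?_⟩
  apply Sheaf.hom_ext
  exact (TopCat.Presheaf.pushforward C i).map_preimage φ.hom

lemma faithful_sheaf_pushforward : (TopCat.Sheaf.pushforward C i).Faithful := by
  haveI := faithful_presheaf_pushforward i hi C
  refine ⟨fun {G G'} φ ψ h => ?_⟩
  apply Sheaf.hom_ext
  apply (TopCat.Presheaf.pushforward C i).map_injective
  exact congrArg (fun f => f.hom) h

end FullyFaithful

section EssImage

variable {C : Type*} [Category C] {FC : C → C → Type*} {CC : C → Type*}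
  [∀ X Y, FunLike (FC X Y) (CC X) (CC Y)] [ConcreteCategory C FC]
  [HasLimitsOfSize.{u, u} C] [(forget C).ReflectsIsomorphisms]
  [PreservesLimitsOfSize.{u, u} (forget C)]

/-- Gluing two sections of a sheaf. -/
lemma exists_glue₂ (F : TopCat.Sheaf C X) {U₁ U₂ V : Opens X} (i₁ : U₁ ⟶ V) (i₂ : U₂ ⟶ V)
    (hcover : V ≤ U₁ ⊔ U₂) (a₁ : ToType (F.obj.obj (op U₁)))
    (a₂ : ToType (F.obj.obj (op U₂)))
    (h : F.obj.map (homOfLE (inf_le_left : U₁ ⊓ U₂ ≤ U₁)).op a₁ =
      F.obj.map (homOfLE (inf_le_right : U₁ ⊓ U₂ ≤ U₂)).op a₂) :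
    ∃ b : ToType (F.obj.obj (op V)), F.obj.map i₁.op b = a₁ ∧ F.obj.map i₂.op b = a₂ := by
  let Uf : Bool → Opens X := fun b => Bool.rec U₂ U₁ b
  let sf : ∀ b : Bool, ToType (F.obj.obj (op (Uf b))) := fun b => Bool.rec a₂ a₁ b
  have hle : ∀ b, Uf b ≤ V := fun b => by
    cases b
    · exact i₂.le
    · exact i₁.le
  have hcover' : V ≤ iSup Uf := by
    refine hcover.trans (sup_le ?_ ?_)
    · exact le_iSup Uf true
    · exact le_iSup Uf false
  have hcompat : TopCat.Presheaf.IsCompatible F.obj Uf sf := by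
    intro i j
    cases i <;> cases j
    · rfl
    · have := congrArg (F.obj.map (homOfLE (by rw [inf_comm] : U₂ ⊓ U₁ ≤ U₁ ⊓ U₂)).op) h
      rw [← ConcreteCategory.comp_apply, ← ConcreteCategory.comp_apply, ← F.obj.map_comp,
        ← F.obj.map_comp] at this
      exact this.symm
    · exact h
    · rfl
  obtain ⟨b, hb, -⟩ := TopCat.Sheaf.existsUnique_gluing' F Uf V (fun b => homOfLE (hle b))
    hcover' sf hcompat
  exact ⟨b, hb true, hb false⟩

omit [HasLimitsOfSize.{u, u} C] [(forget C).ReflectsIsomorphisms]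
  [PreservesLimitsOfSize.{u, u} (forget C)] in
lemma map_map_apply (K : TopCat.Presheaf C X) {V₁ V₂ V₃ : Opens X} (f : V₁ ⟶ V₂) (g : V₂ ⟶ V₃)
    (s : ToType (K.obj (op V₃))) : K.map f.op (K.map g.op s) = K.map (f ≫ g).op s := by
  rw [← ConcreteCategory.comp_apply, ← K.map_comp]
  rfl

/-- `K` has trivial sections over the opens which do not meet `Z`. -/
def IsSupp (K : TopCat.Sheaf C X) : Prop :=
  ∀ V : Opens X, V ≤ complOpen i hi → Nonempty (Unique (ToType (K.obj.obj (op V))))

/-- The presheaf `W ↦ K((range i)ᶜ ∪ i(W))` on `Z`. -/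
def rPresheaf (K : TopCat.Sheaf C X) : TopCat.Presheaf C Z := (rFunctor i hi).op ⋙ K.obj

lemma isSheaf_rPresheaf (K : TopCat.Sheaf C X) (hK : IsSupp i hi K) :
    (rPresheaf i hi K).IsSheaf := by
  rw [TopCat.Presheaf.isSheaf_iff_isSheafUniqueGluing]
  intro ι W sf hsf
  by_cases hι : Nonempty ι
  · have hcompat : TopCat.Presheaf.IsCompatible K.obj (fun a => rOpen i hi (W a)) sf := by
      intro a b
      have h : K.obj.map ((rFunctor i hi).map (Opens.infLELeft (W a) (W b))).op (sf a) =
          K.obj.map ((rFunctor i hi).map (Opens.infLERight (W a) (W b))).op (sf b) := hsf a b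
      have hle : rOpen i hi (W a) ⊓ rOpen i hi (W b) ≤ rOpen i hi (W a ⊓ W b) :=
        (rOpen_inf i hi _ _).ge
      have h' := congrArg (K.obj.map (homOfLE hle).op) h
      have e1 := map_map_apply K.obj (homOfLE hle)
        ((rFunctor i hi).map (Opens.infLELeft (W a) (W b))) (sf a)
      have e2 := map_map_apply K.obj (homOfLE hle)
        ((rFunctor i hi).map (Opens.infLERight (W a) (W b))) (sf b)
      exact e1.symm.trans (h'.trans e2)
    obtain ⟨s, hs, huniq⟩ := K.existsUnique_gluing' (fun a => rOpen i hi (W a))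
      (rOpen i hi (iSup W)) (fun a => homOfLE (rOpen_mono i hi (le_iSup W a)))
      (rOpen_iSup_le i hi W) sf hcompat
    exact ⟨s, fun a => hs a, fun t ht => huniq t (fun a => ht a)⟩
  · have hbot : iSup W = ⊥ := by
      rw [eq_bot_iff]
      exact iSup_le (fun a => absurd ⟨a⟩ hι)
    have hle : rOpen i hi (iSup W) ≤ complOpen i hi := by
      rw [hbot, rOpen_bot]
    obtain ⟨hu⟩ := hK _ hle
    exact ⟨hu.default, fun a => absurd ⟨a⟩ hι, fun t _ => hu.uniq t⟩

/-- The sheaf `W ↦ K((range i)ᶜ ∪ i(W))` on `Z`, for `K` supported on `Z`. -/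
def rSheaf (K : TopCat.Sheaf C X) (hK : IsSupp i hi K) : TopCat.Sheaf C Z :=
  ⟨rPresheaf i hi K, isSheaf_rPresheaf i hi K hK⟩

/-- The restriction maps `K(V ∪ (range i)ᶜ) ⟶ K(V)`. -/
def pushRSheafHom (K : TopCat.Sheaf C X) (hK : IsSupp i hi K) :
    (TopCat.Sheaf.pushforward C i).obj (rSheaf i hi K hK) ⟶ K where
  hom :=
    { app := fun V => K.obj.map (homOfLE ((gc i hi).le_u_l V.unop)).op
      naturality := fun V V' f => by
        change K.obj.map _ ≫ K.obj.map _ = K.obj.map _ ≫ K.obj.map _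
        rw [← K.obj.map_comp, ← K.obj.map_comp]
        rfl }

lemma bijective_pushRSheafHom_app (K : TopCat.Sheaf C X) (hK : IsSupp i hi K) (V : Opens X) :
    Function.Bijective (K.obj.map (homOfLE ((gc i hi).le_u_l V)).op) := by
  have hcover : rOpen i hi ((Opens.map i).obj V) ≤ V ⊔ complOpen i hi := (rOpen_map i hi V).le
  have i₁ : V ⟶ rOpen i hi ((Opens.map i).obj V) := homOfLE ((gc i hi).le_u_l V)
  have i₂ : complOpen i hi ⟶ rOpen i hi ((Opens.map i).obj V) :=
    homOfLE (complOpen_le_rOpen i hi _)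
  constructor
  · intro s t hst
    refine TopCat.Sheaf.eq_of_locally_eq₂ K (homOfLE ((gc i hi).le_u_l V))
      (homOfLE (complOpen_le_rOpen i hi _)) hcover s t hst ?_
    obtain ⟨hu⟩ := hK (complOpen i hi) le_rfl
    exact (hu.uniq _).trans (hu.uniq _).symm
  · intro s
    obtain ⟨hu⟩ := hK (complOpen i hi) le_rfl
    obtain ⟨hu'⟩ := hK (V ⊓ complOpen i hi) inf_le_right
    obtain ⟨b, hb, -⟩ := exists_glue₂ K (homOfLE ((gc i hi).le_u_l V))
      (homOfLE (complOpen_le_rOpen i hi _)) hcover s hu.default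
      ((hu'.uniq _).trans (hu'.uniq _).symm)
    exact ⟨b, hb⟩

instance isIso_pushRSheafHom (K : TopCat.Sheaf C X) (hK : IsSupp i hi K) :
    IsIso (pushRSheafHom i hi K hK) := by
  haveI : ∀ V, IsIso ((pushRSheafHom i hi K hK).hom.app V) := fun V => by
    have hb := bijective_pushRSheafHom_app i hi K hK V.unop
    haveI : IsIso ((forget C).map ((pushRSheafHom i hi K hK).hom.app V)) :=
      (isIso_iff_bijective _).2 hb
    exact isIso_of_reflects_iso _ (forget C)
  haveI : IsIso (pushRSheafHom i hi K hK).hom := NatIso.isIso_of_isIso_app _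
  exact (isIso_iff_of_reflects_iso _ (sheafToPresheaf _ _)).1 ‹_›

omit [HasLimitsOfSize.{u, u} C] [(forget C).ReflectsIsomorphisms]
  [PreservesLimitsOfSize.{u, u} (forget C)] in
lemma isSupp_of_iso {K K' : TopCat.Sheaf C X} (e : K ≅ K') (hK : IsSupp i hi K) :
    IsSupp i hi K' := by
  intro V hV
  obtain ⟨hu⟩ := hK V hV
  let eV : K.obj.obj (op V) ≅ K'.obj.obj (op V) :=
    ((sheafToPresheaf _ _).mapIso e).app (op V)
  let eq : ToType (K.obj.obj (op V)) ≃ ToType (K'.obj.obj (op V)) :=
    ((forget C).mapIso eV).toEquiv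
  exact ⟨eq.symm.unique⟩

lemma isSupp_pushforward (G : TopCat.Sheaf C Z) :
    IsSupp i hi ((TopCat.Sheaf.pushforward C i).obj G) := by
  intro V hV
  have hbot : (Opens.map i).obj V = ⊥ := by
    rw [eq_bot_iff]
    intro z hz
    exact absurd ⟨z, rfl⟩ (hV hz)
  have hT : IsTerminal (G.obj.obj (op ((Opens.map i).obj V))) :=
    TopCat.Sheaf.isTerminalOfEqEmpty G hbot
  haveI : PreservesLimitsOfSize.{0, 0} (forget C) :=
    preservesLimitsOfSize_shrink.{0, u, 0, u} (forget C)
  have hT' : IsTerminal ((forget C).obj (G.obj.obj (op ((Opens.map i).obj V)))) :=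
    hT.isTerminalObj (forget C) _
  exact ⟨(Types.isTerminalEquivUnique _ hT')⟩

theorem essImage_iff (K : TopCat.Sheaf C X) :
    (TopCat.Sheaf.pushforward C i).essImage K ↔ IsSupp i hi K := by
  constructor
  · rintro ⟨G, ⟨e⟩⟩
    exact isSupp_of_iso i hi e (isSupp_pushforward i hi G)
  · intro hK
    exact ⟨rSheaf i hi K hK, ⟨asIso (pushRSheafHom i hi K hK)⟩⟩

end EssImage

section Stalk

universe w

variable {C : Type w} [Category.{u} C] {FC : C → C → Type*} {CC : C → Type u}
  [∀ X Y, FunLike (FC X Y) (CC X) (CC Y)] [ConcreteCategory.{u} C FC]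
  [HasColimits.{u} C] [HasLimits C] [PreservesLimits (forget C)]
  [(forget C).ReflectsIsomorphisms] [PreservesFilteredColimits (forget C)]

theorem isSupp_iff_stalk (K : TopCat.Sheaf C X) :
    IsSupp i hi K ↔
      ∀ x : X, x ∉ Set.range i → Nonempty (Unique (ToType (K.presheaf.stalk x))) := by
  constructor
  · intro hK x hx
    have hxc : x ∈ complOpen i hi := hx
    obtain ⟨hu⟩ := hK (complOpen i hi) le_rfl
    refine ⟨⟨⟨K.presheaf.germ _ x hxc hu.default⟩, fun t => ?_⟩⟩
    obtain ⟨U, hUc, hxU, s, rfl⟩ := K.presheaf.exists_le_germ_eq t hxc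
    obtain ⟨hu'⟩ := hK U hUc
    refine TopCat.Presheaf.germ_ext K.presheaf U hxU (𝟙 U) (homOfLE hUc) ?_
    exact (hu'.uniq _).trans (hu'.uniq _).symm
  · intro h V hV
    have hsub : ∀ (V' : Opens X), V' ≤ complOpen i hi →
        Subsingleton (ToType (K.obj.obj (op V'))) := by
      intro V' hV'
      refine ⟨fun s t => TopCat.Presheaf.section_ext K V' s t (fun x hx => ?_)⟩
      obtain ⟨hu⟩ := h x (hV' hx)
      exact (hu.uniq _).trans (hu.uniq _).symm
    have hex : ∀ x : V, ∃ (U : Opens X) (_ : U ≤ V) (_ : x.1 ∈ U),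
        Nonempty (ToType (K.obj.obj (op U))) := by
      intro x
      obtain ⟨hu⟩ := h x.1 (hV x.2)
      obtain ⟨U, hUV, hxU, s, -⟩ := K.presheaf.exists_le_germ_eq hu.default x.2
      exact ⟨U, hUV, hxU, ⟨s⟩⟩
    choose Ux hUx hxUx hne using hex
    let sf : ∀ x : V, ToType (K.obj.obj (op (Ux x))) := fun x => (hne x).some
    have hcompat : TopCat.Presheaf.IsCompatible K.obj Ux sf := by
      intro x y
      haveI := hsub (Ux x ⊓ Ux y) (inf_le_left.trans ((hUx x).trans hV))
      exact Subsingleton.elim _ _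
    obtain ⟨s, -, -⟩ := K.existsUnique_gluing' Ux V (fun x => homOfLE (hUx x))
      (fun x hx => Opens.mem_iSup.2 ⟨⟨x, hx⟩, hxUx ⟨x, hx⟩⟩) sf hcompat
    haveI := hsub V hV
    exact ⟨⟨⟨s⟩, fun t => Subsingleton.elim _ _⟩⟩

end Stalk

end Groth.Agent.H45.ClosedEmb
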