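import Groth.Agent.H45.CohTopPushRestr
import Groth.Agent.H42.CohTopLib
import Groth.Prelude.Def_CohCx

/-!
# Pullback along the inclusion of an open subset is restriction

`CohTop.pull (CohCx.incl U) ≅ CohTop.restrFunctor U`, the unit `F ⟶ j_* j⁻¹ F` is an epimorphism
for injective (even flasque) `F`, and `j⁻¹` is exact and preserves injectives.
-/

set_option autoImplicit false
universe u
open CategoryTheory CategoryTheory.Limits Opposite TopologicalSpace

namespace Groth.Agent.H45.CohTopOpenPull

variable {X : TopCat.{u}} (U : Opens X)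

lemma additive_push' {X Y : TopCat.{u}} (f : X ⟶ Y) : (CohTop.push f).Additive := inferInstance

instance additive_push : (CohTop.push (CohCx.incl U)).Additive := additive_push' _

lemma isContinuous_map' {X Y : TopCat.{u}} (f : X ⟶ Y) :
    (Opens.map f).IsContinuous (Opens.grothendieckTopology Y) (Opens.grothendieckTopology X) :=
  inferInstance

/-- restriction to an open is left adjoint to the direct image. -/
noncomputable def restrPushAdj : CohTop.restrFunctor U ⊣ CohTop.push (CohCx.incl U) :=
  haveI H : Topology.IsOpenEmbedding (TopCat.Hom.hom (CohCx.incl U)) := U.isOpenEmbedding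
  haveI := H.functor_isContinuous
  haveI := isContinuous_map' (CohCx.incl U)
  (H.isOpenMap.adjunction).sheafPushforwardContinuous (E := AddCommGrpCat.{u}) _ _

/-- `j⁻¹ ≅ (-)|_U`. -/
noncomputable def pullIsoRestr : CohTop.pull (CohCx.incl U) ≅ CohTop.restrFunctor U :=
  Adjunction.leftAdjointUniq
    (TopCat.Sheaf.pullbackPushforwardAdjunction AddCommGrpCat.{u} (CohCx.incl U)) (restrPushAdj U)

lemma unit_comp (F : CohTop.Ab X) :
    (TopCat.Sheaf.pullbackPushforwardAdjunction AddCommGrpCat.{u} (CohCx.incl U)).unit.app F ≫
      (CohTop.push (CohCx.incl U)).map ((pullIsoRestr U).hom.app F) =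
      (restrPushAdj U).unit.app F :=
  Adjunction.unit_leftAdjointUniq_hom_app _ _ _

lemma epi_restrPushAdj_unit (F : CohTop.Ab X) [TopCat.Sheaf.IsFlasque F] :
    Epi ((restrPushAdj U).unit.app F) := by
  haveI : Sheaf.IsLocallySurjective ((restrPushAdj U).unit.app F) := by
    apply Presheaf.isLocallySurjective_of_surjective
    intro V
    have : Epi (((restrPushAdj U).unit.app F).hom.app V) := by
      change Epi (F.obj.map _)
      infer_instance
    exact (AddCommGrpCat.epi_iff_surjective _).1 this
  exact Sheaf.epi_of_isLocallySurjective _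

lemma epi_unit (F : CohTop.Ab X) [TopCat.Sheaf.IsFlasque F] :
    Epi ((TopCat.Sheaf.pullbackPushforwardAdjunction AddCommGrpCat.{u} (CohCx.incl U)).unit.app F) := by
  haveI := epi_restrPushAdj_unit U F
  have h := unit_comp U F
  rw [← IsIso.eq_comp_inv] at h
  rw [h]
  exact epi_comp' (epi_restrPushAdj_unit U F) inferInstance

lemma epi_unit_of_injective (F : CohTop.Ab X) [Injective F] :
    Epi ((TopCat.Sheaf.pullbackPushforwardAdjunction AddCommGrpCat.{u} (CohCx.incl U)).unit.app F) := by
  haveI := Groth.Agent.H42.CohTopLib.isFlasque_of_injective F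
  exact epi_unit U F

instance preservesFiniteLimits_pull : PreservesFiniteLimits (CohTop.pull (CohCx.incl U)) :=
  preservesFiniteLimits_of_natIso (pullIsoRestr U).symm

instance preservesFiniteColimits_pull : PreservesFiniteColimits (CohTop.pull (CohCx.incl U)) :=
  preservesFiniteColimits_of_natIso (pullIsoRestr U).symm

/-- The adjunction `j⁻¹ ⊣ j_*` with the `CohTop` names. -/
noncomputable abbrev pullPushAdj : CohTop.pull (CohCx.incl U) ⊣ CohTop.push (CohCx.incl U) :=
  TopCat.Sheaf.pullbackPushforwardAdjunction AddCommGrpCat.{u} (CohCx.incl U)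

instance additive_pull : (CohTop.pull (CohCx.incl U)).Additive :=
  (pullPushAdj U).left_adjoint_additive

instance preservesFiniteLimits_push : PreservesFiniteLimits (CohTop.push (CohCx.incl U)) := by
  haveI := (pullPushAdj U).rightAdjoint_preservesLimits
  infer_instance

instance preservesFiniteLimits_pull_push :
    PreservesFiniteLimits (CohTop.pull (CohCx.incl U) ⋙ CohTop.push (CohCx.incl U)) :=
  comp_preservesFiniteLimits _ _

lemma injective_pull (J : CohTop.Ab X) [Injective J] :
    Injective ((CohTop.pull (CohCx.incl U)).obj J) := by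
  haveI := CohTopRestr.injective_restr U J
  exact Injective.of_iso ((pullIsoRestr U).app J).symm inferInstance

end Groth.Agent.H45.CohTopOpenPull
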