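import Groth.Prelude.Def_CohTop
import Groth.Agent.H45.ExtAdjAcy

/-!
# Cohomology of abelian sheaves on topological spaces and direct images

* `preservesFiniteLimits_pull f` : the inverse image functor is exact.
* `pullConstIso f` : `f⁻¹` of a constant sheaf is the constant sheaf.
* `nonempty_H_addEquiv_push` : if `R^q f_* F = 0` for `q > 0` then `H^p(X, F) ≃+ H^p(Y, f_* F)`.
-/

set_option autoImplicit false
universe u
open CategoryTheory TopologicalSpace Opposite CategoryTheory.Limits CategoryTheory.Abelian

namespace Groth.Agent.H45.CohTopPush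

variable {X Y : TopCat.{u}} (f : X ⟶ Y)

theorem preservesFiniteLimits_pull : PreservesFiniteLimits (CohTop.pull f) := by
  change PreservesFiniteLimits ((Opens.map f).sheafPullback AddCommGrpCat.{u}
    (Opens.grothendieckTopology Y) (Opens.grothendieckTopology X))
  exact CategoryTheory.Functor.SmallCategories.instPreservesFiniteLimitsSheafSheafPullbackOfRepresentablyFlat
    _ _ _ _

/-- The adjunction `f⁻¹ ⊣ f_*` of abelian sheaves. -/
noncomputable abbrev pullPushAdj : CohTop.pull f ⊣ CohTop.push f :=
  TopCat.Sheaf.pullbackPushforwardAdjunction AddCommGrpCat.{u} f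

/-- The inverse image of a constant sheaf is a constant sheaf. -/
noncomputable def pullConstIso :
    constantSheaf (Opens.grothendieckTopology Y) AddCommGrpCat.{u} ⋙ CohTop.pull f ≅
      constantSheaf (Opens.grothendieckTopology X) AddCommGrpCat.{u} :=
  (conjugateIsoEquiv
    (constantSheafAdj (Opens.grothendieckTopology X) AddCommGrpCat.{u}
      (Limits.isTerminalTop : IsTerminal (⊤ : Opens X)))
    ((constantSheafAdj (Opens.grothendieckTopology Y) AddCommGrpCat.{u}
      (Limits.isTerminalTop : IsTerminal (⊤ : Opens Y))).comp (pullPushAdj f))).symm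
    (Iso.refl _)

instance : (CohTop.pull f).Additive := (pullPushAdj f).left_adjoint_additive

/-- If `F` is `f_*`-acyclic then `H^p(X, F) ≃+ H^p(Y, f_* F)`. -/
theorem nonempty_H_addEquiv_push (F : CohTop.Ab X)
    (h : ∀ i : ℕ, 0 < i → IsZero (((CohTop.push f).rightDerived i).obj F)) (p : ℕ) :
    Nonempty (CohTop.H F p ≃+ CohTop.H ((CohTop.push f).obj F) p) := by
  haveI := preservesFiniteLimits_pull f
  obtain ⟨e⟩ := ExtAdj.nonempty_ext_addEquiv_of_rightDerived_isZero (pullPushAdj f) F h
    ((constantSheaf (Opens.grothendieckTopology Y) AddCommGrpCat.{u}).obj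
      (AddCommGrpCat.of (ULift ℤ))) p
  exact ⟨(ExtAdj.addEquivOfIsoLeft ((pullConstIso f).app _).symm F p).trans e⟩

end Groth.Agent.H45.CohTopPush
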