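import Mathlib.CategoryTheory.Abelian.RightDerived
import Mathlib.Algebra.Homology.HomologicalComplexAbelian
import Mathlib.Algebra.Homology.ShortComplex.ExactFunctor
import Mathlib.Algebra.Homology.QuasiIso

/-!
# Right derived functors and exact functors

If `E : A ⥤ A'` is exact and preserves injectives, `E' : B ⥤ B'` is exact and
`F ⋙ E' ≅ E ⋙ F'`, then `E' (RⁿF X) ≅ RⁿF' (E X)`.
-/

set_option autoImplicit false
open CategoryTheory CategoryTheory.Limits

namespace Groth.Agent.H45.RDerivedExact

universe v₁ v₂ v₃ v₄ u₁ u₂ u₃ u₄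

variable {A : Type u₁} [Category.{v₁} A] [Abelian A]
  {A' : Type u₂} [Category.{v₂} A'] [Abelian A']
  {B : Type u₃} [Category.{v₃} B] [Abelian B]
  {B' : Type u₄} [Category.{v₄} B'] [Abelian B']

section

variable (E : A ⥤ A') [E.Additive] [PreservesFiniteLimits E] [PreservesFiniteColimits E]

/-- The image of an injective resolution under an exact functor preserving injectives. -/
noncomputable def mapInjectiveResolution (hE : ∀ J : A, Injective J → Injective (E.obj J))
    {X : A} (I : InjectiveResolution X) : InjectiveResolution (E.obj X) where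
  cocomplex := (E.mapHomologicalComplex _).obj I.cocomplex
  injective n := hE _ (I.injective n)
  ι := (HomologicalComplex.singleMapHomologicalComplex E (ComplexShape.up ℕ) 0).inv.app X ≫
    (E.mapHomologicalComplex _).map I.ι
  quasiIso := by
    haveI : QuasiIso ((E.mapHomologicalComplex (ComplexShape.up ℕ)).map I.ι) := inferInstance
    infer_instance

end

variable (F : A ⥤ B) [F.Additive] (F' : A' ⥤ B') [F'.Additive]
  (E : A ⥤ A') [E.Additive] [PreservesFiniteLimits E] [PreservesFiniteColimits E]
  (E' : B ⥤ B') [E'.Additive] [PreservesFiniteLimits E'] [PreservesFiniteColimits E']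
  [HasInjectiveResolutions A] [HasInjectiveResolutions A']

/-- `E' (RⁿF X) ≅ RⁿF' (E X)`. -/
theorem nonempty_rightDerived_iso (hE : ∀ J : A, Injective J → Injective (E.obj J))
    (φ : F ⋙ E' ≅ E ⋙ F') (X : A) (n : ℕ) :
    Nonempty (E'.obj ((F.rightDerived n).obj X) ≅ (F'.rightDerived n).obj (E.obj X)) := by
  let I : InjectiveResolution X := (HasInjectiveResolutions.out X).out.some
  let I' := mapInjectiveResolution E hE I
  -- the complex computing `RⁿF X`
  let K := (F.mapHomologicalComplex (ComplexShape.up ℕ)).obj I.cocomplex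
  let K' := (F'.mapHomologicalComplex (ComplexShape.up ℕ)).obj I'.cocomplex
  have e₁ : (F.rightDerived n).obj X ≅ K.homology n := I.isoRightDerivedObj F n
  have e₂ : (F'.rightDerived n).obj (E.obj X) ≅ K'.homology n := I'.isoRightDerivedObj F' n
  -- `E' K ≅ K'`
  let ψ : (E'.mapHomologicalComplex (ComplexShape.up ℕ)).obj K ≅ K' :=
    HomologicalComplex.Hom.isoOfComponents (fun i => φ.app (I.cocomplex.X i))
      (fun i j _ => by
        dsimp [K, K', I', mapInjectiveResolution]
        exact (φ.hom.naturality (I.cocomplex.d i j)).symm)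
  have e₃ : E'.obj (K.homology n) ≅
      ((E'.mapHomologicalComplex (ComplexShape.up ℕ)).obj K).homology n :=
    ((K.sc n).mapHomologyIso E').symm
  exact ⟨E'.mapIso e₁ ≪≫ e₃ ≪≫
    (HomologicalComplex.homologyFunctor _ _ n).mapIso ψ ≪≫ e₂.symm⟩

end Groth.Agent.H45.RDerivedExact
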