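import Groth.Agent.H45.CohTopRestr2
import Groth.Agent.H45.RDerivedExact

/-!
# Higher direct images commute with restriction to an open subset of the base
-/

set_option autoImplicit false
universe u
open CategoryTheory CategoryTheory.Limits Opposite TopologicalSpace

namespace Groth.Agent.H45.CohTopRestr

variable {X Y : TopCat.{u}} (f : X ⟶ Y) (V : Opens Y)

/-- The restriction of `f` over the open `V`. -/
abbrev gmap : TopCat.of ((Opens.map f).obj V) ⟶ TopCat.of V :=
  TopCat.ofHom ⟨(V : Set Y).restrictPreimage f, f.hom.continuous.restrictPreimage⟩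

lemma opens_eq (W : Opens (TopCat.of V)) :
    (Opens.map f).obj (V.isOpenEmbedding.isOpenMap.functor.obj W) =
      ((Opens.map f).obj V).isOpenEmbedding.isOpenMap.functor.obj
        ((Opens.map (gmap f V)).obj W) := by
  ext x
  constructor
  · rintro ⟨y, hy, hxy⟩
    have hx : x ∈ (Opens.map f).obj V := by
      change f x ∈ V
      rw [← hxy]
      exact y.2
    refine ⟨⟨x, hx⟩, ?_, rfl⟩
    change (⟨f x, hx⟩ : V) ∈ W
    have : (⟨f x, hx⟩ : V) = y := Subtype.ext hxy.symm
    rw [this]
    exact hy
  · rintro ⟨y, hy, rfl⟩
    exact ⟨⟨f y.1, y.2⟩, hy, rfl⟩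

/-- `(f_* G)|_V ≅ g_* (G|_{f⁻¹ V})`, naturally in `G`. -/
noncomputable def pushRestrIso :
    CohTop.push f ⋙ CohTop.restrFunctor V ≅
      CohTop.restrFunctor ((Opens.map f).obj V) ⋙ CohTop.push (gmap f V) :=
  NatIso.ofComponents
    (fun G => (fullyFaithfulSheafToPresheaf _ _).preimageIso
      (NatIso.ofComponents
        (fun W => G.obj.mapIso (eqToIso (congrArg op (opens_eq f V W.unop))))
        (fun {W W'} i => by
          change G.obj.map _ ≫ G.obj.map _ = G.obj.map _ ≫ G.obj.map _
          rw [← Functor.map_comp, ← Functor.map_comp]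
          congr 1)))
    (fun {G G'} φ => by
      apply (fullyFaithfulSheafToPresheaf _ _).map_injective
      apply NatTrans.ext
      funext W
      simp only [Functor.map_comp, Functor.FullyFaithful.preimageIso_hom]
      exact (φ.hom.naturality _).symm)

section

variable {X : TopCat.{u}} (U : Opens X)

instance preservesFiniteLimits_restrFunctor : PreservesFiniteLimits (CohTop.restrFunctor U) := by
  haveI := (extZeroAdj U).rightAdjoint_preservesLimits
  infer_instance

instance preservesFiniteColimits_restrFunctor :
    PreservesFiniteColimits (CohTop.restrFunctor U) := by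
  haveI := preservesFiniteColimits_overPullback (Opens.grothendieckTopology X) U
  change PreservesFiniteColimits ((Opens.grothendieckTopology X).overPullback AddCommGrpCat.{u} U ⋙
    (U.sheafEquivOver (A := AddCommGrpCat.{u})).functor)
  infer_instance

lemma injective_restr (J : CohTop.Ab X) [Injective J] :
    Injective ((CohTop.restrFunctor U).obj J) := by
  haveI := preservesFiniteLimits_extZero U
  haveI : PreservesLimitsOfShape WalkingCospan (extZero U) :=
    (preservesFiniteLimits_extZero U).preservesFiniteLimits WalkingCospan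
  haveI : (extZero U).PreservesMonomorphisms :=
    preservesMonomorphisms_of_preservesLimitsOfShape (extZero U)
  exact Injective.injective_of_adjoint (extZeroAdj U) J

end

/-- `(Rᵖf_* F)|_V ≅ Rᵖg_* (F|_{f⁻¹ V})`. -/
theorem nonempty_restr_Rpush_iso (F : CohTop.Ab X) (p : ℕ) :
    Nonempty (CohTop.restr ((CohTop.Rpush f p).obj F) V ≅
      (CohTop.Rpush (gmap f V) p).obj (CohTop.restr F ((Opens.map f).obj V))) :=
  haveI : (CohTop.push (gmap f V)).Additive := ⟨rfl⟩
  RDerivedExact.nonempty_rightDerived_iso (CohTop.push f) (CohTop.push (gmap f V))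
    (CohTop.restrFunctor ((Opens.map f).obj V)) (CohTop.restrFunctor V)
    (fun J hJ => injective_restr _ J) (pushRestrIso f V) F p

end Groth.Agent.H45.CohTopRestr
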