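import Groth.Agent.H45.OverShriekFree
import Groth.Agent.H45.ExtAdjAcy

/-!
# `H^n(U, F) ≃+ H^n(C/U, F|_U)`
-/

set_option autoImplicit false
universe u
open CategoryTheory CategoryTheory.Limits Opposite CategoryTheory.Abelian

namespace Groth.Agent.H45

variable {C : Type u} [SmallCategory C] (J : GrothendieckTopology C) (U : C)

instance : (J.overPullback AddCommGrpCat.{u} U).Additive where
  map_add := rfl

instance : (overShriek J U).Additive := (overShriekAdj J U).left_adjoint_additive

theorem preservesFiniteLimits_overPullback :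
    PreservesFiniteLimits (J.overPullback AddCommGrpCat.{u} U) := by
  haveI := (overShriekAdj J U).rightAdjoint_preservesLimits
  infer_instance

theorem preservesFiniteColimits_overPullback :
    PreservesFiniteColimits (J.overPullback AddCommGrpCat.{u} U) := by
  haveI := ((Over.forget U).sheafAdjunctionCocontinuous AddCommGrpCat.{u}
    (J.over U) J).leftAdjoint_preservesColimits
  change PreservesFiniteColimits
    ((Over.forget U).sheafPushforwardContinuous AddCommGrpCat.{u} (J.over U) J)
  infer_instance

/-- `Ext^n(ℤ[h_U]^#, F) ≃+ Ext^n(ℤ_{C/U}, F|_U)`. -/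
theorem nonempty_ext_freeSheaf_addEquiv [HasExt.{u} (Sheaf J AddCommGrpCat.{u})]
    [HasExt.{u} (Sheaf (J.over U) AddCommGrpCat.{u})] [EnoughInjectives (Sheaf J AddCommGrpCat.{u})]
    (F : Sheaf J AddCommGrpCat.{u}) (n : ℕ) :
    Nonempty (Ext (freeSheaf J U) F n ≃+ Ext (constZ J U) (F.over U) n) := by
  haveI := preservesFiniteLimits_overShriek J U
  haveI := preservesFiniteLimits_overPullback J U
  haveI := preservesFiniteColimits_overPullback J U
  obtain ⟨e⟩ := ExtAdj.nonempty_ext_addEquiv_of_rightDerived_isZero (overShriekAdj J U) F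
    (fun i hi => ExtAdj.isZero_rightDerived_of_exact (J.overPullback AddCommGrpCat.{u} U) F i hi)
    (constZ J U) n
  exact ⟨(ExtAdj.addEquivOfIsoLeft (freeSheafIsoShriekConst J U) F n).trans e⟩

end Groth.Agent.H45
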