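import Groth.Prelude.Def_CohTop
import Groth.Agent.H45.OverCoh
import Groth.Agent.H45.KInjAdj
import Mathlib.Topology.Sheaves.Over

/-!
# Restriction of abelian sheaves to an open subspace: exact left adjoint (extension by zero)
-/

set_option autoImplicit false
universe u
open CategoryTheory CategoryTheory.Limits Opposite TopologicalSpace

namespace Groth.Agent.H45.CohTopRestr

variable {X : TopCat.{u}} (U : Opens X)

/-- Extension by zero from an open subspace. -/
noncomputable abbrev extZero : CohTop.Ab (TopCat.of U) ⥤ CohTop.Ab X :=
  (U.sheafEquivOver (A := AddCommGrpCat.{u})).inverse ⋙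
    overShriek (Opens.grothendieckTopology X) U

/-- The adjunction `j_! ⊣ j^*` for an open subspace. -/
noncomputable def extZeroAdj : extZero U ⊣ CohTop.restrFunctor U :=
  ((U.sheafEquivOver (A := AddCommGrpCat.{u})).symm.toAdjunction).comp
    (overShriekAdj (Opens.grothendieckTopology X) U)

instance : (extZero U).Additive := (extZeroAdj U).left_adjoint_additive

theorem preservesFiniteLimits_extZero : PreservesFiniteLimits (extZero U) := by
  haveI := preservesFiniteLimits_overShriek (Opens.grothendieckTopology X) U
  infer_instance

theorem preservesFiniteColimits_extZero : PreservesFiniteColimits (extZero U) := by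
  haveI := (extZeroAdj U).leftAdjoint_preservesColimits
  infer_instance

theorem isKInjective_restr (I : CochainComplex (CohTop.Ab X) ℤ) [I.IsKInjective] :
    CochainComplex.IsKInjective
      (((CohTop.restrFunctor U).mapHomologicalComplex (ComplexShape.up ℤ)).obj I) := by
  haveI := preservesFiniteLimits_extZero U
  haveI := preservesFiniteColimits_extZero U
  exact isKInjective_map_of_adj (extZeroAdj U) I

end Groth.Agent.H45.CohTopRestr
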