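import Groth.Agent.H45.CohTopRestr2
import Groth.Agent.H45.AdjDerived
import Groth.Prelude.Def_CohCx
import Mathlib.CategoryTheory.Adjunction.Additive

/-!
# `H^p(U, K) ≃+ H^p(U, K|_U)` for objects of the derived category
-/

set_option autoImplicit false
universe u
open CategoryTheory CategoryTheory.Limits Opposite TopologicalSpace

namespace Groth.Agent.H45.CohTopRestr

variable {X : TopCat.{u}} (U : Opens X)

/-- The free abelian sheaf on the whole space is the constant sheaf `ℤ`. -/
noncomputable def freeSheafTopIsoConstU :
    freeSheaf (Opens.grothendieckTopology (TopCat.of U)) (⊤ : Opens (TopCat.of U)) ≅ constU U :=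
  Coyoneda.ext _ _
    (fun f => (constUHomEquiv U _).symm (freeSheafHomEquiv _ _ _ f))
    (fun f => (freeSheafHomEquiv _ _ _).symm (constUHomEquiv U _ f))
    (fun f => by simp) (fun f => by simp)
    (fun f g => by
      apply (freeSheafHomEquiv _ _ _).injective
      rw [Equiv.apply_symm_apply, freeSheafHomEquiv_naturality, Equiv.apply_symm_apply,
        constUHomEquiv_naturality])

section

variable {C D : Type*} [Category C] [Category D] [Preadditive C] [Preadditive D]

/-- Precomposition with an isomorphism, as an additive equivalence. -/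
def homAddEquivOfIsoLeft {A A' : C} (e : A ≅ A') (B : C) : (A ⟶ B) ≃+ (A' ⟶ B) where
  toFun f := e.inv ≫ f
  invFun f := e.hom ≫ f
  left_inv f := by simp
  right_inv f := by simp
  map_add' f g := by simp

/-- Postcomposition with an isomorphism, as an additive equivalence. -/
def homAddEquivOfIsoRight (A : C) {B B' : C} (e : B ≅ B') : (A ⟶ B) ≃+ (A ⟶ B') where
  toFun f := f ≫ e.hom
  invFun f := f ≫ e.inv
  left_inv f := by simp
  right_inv f := by simp
  map_add' f g := by simp

end

theorem nonempty_HDU_addEquiv
    [HasDerivedCategory.{u} (CohTop.Ab X)] [HasDerivedCategory.{u} (CohTop.Ab (TopCat.of U))]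
    [PreservesFiniteLimits (CohTop.restrFunctor U)] [PreservesFiniteColimits (CohTop.restrFunctor U)]
    (K : DerivedCategory (CohTop.Ab X)) (p : ℤ) :
    Nonempty (CohCx.HDU K p U ≃+
      CohCx.HDU ((CohTop.restrFunctor U).mapDerivedCategory.obj K) p ⊤) := by
  haveI := preservesFiniteLimits_extZero U
  haveI := preservesFiniteColimits_extZero U
  let adjD := adjMapDerivedCategory (extZeroAdj U)
  haveI : (extZero U).mapDerivedCategory.Additive := inferInstance
  -- the source object
  let e₁ : (DerivedCategory.singleFunctor (CohTop.Ab X) 0).obj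
        (freeSheaf (Opens.grothendieckTopology X) U) ≅
      (extZero U).mapDerivedCategory.obj
        ((DerivedCategory.singleFunctor (CohTop.Ab (TopCat.of U)) 0).obj
          (freeSheaf (Opens.grothendieckTopology (TopCat.of U)) (⊤ : Opens (TopCat.of U)))) :=
    (DerivedCategory.singleFunctor (CohTop.Ab X) 0).mapIso (freeSheafIsoExtZeroConst U) ≪≫
      (((extZero U).mapDerivedCategorySingleFunctor 0).app (constU U)).symm ≪≫
      (extZero U).mapDerivedCategory.mapIso
        ((DerivedCategory.singleFunctor (CohTop.Ab (TopCat.of U)) 0).mapIso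
          (freeSheafTopIsoConstU U).symm)
  let e₂ : (CohTop.restrFunctor U).mapDerivedCategory.obj
        ((shiftFunctor (DerivedCategory (CohTop.Ab X)) p).obj K) ≅
      (shiftFunctor (DerivedCategory (CohTop.Ab (TopCat.of U))) p).obj
        ((CohTop.restrFunctor U).mapDerivedCategory.obj K) :=
    ((CohTop.restrFunctor U).mapDerivedCategory.commShiftIso p).app K
  exact ⟨(homAddEquivOfIsoLeft e₁ _).trans ((adjD.homAddEquiv _ _).trans
    (homAddEquivOfIsoRight _ e₂))⟩

end Groth.Agent.H45.CohTopRestr
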