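import Groth.Agent.H45.DeltaIso
import Mathlib.Algebra.Homology.HomologySequenceLemmas

/-!
# Helper library (helper45): the delta-functor of an exact complex-valued functor

For an additive functor `K : A ⥤ CochainComplex B ℕ` sending short exact sequences to short exact
sequences of complexes, the functors `H^n ∘ K` form a cohomological delta-functor `complexDelta K hK`.
If moreover `H^{n+1}(K I) = 0` for `I` injective, then `H^n ∘ K ≅ R^n(H^0 ∘ K)` as functors.
-/

set_option autoImplicit false
universe v v' u u'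
open CategoryTheory CategoryTheory.Limits Opposite

namespace Groth.Agent.H45.ComplexDelta

variable {A : Type u} [Category.{v} A] [Abelian A] {B : Type u'} [Category.{v'} B] [Abelian B]

/-- The delta-functor `n ↦ H^n ∘ K`. -/
noncomputable def complexDelta (K : A ⥤ CochainComplex B ℕ) [K.Additive]
    (hK : ∀ S : ShortComplex A, S.ShortExact → (S.map K).ShortExact) :
    DeltaF.CohDeltaFunctor A B ℕ where
  F n := K ⋙ HomologicalComplex.homologyFunctor B (ComplexShape.up ℕ) n
  additive n := inferInstance
  δ S hS n₀ n₁ h := (hK S hS).δ n₀ n₁ h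
  δ_natural {S S'} hS hS' φ n₀ n₁ h :=
    (HomologicalComplex.HomologySequence.δ_naturality (K.mapShortComplex.map φ) (hK S hS)
      (hK S' hS') n₀ n₁ h).symm
  exact₂ S hS n := (hK S hS).homology_exact₂ n
  comp_δ S hS n₀ n₁ h := (hK S hS).comp_δ n₀ n₁ h
  exact₃ S hS n₀ n₁ h := (hK S hS).homology_exact₃ n₀ n₁ h
  δ_comp S hS n₀ n₁ h := (hK S hS).δ_comp n₀ n₁ h
  exact₁ S hS n₀ n₁ h := (hK S hS).homology_exact₁ n₀ n₁ h

@[simp] lemma complexDelta_F (K : A ⥤ CochainComplex B ℕ) [K.Additive]
    (hK : ∀ S : ShortComplex A, S.ShortExact → (S.map K).ShortExact) (n : ℕ) :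
    (complexDelta K hK).F n = K ⋙ HomologicalComplex.homologyFunctor B (ComplexShape.up ℕ) n := rfl

lemma complexDelta_isEffaceable [EnoughInjectives A] (K : A ⥤ CochainComplex B ℕ) [K.Additive]
    (hK : ∀ S : ShortComplex A, S.ShortExact → (S.map K).ShortExact)
    (hI : ∀ (I : A), Injective I → ∀ n : ℕ, IsZero ((K.obj I).homology (n + 1))) :
    (complexDelta K hK).IsEffaceable := by
  intro n X
  exact ⟨Injective.under X, Injective.ι X, inferInstance,
    (hI (Injective.under X) inferInstance n).eq_of_tgt _ _⟩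

end Groth.Agent.H45.ComplexDelta
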