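import Mathlib.CategoryTheory.Adjunction.FullyFaithful

/-!
# A right adjoint of a fully faithful right adjoint, from a coreflection onto its essential image

Let `adj : Li ⊣ Ri` with `Ri` fully faithful, and let `α : Γ ⟶ 𝟭` be such that every `α_F` is a
monomorphism through which every map `Ri G ⟶ F` factors, and such that the unit of `adj` is an
isomorphism on the objects `Γ F`. Then `Ri ⊣ Γ ⋙ Li`.
-/

set_option autoImplicit false
universe v₁ v₂ u₁ u₂
open CategoryTheory

namespace Groth.Agent.H45.CoreflAdj

variable {A : Type u₁} [Category.{v₁} A] {B : Type u₂} [Category.{v₂} B]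
  {Li : A ⥤ B} {Ri : B ⥤ A} (adj : Li ⊣ Ri) [Ri.Full] [Ri.Faithful]
  (Γ : A ⥤ A) (α : Γ ⟶ 𝟭 A) [∀ F, Mono (α.app F)]
  (hlift : ∀ (G : B) (F : A) (f : Ri.obj G ⟶ F), ∃ g : Ri.obj G ⟶ Γ.obj F, g ≫ α.app F = f)
  (hη : ∀ F, IsIso (adj.unit.app (Γ.obj F)))

include hlift in
/-- The factorization through `Γ F`. -/
noncomputable def lift {G : B} {F : A} (f : Ri.obj G ⟶ F) : Ri.obj G ⟶ Γ.obj F :=
  (hlift G F f).choose

@[reassoc (attr := simp)]
lemma lift_α {G : B} {F : A} (f : Ri.obj G ⟶ F) : lift Γ α hlift f ≫ α.app F = f :=
  (hlift G F f).choose_spec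

lemma lift_eq {G : B} {F : A} (f : Ri.obj G ⟶ F) (g : Ri.obj G ⟶ Γ.obj F)
    (h : g ≫ α.app F = f) : lift Γ α hlift f = g := by
  rw [← cancel_mono (α.app F), lift_α, h]

include adj in
lemma map_inv_counit (G : B) : Ri.map (inv (adj.counit.app G)) = adj.unit.app (Ri.obj G) := by
  rw [Functor.map_inv, IsIso.inv_eq_of_inv_hom_id]
  exact adj.right_triangle_components G

lemma map_inv_unit (F : A) [IsIso (adj.unit.app F)] :
    Li.map (inv (adj.unit.app F)) = adj.counit.app (Li.obj F) := by
  rw [Functor.map_inv, IsIso.inv_eq_of_hom_inv_id]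
  exact adj.left_triangle_components F

/-- The adjunction `Ri ⊣ Γ ⋙ Li`. -/
noncomputable def coreflAdj : Ri ⊣ Γ ⋙ Li :=
  Adjunction.mkOfHomEquiv
    { homEquiv := fun G F =>
        { toFun := fun f => inv (adj.counit.app G) ≫ Li.map (lift Γ α hlift f)
          invFun := fun h =>
            haveI := hη F
            Ri.map h ≫ inv (adj.unit.app (Γ.obj F)) ≫ α.app F
          left_inv := fun f => by
            haveI := hη F
            dsimp only
            rw [Functor.map_comp, map_inv_counit adj, Category.assoc,
              ← Functor.comp_map, ← adj.unit.naturality_assoc, Functor.id_map,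
              IsIso.hom_inv_id_assoc, lift_α]
          right_inv := fun h => by
            haveI := hη F
            dsimp only
            have e : (Ri ⋙ Li).map h ≫ adj.counit.app (Li.obj (Γ.obj F)) =
                adj.counit.app G ≫ h := adj.counit.naturality h
            rw [lift_eq Γ α hlift _ (Ri.map h ≫ inv (adj.unit.app (Γ.obj F)))
              (by rw [Category.assoc]), Functor.map_comp, map_inv_unit adj,
              ← Functor.comp_map, e, IsIso.inv_hom_id_assoc] }
      homEquiv_naturality_left_symm := fun g h => by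
        dsimp
        rw [Functor.map_comp, Category.assoc]
      homEquiv_naturality_right := fun {G F F'} f φ => by
        dsimp
        rw [lift_eq Γ α hlift (f ≫ φ) (lift Γ α hlift f ≫ Γ.map φ)
          (by rw [Category.assoc, α.naturality, Functor.id_map, lift_α_assoc]),
          Functor.map_comp, Category.assoc] }

end Groth.Agent.H45.CoreflAdj
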