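import Groth.Agent.H45.ComplexDelta
import Mathlib.AlgebraicTopology.AlternatingFaceMapComplex
import Mathlib.AlgebraicTopology.SimplexCategory.Basic

/-!
# Helper library (helper45): cosimplicial objects, décalage and the coface complex

* `shift : SimplexCategory ⥤ SimplexCategory`, `⦋n⦌ ↦ ⦋n+1⦌` (adjoin a new least element),
  with `shiftι : 𝟭 ⟶ shift` given by `δ 0`.
* `dec F = shift ⋙ F` (décalage of a cosimplicial object) and `decι F : F ⟶ dec F`, a
  monomorphism; the coface complex of `dec F` is exact in positive degrees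
  (`isZero_homology_dec`).
-/

set_option autoImplicit false
universe v u
open CategoryTheory CategoryTheory.Limits Opposite Simplicial

namespace Groth.Agent.H45.Cosimp

/-- Adjoin a new least element. -/
def shiftFun {n m : ℕ} (f : Fin (n + 1) →o Fin (m + 1)) : Fin (n + 2) →o Fin (m + 2) where
  toFun := Fin.cases 0 (fun i => (f i).succ)
  monotone' := by
    intro a b hab
    induction a using Fin.cases with
    | zero => exact Fin.zero_le _
    | succ a =>
      induction b using Fin.cases with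
      | zero => exact absurd hab (by simp)
      | succ b =>
        simp only [Fin.cases_succ, Fin.succ_le_succ_iff]
        exact f.monotone (Fin.succ_le_succ_iff.mp hab)

@[simp] lemma shiftFun_zero {n m : ℕ} (f : Fin (n + 1) →o Fin (m + 1)) : shiftFun f 0 = 0 := rfl

@[simp] lemma shiftFun_succ {n m : ℕ} (f : Fin (n + 1) →o Fin (m + 1)) (i : Fin (n + 1)) :
    shiftFun f i.succ = (f i).succ := by
  change Fin.cases (motive := fun _ => Fin (m + 2)) 0 (fun i => (f i).succ) i.succ = _
  simp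

/-- The endofunctor `⦋n⦌ ↦ ⦋n+1⦌` of the simplex category. -/
def shift : SimplexCategory ⥤ SimplexCategory where
  obj X := ⦋X.len + 1⦌
  map {X Y} θ := SimplexCategory.Hom.mk (shiftFun θ.toOrderHom)
  map_id X := by
    ext i : 3
    induction i using Fin.cases with
    | zero => rfl
    | succ i => simp
  map_comp {X Y Z} f g := by
    ext i : 3
    induction i using Fin.cases with
    | zero => rfl
    | succ i => simp

lemma shiftFun_succAbove {n : ℕ} (i : Fin (n + 2)) :
    shiftFun (Fin.succAboveOrderEmb i).toOrderHom = (Fin.succAboveOrderEmb i.succ).toOrderHom := by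
  apply OrderHom.ext
  funext j
  induction j using Fin.cases with
  | zero =>
    rw [shiftFun_zero]
    exact (Fin.succ_succAbove_zero i).symm
  | succ j =>
    rw [shiftFun_succ]
    exact (Fin.succ_succAbove_succ i j).symm

lemma shift_map_δ {n : ℕ} (i : Fin (n + 2)) :
    shift.map (SimplexCategory.δ i) = SimplexCategory.δ i.succ :=
  SimplexCategory.Hom.ext _ _ (shiftFun_succAbove i)

/-- `δ 0 : ⦋n⦌ ⟶ ⦋n+1⦌` as a natural transformation. -/
def shiftι : 𝟭 SimplexCategory ⟶ shift where
  app X := (SimplexCategory.δ (0 : Fin (X.len + 2)) : ⦋X.len⦌ ⟶ ⦋X.len + 1⦌)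
  naturality {X Y} θ := by
    ext i : 3
    change (0 : Fin (Y.len + 2)).succAbove (θ.toOrderHom i) =
      shiftFun θ.toOrderHom ((0 : Fin (X.len + 2)).succAbove i)
    rw [Fin.succAbove_zero, Fin.succAbove_zero, shiftFun_succ]

/-- `σ 0 : ⦋n+1⦌ ⟶ ⦋n⦌`. -/
def shiftσ (X : SimplexCategory) : shift.obj X ⟶ X :=
  (SimplexCategory.σ (0 : Fin (X.len + 1)) : ⦋X.len + 1⦌ ⟶ ⦋X.len⦌)

lemma shiftι_σ (X : SimplexCategory) : shiftι.app X ≫ shiftσ X = 𝟙 X :=
  SimplexCategory.δ_comp_σ_self (i := (0 : Fin (X.len + 1)))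

section Dec

variable {B : Type u} [Category.{v} B]

/-- The décalage of a cosimplicial object. -/
abbrev dec (F : SimplexCategory ⥤ B) : SimplexCategory ⥤ B := shift ⋙ F

/-- The canonical map `F ⟶ dec F` given by the cofaces `δ 0`. -/
def decι (F : SimplexCategory ⥤ B) : F ⟶ dec F where
  app X := F.map (shiftι.app X)
  naturality {X Y} θ := by
    change F.map θ ≫ F.map (shiftι.app Y) = F.map (shiftι.app X) ≫ F.map (shift.map θ)
    rw [← F.map_comp, ← F.map_comp]
    exact congrArg F.map (shiftι.naturality θ)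

instance (F : SimplexCategory ⥤ B) (X : SimplexCategory) : IsSplitMono ((decι F).app X) :=
  IsSplitMono.mk' ⟨F.map (shiftσ X),
    (F.map_comp _ _).symm.trans ((congrArg F.map (shiftι_σ X)).trans (F.map_id X))⟩

lemma dec_map_δ (F : SimplexCategory ⥤ B) {n : ℕ} (i : Fin (n + 2)) :
    (dec F).map (SimplexCategory.δ i) = F.map (SimplexCategory.δ i.succ) :=
  congrArg F.map (shift_map_δ i)

end Dec

section Exact

open AlgebraicTopology

variable {B : Type u} [Category.{v} B]

/-- The contracting homotopy of the coface complex of `dec F`: the codegeneracy `σ 0`. -/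
def decH (F : SimplexCategory ⥤ B) (n : ℕ) : (dec F).obj ⦋n + 1⦌ ⟶ (dec F).obj ⦋n⦌ :=
  F.map (shiftσ ⦋n + 1⦌)

lemma decH_zero (F : SimplexCategory ⥤ B) (n : ℕ) :
    (dec F).map (SimplexCategory.δ (0 : Fin (n + 3))) ≫ decH F (n + 1) = 𝟙 _ := by
  rw [dec_map_δ]
  refine (F.map_comp _ _).symm.trans (Eq.trans (congrArg F.map ?_) (F.map_id _))
  exact SimplexCategory.δ_comp_σ_succ (i := (0 : Fin (n + 3)))

lemma decH_succ (F : SimplexCategory ⥤ B) (n : ℕ) (j : Fin (n + 2)) :
    (dec F).map (SimplexCategory.δ j.succ) ≫ decH F (n + 1) =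
      decH F n ≫ (dec F).map (SimplexCategory.δ j) := by
  rw [dec_map_δ, dec_map_δ]
  refine (F.map_comp _ _).symm.trans (Eq.trans (congrArg F.map ?_) (F.map_comp _ _))
  have := SimplexCategory.δ_comp_σ_of_gt (n := n + 1) (i := j.succ) (j := (0 : Fin (n + 2)))
    (by simp)
  rw [Fin.castSucc_zero] at this
  exact this

lemma decH_spec [Preadditive B] (F : SimplexCategory ⥤ B) (n : ℕ) :
    AlternatingCofaceMapComplex.objD (dec F) (n + 1) ≫ decH F (n + 1) +
      decH F n ≫ AlternatingCofaceMapComplex.objD (dec F) n = 𝟙 _ := by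
  dsimp only [AlternatingCofaceMapComplex.objD]
  rw [Preadditive.sum_comp, Preadditive.comp_sum, Fin.sum_univ_succ]
  have h0 : ((-1 : ℤ) ^ ((0 : Fin (n + 3)) : ℕ) •
      CosimplicialObject.δ (dec F) (0 : Fin (n + 3))) ≫ decH F (n + 1) = 𝟙 _ := by
    rw [Fin.val_zero, pow_zero, one_smul]
    exact decH_zero F n
  have hs : ∀ j : Fin (n + 2), ((-1 : ℤ) ^ ((j.succ : Fin (n + 3)) : ℕ) •
      CosimplicialObject.δ (dec F) j.succ) ≫ decH F (n + 1) =
      - (decH F n ≫ ((-1 : ℤ) ^ (j : ℕ) • CosimplicialObject.δ (dec F) j)) := by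
    intro j
    rw [Fin.val_succ, pow_succ, mul_neg_one, neg_smul, Preadditive.neg_comp,
      Preadditive.zsmul_comp, Preadditive.comp_zsmul]
    congr 2
    exact decH_succ F n j
  rw [h0]
  simp_rw [hs]
  rw [Finset.sum_neg_distrib]
  abel

lemma isZero_homology_dec [Abelian B] (F : SimplexCategory ⥤ B) (n : ℕ) :
    IsZero (((alternatingCofaceMapComplex B).obj (dec F)).homology (n + 1)) := by
  set K := (alternatingCofaceMapComplex B).obj (dec F) with hK
  have hd : ∀ m, K.d m (m + 1) = AlternatingCofaceMapComplex.objD (dec F) m :=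
    fun m => by
      change CochainComplex.of.d _ (AlternatingCofaceMapComplex.objD (dec F)) m (m + 1) = _
      exact CochainComplex.of_d _ _ m
  rw [← HomologicalComplex.exactAt_iff_isZero_homology,
    HomologicalComplex.exactAt_iff' K n (n + 1) (n + 2) (by simp) (by simp),
    ShortComplex.exact_iff_exact_up_to_refinements]
  intro A (x₂ : A ⟶ (dec F).obj ⦋n + 1⦌) hx₂
  have h1 : x₂ ≫ AlternatingCofaceMapComplex.objD (dec F) (n + 1) = 0 := by
    rw [← hd (n + 1)]
    exact hx₂
  have h2 := decH_spec F n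
  have h3 : x₂ = (x₂ ≫ decH F n) ≫ AlternatingCofaceMapComplex.objD (dec F) n := by
    calc x₂ = x₂ ≫ 𝟙 _ := (Category.comp_id _).symm
      _ = x₂ ≫ (AlternatingCofaceMapComplex.objD (dec F) (n + 1) ≫ decH F (n + 1) +
            decH F n ≫ AlternatingCofaceMapComplex.objD (dec F) n) := by rw [h2]
      _ = _ := by
        rw [Preadditive.comp_add, reassoc_of% h1, zero_comp, zero_add, Category.assoc]
  exact ⟨A, 𝟙 A, inferInstance, x₂ ≫ decH F n, (Category.id_comp _).trans
    (h3.trans (congrArg (fun z => (x₂ ≫ decH F n) ≫ z) (hd n).symm))⟩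

end Exact

section Lim

open AlgebraicTopology

variable {B : Type u} [Category.{v} B] [Abelian B]

/-- The coface complex. -/
abbrev cx (F : SimplexCategory ⥤ B) : CochainComplex B ℕ := (alternatingCofaceMapComplex B).obj F

lemma cx_d (F : SimplexCategory ⥤ B) (m : ℕ) :
    (cx F).d m (m + 1) = AlternatingCofaceMapComplex.objD F m := by
  change CochainComplex.of.d _ (AlternatingCofaceMapComplex.objD F) m (m + 1) = _
  exact CochainComplex.of_d _ _ m

/-- The inclusion of the `0`-cocycles, with target written as `F.obj ⦋0⦌`. -/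
noncomputable def ι (F : SimplexCategory ⥤ B) : (cx F).cycles 0 ⟶ F.obj ⦋0⦌ := (cx F).iCycles 0

instance (F : SimplexCategory ⥤ B) : Mono (ι F) :=
  inferInstanceAs (Mono ((cx F).iCycles 0))

lemma ι_δ (F : SimplexCategory ⥤ B) :
    ι F ≫ F.map (SimplexCategory.δ (0 : Fin 2)) = ι F ≫ F.map (SimplexCategory.δ (1 : Fin 2)) := by
  have h : ι F ≫ AlternatingCofaceMapComplex.objD F 0 = 0 := by
    rw [← cx_d]
    exact (cx F).iCycles_d 0 1
  dsimp only [AlternatingCofaceMapComplex.objD] at h
  rw [Fin.sum_univ_two] at h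
  simp only [Fin.val_zero, pow_zero, one_smul, Fin.val_one, pow_one, neg_smul,
    Preadditive.comp_add, Preadditive.comp_neg] at h
  exact eq_of_sub_eq_zero (by rw [sub_eq_add_neg]; exact h)

lemma δ_one_comp_mkOfLe {n : ℕ} (i j : Fin (n + 1)) (h : i ≤ j) :
    SimplexCategory.δ (1 : Fin 2) ≫ SimplexCategory.mkOfLe i j h =
      SimplexCategory.const ⦋0⦌ ⦋n⦌ i := by
  ext k : 3
  obtain rfl : k = 0 := Subsingleton.elim (α := Fin 1) _ _
  rfl

lemma δ_zero_comp_mkOfLe {n : ℕ} (i j : Fin (n + 1)) (h : i ≤ j) :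
    SimplexCategory.δ (0 : Fin 2) ≫ SimplexCategory.mkOfLe i j h =
      SimplexCategory.const ⦋0⦌ ⦋n⦌ j := by
  ext k : 3
  obtain rfl : k = 0 := Subsingleton.elim (α := Fin 1) _ _
  rfl

lemma ι_const_of_le (F : SimplexCategory ⥤ B) {n : ℕ} (i j : Fin (n + 1)) (h : i ≤ j) :
    ι F ≫ F.map (SimplexCategory.const ⦋0⦌ ⦋n⦌ i) =
      ι F ≫ F.map (SimplexCategory.const ⦋0⦌ ⦋n⦌ j) := by
  rw [← δ_one_comp_mkOfLe i j h, ← δ_zero_comp_mkOfLe i j h, F.map_comp, F.map_comp,
    ← Category.assoc, ← Category.assoc, ι_δ]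

lemma ι_const (F : SimplexCategory ⥤ B) {n : ℕ} (i j : Fin (n + 1)) :
    ι F ≫ F.map (SimplexCategory.const ⦋0⦌ ⦋n⦌ i) =
      ι F ≫ F.map (SimplexCategory.const ⦋0⦌ ⦋n⦌ j) := by
  rcases le_total i j with h | h
  · exact ι_const_of_le F i j h
  · exact (ι_const_of_le F j i h).symm

/-- The cone over `F` with apex the `0`-cocycles of the coface complex. -/
noncomputable def limCone (F : SimplexCategory ⥤ B) : Cone F where
  pt := (cx F).cycles 0
  π :=
    { app := fun X => ι F ≫ F.map (SimplexCategory.const ⦋0⦌ X 0)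
      naturality := fun X Y θ => by
        change 𝟙 _ ≫ ι F ≫ F.map (SimplexCategory.const ⦋0⦌ Y 0) =
          (ι F ≫ F.map (SimplexCategory.const ⦋0⦌ X 0)) ≫ F.map θ
        rw [Category.id_comp, Category.assoc, ← F.map_comp, SimplexCategory.const_comp]
        exact ι_const F (n := Y.len) _ _ }

lemma limCone_π_zero (F : SimplexCategory ⥤ B) : (limCone F).π.app ⦋0⦌ = ι F := by
  change ι F ≫ F.map (SimplexCategory.const ⦋0⦌ ⦋0⦌ 0) = ι F
  rw [SimplexCategory.const_eq_id, F.map_id, Category.comp_id]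

omit [Abelian B] in
lemma cone_w_zero (F : SimplexCategory ⥤ B) (s : Cone F) (X : SimplexCategory) :
    s.π.app ⦋0⦌ ≫ F.map (SimplexCategory.const ⦋0⦌ X 0) = s.π.app X := s.w _

lemma cone_π_d (F : SimplexCategory ⥤ B) (s : Cone F) :
    s.π.app ⦋0⦌ ≫ AlternatingCofaceMapComplex.objD F 0 = 0 := by
  dsimp only [AlternatingCofaceMapComplex.objD]
  rw [Fin.sum_univ_two]
  simp only [Fin.val_zero, pow_zero, one_smul, Fin.val_one, pow_one, neg_smul,
    Preadditive.comp_add, Preadditive.comp_neg]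
  have h0 : s.π.app ⦋0⦌ ≫ CosimplicialObject.δ F (0 : Fin 2) = s.π.app ⦋1⦌ := s.w _
  have h1 : s.π.app ⦋0⦌ ≫ CosimplicialObject.δ F (1 : Fin 2) = s.π.app ⦋1⦌ := s.w _
  rw [h0, h1, add_neg_cancel]

/-- The lift of a cone to the cocycles. -/
noncomputable def limLift (F : SimplexCategory ⥤ B) (s : Cone F) : s.pt ⟶ (cx F).cycles 0 :=
  (cx F).liftCycles (s.π.app ⦋0⦌) 1 (by simp) (by
    rw [cx_d]
    exact cone_π_d F s)

lemma limLift_ι (F : SimplexCategory ⥤ B) (s : Cone F) : limLift F s ≫ ι F = s.π.app ⦋0⦌ :=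
  (cx F).liftCycles_i _ _ _ _

/-- The cocycle cone is a limit cone. -/
noncomputable def limConeIsLimit (F : SimplexCategory ⥤ B) : IsLimit (limCone F) where
  lift s := limLift F s
  fac s X := by
    change limLift F s ≫ ι F ≫ F.map (SimplexCategory.const ⦋0⦌ X 0) = s.π.app X
    rw [← Category.assoc, limLift_ι, cone_w_zero]
  uniq s m hm := by
    have h1 : (m : s.pt ⟶ (cx F).cycles 0) ≫ ι F = limLift F s ≫ ι F := by
      rw [limLift_ι, ← hm ⦋0⦌, limCone_π_zero]
    exact (cancel_mono (ι F)).1 h1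

variable [HasLimitsOfShape SimplexCategory B]

/-- `lim F ≅ Z⁰` of the coface complex. -/
noncomputable def limIsoCycles (F : SimplexCategory ⥤ B) : limit F ≅ (cx F).cycles 0 :=
  (limit.isLimit F).conePointUniqueUpToIso (limConeIsLimit F)

lemma limIsoCycles_hom_ι (F : SimplexCategory ⥤ B) :
    (limIsoCycles F).hom ≫ ι F = limit.π F ⦋0⦌ := by
  have := (limit.isLimit F).conePointUniqueUpToIso_hom_comp (limConeIsLimit F) ⦋0⦌
  rw [limCone_π_zero] at this
  exact this

omit [HasLimitsOfShape SimplexCategory B] in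
lemma cyclesMap_ι {F G : SimplexCategory ⥤ B} (φ : F ⟶ G) :
    HomologicalComplex.cyclesMap ((alternatingCofaceMapComplex B).map φ) 0 ≫ ι G =
      ι F ≫ φ.app ⦋0⦌ :=
  HomologicalComplex.cyclesMap_i _ 0

/-- `lim ≅ H⁰` of the coface complex, as functors. -/
noncomputable def limIso :
    (lim : (SimplexCategory ⥤ B) ⥤ B) ≅
      alternatingCofaceMapComplex B ⋙ HomologicalComplex.homologyFunctor B (ComplexShape.up ℕ) 0 :=
  NatIso.ofComponents (fun F => limIsoCycles F ≪≫ (cx F).isoHomologyπ₀) (fun {F G} φ => by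
    change limMap φ ≫ (limIsoCycles G).hom ≫ (cx G).homologyπ 0 =
      ((limIsoCycles F).hom ≫ (cx F).homologyπ 0) ≫
        HomologicalComplex.homologyMap ((alternatingCofaceMapComplex B).map φ) 0
    rw [Category.assoc, HomologicalComplex.homologyπ_naturality, ← Category.assoc, ← Category.assoc]
    congr 1
    rw [← cancel_mono (ι G), Category.assoc, Category.assoc, cyclesMap_ι, limIsoCycles_hom_ι,
      ← Category.assoc, limIsoCycles_hom_ι, limMap_π])

end Lim

section Main

open AlgebraicTopology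

variable {B : Type u} [Category.{v} B] [Abelian B]

/-- The coface complex functor, with source written as a functor category. -/
def cofaceCx : (SimplexCategory ⥤ B) ⥤ CochainComplex B ℕ := alternatingCofaceMapComplex B

instance : (cofaceCx (B := B)).Additive where
  map_add {F G φ ψ} := by
    ext n
    rfl

lemma shortExact_map (S : ShortComplex (SimplexCategory ⥤ B)) (hS : S.ShortExact) :
    (S.map (cofaceCx (B := B))).ShortExact := by
  apply HomologicalComplex.shortExact_of_degreewise_shortExact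
  intro n
  exact hS.map_of_exact ((evaluation SimplexCategory B).obj ⦋n⦌)

/-- The delta-functor `n ↦ H^n` of the coface complex. -/
noncomputable def cofaceDelta : DeltaF.CohDeltaFunctor (SimplexCategory ⥤ B) B ℕ :=
  ComplexDelta.complexDelta (cofaceCx (B := B)) shortExact_map

lemma cofaceDelta_isEffaceable : (cofaceDelta (B := B)).IsEffaceable := by
  intro n F
  have : Mono (decι F) := NatTrans.mono_of_mono_app _
  have hz : IsZero ((cofaceDelta.F (n + 1)).obj (dec F)) := isZero_homology_dec F n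
  exact ⟨dec F, decι F, this, hz.eq_of_tgt _ _⟩

theorem main [HasLimitsOfShape SimplexCategory B] [HasInjectiveResolutions (SimplexCategory ⥤ B)]
    [(lim : (SimplexCategory ⥤ B) ⥤ B).Additive] (F : SimplexCategory ⥤ B) (n : ℕ) :
    Nonempty (((lim : (SimplexCategory ⥤ B) ⥤ B).rightDerived n).obj F ≅
      ((alternatingCofaceMapComplex B).obj F).homology n) := by
  have e₀ : (lim : (SimplexCategory ⥤ B) ⥤ B) ≅ (cofaceDelta (B := B)).F 0 := limIso
  obtain ⟨e⟩ := DeltaIso.nonempty_rightDerived_iso' (lim : (SimplexCategory ⥤ B) ⥤ B)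
    cofaceDelta cofaceDelta_isEffaceable e₀ n
  exact ⟨e.app F⟩

end Main

end Groth.Agent.H45.Cosimp
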