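import Groth.Agent.H45.DeltaIso

/-!
# Helper library (helper45): precomposing a delta-functor with an exact functor; isomorphism of
effaceable delta-functors from an isomorphism in degree zero.
-/

set_option autoImplicit false
universe v v' v'' u u' u''
open CategoryTheory CategoryTheory.Limits Opposite

namespace Groth.Agent.H45.DeltaIso

variable {A' : Type u''} [Category.{v''} A'] [Abelian A']
  {A : Type u} [Category.{v} A] [Abelian A] {B : Type u'} [Category.{v'} B] [Abelian B]

/-- Precomposition of a delta-functor with an exact functor. -/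
noncomputable def precompDelta (G : A' ⥤ A) [G.Additive] [PreservesFiniteLimits G]
    [PreservesFiniteColimits G] (T : DeltaF.CohDeltaFunctor A B ℕ) :
    DeltaF.CohDeltaFunctor A' B ℕ where
  F n := G ⋙ T.F n
  additive n := inferInstance
  δ S hS n₀ n₁ h := T.δ (S.map G) (hS.map_of_exact G) n₀ n₁ h
  δ_natural {S S'} hS hS' φ n₀ n₁ h :=
    T.δ_natural (hS.map_of_exact G) (hS'.map_of_exact G) (G.mapShortComplex.map φ) n₀ n₁ h
  exact₂ S hS n := T.exact₂ (S.map G) (hS.map_of_exact G) n
  comp_δ S hS n₀ n₁ h := T.comp_δ (S.map G) (hS.map_of_exact G) n₀ n₁ h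
  exact₃ S hS n₀ n₁ h := T.exact₃ (S.map G) (hS.map_of_exact G) n₀ n₁ h
  δ_comp S hS n₀ n₁ h := T.δ_comp (S.map G) (hS.map_of_exact G) n₀ n₁ h
  exact₁ S hS n₀ n₁ h := T.exact₁ (S.map G) (hS.map_of_exact G) n₀ n₁ h

@[simp] lemma precompDelta_F (G : A' ⥤ A) [G.Additive] [PreservesFiniteLimits G]
    [PreservesFiniteColimits G] (T : DeltaF.CohDeltaFunctor A B ℕ) (n : ℕ) :
    (precompDelta G T).F n = G ⋙ T.F n := rfl

/-- A delta-functor vanishing on injectives in positive degrees is effaceable. -/
lemma isEffaceable_of_isZero_injective [EnoughInjectives A] (T : DeltaF.CohDeltaFunctor A B ℕ)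
    (h : ∀ (n : ℕ) (I : A), Injective I → IsZero ((T.F (n + 1)).obj I)) : T.IsEffaceable := by
  intro n X
  exact ⟨Injective.under X, Injective.ι X, inferInstance,
    (h n (Injective.under X) inferInstance).eq_of_tgt _ _⟩

/-- Two effaceable delta-functors with isomorphic degree zero parts are isomorphic in all degrees. -/
theorem nonempty_iso_of_effaceable (T T' : DeltaF.CohDeltaFunctor A B ℕ) (hT : T.IsEffaceable)
    (hT' : T'.IsEffaceable) (e : T.F 0 ≅ T'.F 0) (q : ℕ) : Nonempty (T.F q ≅ T'.F q) := by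
  obtain ⟨φ, -, -⟩ := Groth.Agent.S6774.result T T' (Groth.Agent.S6773.result T hT)
    (Groth.Agent.S6773.result T' hT') e
  exact ⟨appIso φ q⟩

end Groth.Agent.H45.DeltaIso
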