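import Mathlib
import Groth.Prelude.Def_RDer

/-!
# Helper library (helper45): the first Leray edge map is an isomorphism on acyclic objects

* `quasiIso_mapAug` : for `Φ` left exact and `X` a `Φ`-acyclic object, `Φ` of the chosen injective
  resolution of `X` is a resolution of `Φ X`.
* `isIso_edgeIn` : `RDer.edgeIn Φ Ψ q X` is an isomorphism when moreover `Φ` preserves injectives.
-/

set_option autoImplicit false
universe v₁ v₂ v₃ u₁ u₂ u₃
open CategoryTheory CategoryTheory.Limits HomologicalComplex

namespace Groth.Agent.H45.EdgeInIso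

variable {A : Type u₁} [Category.{v₁} A] [Abelian A] [HasInjectiveResolutions A]
  {B : Type u₂} [Category.{v₂} B] [Abelian B] [HasInjectiveResolutions B]
  {C : Type u₃} [Category.{v₃} C] [Abelian C]

omit [HasInjectiveResolutions B] in
set_option backward.isDefEq.respectTransparency false in
theorem quasiIso_mapAug (Φ : A ⥤ B) [Φ.Additive] [PreservesFiniteLimits Φ] (X : A)
    (h : ∀ q : ℕ, 0 < q → IsZero ((Φ.rightDerived q).obj X)) :
    QuasiIso (RDer.mapAug Φ (injectiveResolution X).ι) := by
  refine ⟨fun n => ?_⟩
  cases n with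
  | succ k =>
    rw [quasiIsoAt_iff_exactAt _ (k + 1) (CochainComplex.exactAt_succ_single_obj _ _),
      exactAt_iff_isZero_homology]
    exact (h (k + 1) (Nat.succ_pos k)).of_iso
      ((injectiveResolution X).isoRightDerivedObj Φ (k + 1)).symm
  | zero =>
    dsimp only [RDer.mapAug]
    refine (quasiIsoAt_iff_comp_left _ _ 0).2 ?_
    rw [quasiIsoAt_iff' _ 0 0 1 (by simp) (by simp)]
    have hk := RDer.resIsLimitKernelFork (injectiveResolution X).cocomplex (injectiveResolution X).ι
    have hk' := KernelFork.mapIsLimit _ hk Φ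
    rw [ShortComplex.quasiIso_iff_of_zeros]
    · constructor
      · exact ShortComplex.exact_of_f_is_kernel _ hk'
      · exact mono_of_isLimit_fork hk'
    · exact ((Φ.mapHomologicalComplex (ComplexShape.up ℕ)).obj
        ((CochainComplex.single₀ A).obj X)).shape 0 0 (by simp)
    · change Φ.map (((CochainComplex.single₀ A).obj X).d 0 1) = 0
      rw [HomologicalComplex.single_obj_d, Φ.map_zero]
    · exact ((Φ.mapHomologicalComplex (ComplexShape.up ℕ)).obj
        (injectiveResolution X).cocomplex).shape 0 0 (by simp)

set_option backward.isDefEq.respectTransparency false in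
theorem isIso_edgeIn (Φ : A ⥤ B) [Φ.Additive] [PreservesFiniteLimits Φ]
    [Φ.PreservesInjectiveObjects] (Ψ : B ⥤ C) [Ψ.Additive] (q : ℕ) (X : A)
    (h : ∀ q : ℕ, 0 < q → IsZero ((Φ.rightDerived q).obj X)) :
    IsIso (RDer.edgeIn Φ Ψ q X) := by
  have := quasiIso_mapAug Φ X h
  have hd : (injectiveResolution (Φ.obj X)).ι ≫
      RDer.descToInjectives (𝟙 (Φ.obj X)) (injectiveResolution (Φ.obj X)).cocomplex
        (injectiveResolution (Φ.obj X)).ι
        ((Φ.mapHomologicalComplex _).obj (injectiveResolution X).cocomplex)
        (RDer.mapAug Φ (injectiveResolution X).ι) = RDer.mapAug Φ (injectiveResolution X).ι := by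
    apply HomologicalComplex.from_single_hom_ext
    have := RDer.ι_descToInjectives_f_zero (𝟙 (Φ.obj X))
      (injectiveResolution (Φ.obj X)).cocomplex (injectiveResolution (Φ.obj X)).ι
      ((Φ.mapHomologicalComplex _).obj (injectiveResolution X).cocomplex)
      (RDer.mapAug Φ (injectiveResolution X).ι)
    rw [Category.id_comp] at this
    exact this
  have : QuasiIso ((injectiveResolution (Φ.obj X)).ι ≫
      RDer.descToInjectives (𝟙 (Φ.obj X)) (injectiveResolution (Φ.obj X)).cocomplex
        (injectiveResolution (Φ.obj X)).ι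
        ((Φ.mapHomologicalComplex _).obj (injectiveResolution X).cocomplex)
        (RDer.mapAug Φ (injectiveResolution X).ι)) := by
    rw [hd]; infer_instance
  have hq : QuasiIso (RDer.descToInjectives (𝟙 (Φ.obj X))
      (injectiveResolution (Φ.obj X)).cocomplex
        (injectiveResolution (Φ.obj X)).ι
        ((Φ.mapHomologicalComplex _).obj (injectiveResolution X).cocomplex)
        (RDer.mapAug Φ (injectiveResolution X).ι)) :=
    quasiIso_of_comp_left (injectiveResolution (Φ.obj X)).ι _
  obtain ⟨e, he⟩ := (CochainComplex.quasiIso_iff_of_injective _).1 hq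
  have h2 : QuasiIso ((Ψ.mapHomologicalComplex (ComplexShape.up ℕ)).map
      (RDer.descToInjectives (𝟙 (Φ.obj X))
      (injectiveResolution (Φ.obj X)).cocomplex
        (injectiveResolution (Φ.obj X)).ι
        ((Φ.mapHomologicalComplex _).obj (injectiveResolution X).cocomplex)
        (RDer.mapAug Φ (injectiveResolution X).ι))) := by
    rw [← he]
    exact inferInstanceAs (QuasiIso (Ψ.mapHomotopyEquiv e).hom)
  have h3 : IsIso ((HomologicalComplex.homologyFunctor C (ComplexShape.up ℕ) q).map
      ((Ψ.mapHomologicalComplex (ComplexShape.up ℕ)).map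
      (RDer.descToInjectives (𝟙 (Φ.obj X))
      (injectiveResolution (Φ.obj X)).cocomplex
        (injectiveResolution (Φ.obj X)).ι
        ((Φ.mapHomologicalComplex _).obj (injectiveResolution X).cocomplex)
        (RDer.mapAug Φ (injectiveResolution X).ι)))) :=
    (quasiIsoAt_iff_isIso_homologyMap _ q).1 inferInstance
  dsimp only [RDer.edgeIn]
  infer_instance

end Groth.Agent.H45.EdgeInIso
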