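import Mathlib.Algebra.Homology.DerivedCategory.ExactFunctor
import Mathlib.Algebra.Homology.DerivedCategory.TStructure
import Mathlib.Algebra.Homology.DerivedCategory.HomologySequence
import Mathlib.Algebra.Homology.ShortComplex.ExactFunctor
import Mathlib.CategoryTheory.Triangulated.Adjunction
import Mathlib.CategoryTheory.Triangulated.TStructure.TruncLTGE

/-!
# The functor induced on derived categories by an exact functor: cohomology and t-exactness;
right adjoints of right t-exact functors are left t-exact.
-/

set_option autoImplicit false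
universe w w' v v' u u'
open CategoryTheory CategoryTheory.Limits Pretriangulated

namespace Groth.Agent.H45

open DerivedCategory DerivedCategory.TStructure

variable {A' : Type u'} [Category.{v'} A'] [Abelian A'] [HasDerivedCategory.{w'} A']
  {A : Type u} [Category.{v} A] [Abelian A] [HasDerivedCategory.{w} A]
  (F : A' ⥤ A) [F.Additive] [PreservesFiniteLimits F] [PreservesFiniteColimits F]

/-- `H^j(F K) ≅ F (H^j K)` for a cochain complex `K` and an exact functor `F`. -/
noncomputable def homologyMapHomologicalComplexIso (K : CochainComplex A' ℤ) (j : ℤ) :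
    ((F.mapHomologicalComplex (ComplexShape.up ℤ)).obj K).homology j ≅ F.obj (K.homology j) :=
  (K.sc j).mapHomologyIso F

/-- `H^j(F Y) ≅ F (H^j Y)` for `Y` in the derived category and `F` exact. -/
theorem nonempty_homology_mapDerivedCategory_iso (Y : DerivedCategory A') (j : ℤ) :
    Nonempty ((homologyFunctor A j).obj (F.mapDerivedCategory.obj Y) ≅
      F.obj ((homologyFunctor A' j).obj Y)) := by
  let K := Q.objPreimage Y
  let e : Q.obj K ≅ Y := Q.objObjPreimageIso Y
  exact ⟨(homologyFunctor A j).mapIso (F.mapDerivedCategory.mapIso e.symm) ≪≫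
    (homologyFunctor A j).mapIso (F.mapDerivedCategoryFactors.app K) ≪≫
    (homologyFunctorFactors A j).app _ ≪≫
    homologyMapHomologicalComplexIso F K j ≪≫
    F.mapIso ((homologyFunctorFactors A' j).app K).symm ≪≫
    F.mapIso ((homologyFunctor A' j).mapIso e)⟩

theorem isGE_mapDerivedCategory (Y : DerivedCategory A') (n : ℤ) (hY : Y.IsGE n) :
    (F.mapDerivedCategory.obj Y).IsGE n := by
  rw [isGE_iff] at hY ⊢
  intro i hi
  obtain ⟨e⟩ := nonempty_homology_mapDerivedCategory_iso F Y i
  exact (F.map_isZero (hY i hi)).of_iso e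

theorem isLE_mapDerivedCategory (Y : DerivedCategory A') (n : ℤ) (hY : Y.IsLE n) :
    (F.mapDerivedCategory.obj Y).IsLE n := by
  rw [isLE_iff] at hY ⊢
  intro i hi
  obtain ⟨e⟩ := nonempty_homology_mapDerivedCategory_iso F Y i
  exact (F.map_isZero (hY i hi)).of_iso e

/-- A right adjoint of a right t-exact functor is left t-exact (derived categories). -/
theorem isGE_rightAdjoint {L : DerivedCategory A' ⥤ DerivedCategory A}
    {R : DerivedCategory A ⥤ DerivedCategory A'} (adj : L ⊣ R) [L.PreservesZeroMorphisms]
    (hL : ∀ (Z : DerivedCategory A') (n : ℤ), Z.IsLE n → (L.obj Z).IsLE n)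
    (X : DerivedCategory A) (n : ℤ) (hX : X.IsGE n) : (R.obj X).IsGE n := by
  change t.IsGE (R.obj X) n
  rw [t.isGE_iff_orthogonal (n - 1) n (by omega)]
  intro Z g hZ
  have hLZ : t.IsLE (L.obj Z) (n - 1) := hL Z (n - 1) hZ
  have h1 : (adj.homEquiv Z X).symm g = 0 := t.zero _ (n - 1) n (by omega)
  have h2 : (adj.homEquiv Z X).symm 0 = 0 := by
    rw [Adjunction.homEquiv_counit, Functor.map_zero, zero_comp]
  exact (adj.homEquiv Z X).symm.injective (h1.trans h2.symm)

end Groth.Agent.H45
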