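import Groth.Agent.H45.WayOutPlus
import Groth.Agent.H45.WeakSerreTri
import Groth.Agent.H45.ExactFunctorD
import Mathlib.Algebra.Homology.DerivedCategory.FullyFaithful

/-!
# An exact functor with a right adjoint on derived categories: equivalence on `D^+` with
cohomology in weak Serre subcategories.
-/

set_option autoImplicit false
universe w w' v v' u u'
open CategoryTheory CategoryTheory.Limits Pretriangulated

namespace Groth.Agent.H45

open DerivedCategory DerivedCategory.TStructure

section Single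

variable {A' : Type u'} [Category.{v'} A'] [Abelian A'] [HasDerivedCategory.{w'} A']

/-- The cohomology of a single object in degree `j`. -/
lemma cohIn_single (P' : ObjectProperty A') [P'.ContainsZero] [P'.IsClosedUnderIsomorphisms]
    (M' : A') (hM' : P' M') (j : ℤ) :
    WSerre.cohIn P' ((singleFunctor A' j).obj M') := by
  intro i
  by_cases h : i = j
  · subst h
    exact P'.prop_of_iso ((singleFunctorCompHomologyFunctorIso A' i).app M').symm hM'
  · have hz : IsZero ((homologyFunctor A' i).obj ((singleFunctor A' j).obj M')) := by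
      rcases lt_or_gt_of_ne h with h | h
      · exact isZero_of_isGE _ j i h
      · exact isZero_of_isLE _ j i h
    exact P'.prop_of_isZero hz

end Single

variable {A' : Type u'} [Category.{v'} A'] [Abelian A'] [HasDerivedCategory.{w'} A']
  {A : Type u} [Category.{v} A] [Abelian A] [HasDerivedCategory.{w} A]
  (F : A' ⥤ A) [F.Additive] [PreservesFiniteLimits F] [PreservesFiniteColimits F]

/-- Let `F : A' ⥤ A` be an exact functor, `R` a right adjoint of the induced functor `L` on derived
categories, `P ⊆ A`, `P' ⊆ A'` weak Serre subcategories such that `F` maps `P'` into `P`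
essentially surjectively and the unit `M' ⟶ R L M'` is an isomorphism for `M'` in `P'`. Then
`L` and `R` restrict to inverse equivalences between `D^+_{P'}(A')` and `D^+_P(A)`. -/
theorem equivalence_plus
    (R : DerivedCategory A ⥤ DerivedCategory A') (adj : F.mapDerivedCategory ⊣ R)
    (P : ObjectProperty A) [WSerre.IsWeakSerre P] (P' : ObjectProperty A') [WSerre.IsWeakSerre P']
    (h2a : ∀ M' : A', P' M' → P (F.obj M'))
    (h2c : ∀ M : A, P M → ∃ M' : A', P' M' ∧ Nonempty (F.obj M' ≅ M))
    (h3 : ∀ M' : A', P' M' → IsIso (adj.unit.app ((singleFunctor A' 0).obj M'))) :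
    (∀ Y : DerivedCategory A', WSerre.cohInPlus P' Y →
      WSerre.cohInPlus P (F.mapDerivedCategory.obj Y) ∧ IsIso (adj.unit.app Y)) ∧
    (∀ X : DerivedCategory A, WSerre.cohInPlus P X →
      WSerre.cohInPlus P' (R.obj X) ∧ IsIso (adj.counit.app X)) := by
  letI : R.CommShift ℤ := adj.rightAdjointCommShift ℤ
  haveI : adj.CommShift ℤ := adj.commShift_of_leftAdjoint ℤ
  haveI : R.IsTriangulated := adj.isTriangulated_rightAdjoint
  -- t-exactness
  have hLGE : ∀ (Y : DerivedCategory A') (n : ℤ), Y.IsGE n →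
      (F.mapDerivedCategory.obj Y).IsGE n := isGE_mapDerivedCategory F
  have hLLE : ∀ (Y : DerivedCategory A') (n : ℤ), Y.IsLE n →
      (F.mapDerivedCategory.obj Y).IsLE n := isLE_mapDerivedCategory F
  have hRGE : ∀ (X : DerivedCategory A) (n : ℤ), X.IsGE n → (R.obj X).IsGE n :=
    isGE_rightAdjoint adj hLLE
  -- cohomology of L
  have hLcoh : ∀ Y : DerivedCategory A', WSerre.cohIn P' Y →
      WSerre.cohIn P (F.mapDerivedCategory.obj Y) := by
    intro Y hY i
    obtain ⟨e⟩ := nonempty_homology_mapDerivedCategory_iso F Y i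
    exact P.prop_of_iso e.symm (h2a _ (hY i))
  -- the unit
  have hU : ∀ (Y : DerivedCategory A') (a : ℤ), Y.IsGE a → WSerre.cohIn P' Y →
      IsIso (adj.unit.app Y) := by
    intro Y a hYa hY
    haveI := hYa
    exact wayOut_right P' (𝟭 _) (F.mapDerivedCategory ⋙ R) adj.unit
      (fun n => ⟨n, fun Y h => h⟩)
      (fun n => ⟨n, fun Y h => hRGE _ n (hLGE Y n h)⟩) h3 Y a hY
  -- the counit on objects coming from `L`
  have hCL : ∀ (Y : DerivedCategory A') (a : ℤ), Y.IsGE a → WSerre.cohIn P' Y →
      WSerre.cohIn P' (R.obj (F.mapDerivedCategory.obj Y)) ∧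
        IsIso (adj.counit.app (F.mapDerivedCategory.obj Y)) := by
    intro Y a hYa hY
    haveI := hU Y a hYa hY
    refine ⟨cohIn_of_iso P' (asIso (adj.unit.app Y)) hY, ?_⟩
    have h := adj.left_triangle_components Y
    haveI : IsIso (F.mapDerivedCategory.map (adj.unit.app Y) ≫
        adj.counit.app (F.mapDerivedCategory.obj Y)) := by
      rw [h]; exact IsIso.id _
    exact IsIso.of_isIso_comp_left (F.mapDerivedCategory.map (adj.unit.app Y)) _
  -- the property for the counit
  let QC : ObjectProperty (DerivedCategory A) :=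
    fun X => WSerre.cohIn P' (R.obj X) ∧ IsIso (adj.counit.app X)
  haveI : QC.IsClosedUnderIsomorphisms :=
    ⟨fun {X X'} e h => ⟨cohIn_of_iso P' (R.mapIso e) h.1, H56.isIso_app_of_iso adj.counit e h.2⟩⟩
  have hQsingle : ∀ (M : A) (j : ℤ), P M → QC ((singleFunctor A j).obj M) := by
    intro M j hM
    obtain ⟨M', hM', ⟨e⟩⟩ := h2c M hM
    have e1 : F.mapDerivedCategory.obj ((singleFunctor A' j).obj M') ≅ (singleFunctor A j).obj M :=
      (F.mapDerivedCategorySingleFunctor j).app M' ≪≫ (singleFunctor A j).mapIso e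
    exact QC.prop_of_iso e1 (hCL _ j inferInstance (cohIn_single P' M' hM' j))
  have hQext : ∀ T : Triangle (DerivedCategory A), T ∈ distTriang _ →
      QC T.obj₁ → QC T.obj₃ → QC T.obj₂ := by
    intro T hT h1 h3
    refine ⟨?_, ?_⟩
    · exact cohIn_obj₂_of_distTriang P' (R.mapTriangle.obj T) (R.map_distinguished _ hT) h1.1 h3.1
    · exact H56.isIso_app_obj₂_of_distTriang adj.counit T hT h1.2 h3.2
  have hCb : ∀ (X : DerivedCategory A) (a b : ℤ), X.IsGE a → X.IsLE b →
      WSerre.cohIn P X → QC X :=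
    fun X a b hGE hLE hX => devissage_bounded' P QC hQsingle hQext X a b hGE hLE hX
  have hzero : ∀ Z : A, IsZero Z → P Z := fun Z hZ => P.prop_of_isZero hZ
  have hC : ∀ (X : DerivedCategory A) (a : ℤ), X.IsGE a → WSerre.cohIn P X →
      WSerre.cohIn P' (R.obj X) ∧ IsIso (adj.counit.app X) := by
    intro X a hXa hX
    haveI := hXa
    refine ⟨?_, ?_⟩
    · intro j
      have h3GE : ((t.truncGE (j + 1)).obj X).IsGE (j + 1) :=
        inferInstanceAs (t.IsGE ((t.truncGE (j + 1)).obj X) (j + 1))
      haveI := isIso_homologyMap_map_truncLTι R X (j + 1) j (hRGE _ _ h3GE)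
      have h1GE : ((t.truncLT (j + 1)).obj X).IsGE a :=
        inferInstanceAs (t.IsGE ((t.truncLT (j + 1)).obj X) a)
      have h1LE : ((t.truncLT (j + 1)).obj X).IsLE (j + 1 - 1) :=
        inferInstanceAs (t.IsLE ((t.truncLT (j + 1)).obj X) (j + 1 - 1))
      have hb := (hCb _ a (j + 1 - 1) h1GE h1LE (prop_homology_truncLT P hzero X (j + 1) hX)).1 j
      exact P'.prop_of_iso
        (asIso ((homologyFunctor A' j).map (R.map ((t.truncLTι (j + 1)).app X)))) hb
    · exact wayOutRight_of_bounded P (R ⋙ F.mapDerivedCategory) (𝟭 _) adj.counit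
        (fun n => ⟨n, fun Y h => hLGE _ n (hRGE Y n h)⟩)
        (fun n => ⟨n, fun Y h => h⟩)
        (fun X a b hGE hLE hX => (hCb X a b hGE hLE hX).2) X a hX
  refine ⟨fun Y hY => ?_, fun X hX => ?_⟩
  · obtain ⟨hYc, ⟨a, hYa⟩⟩ := hY
    exact ⟨⟨hLcoh Y hYc, ⟨a, hLGE Y a hYa⟩⟩, hU Y a hYa hYc⟩
  · obtain ⟨hXc, ⟨a, hXa⟩⟩ := hX
    obtain ⟨h1, h2⟩ := hC X a hXa hXc
    exact ⟨⟨h1, ⟨a, hRGE X a hXa⟩⟩, h2⟩

end Groth.Agent.H45
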