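import Groth.Agent.H45.DeltaPrecomp
import Mathlib.CategoryTheory.Abelian.FunctorCategory
import Mathlib.Algebra.Homology.ShortComplex.ExactFunctor

/-!
# Helper library (helper45): presheaf valued `Ext` delta-functors

* `postcompDelta T E`: a delta-functor followed by an exact functor.
* `exact_of_evaluation`: exactness in a functor category is checked objectwise.
* `extAlongDelta Z`: for `Z : D ⥤ A`, the delta-functor `F ↦ (d ↦ Ext^•(Z d, F))` with values in
  presheaves of abelian groups on `D`.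
-/

set_option autoImplicit false
universe w v v' v'' u u' u''
open CategoryTheory CategoryTheory.Limits Opposite

namespace Groth.Agent.H45.DeltaIso

section Postcomp

variable {A : Type u} [Category.{v} A] [Abelian A] {B : Type u'} [Category.{v'} B] [Abelian B]
  {B' : Type u''} [Category.{v''} B'] [Abelian B']

/-- A delta-functor followed by an exact functor. -/
noncomputable def postcompDelta (T : DeltaF.CohDeltaFunctor A B ℕ) (E : B ⥤ B') [E.Additive]
    [PreservesFiniteLimits E] [PreservesFiniteColimits E] : DeltaF.CohDeltaFunctor A B' ℕ where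
  F n := T.F n ⋙ E
  additive n := inferInstance
  δ S hS n₀ n₁ h := E.map (T.δ S hS n₀ n₁ h)
  δ_natural {S S'} hS hS' φ n₀ n₁ h := by
    change E.map _ ≫ E.map _ = E.map _ ≫ E.map _
    rw [← E.map_comp, ← E.map_comp, T.δ_natural hS hS' φ n₀ n₁ h]
  exact₂ S hS n := (T.exact₂ S hS n).map E
  comp_δ S hS n₀ n₁ h := by
    change E.map _ ≫ E.map _ = 0
    rw [← E.map_comp, T.comp_δ S hS n₀ n₁ h, E.map_zero]
  exact₃ S hS n₀ n₁ h := (T.exact₃ S hS n₀ n₁ h).map E
  δ_comp S hS n₀ n₁ h := by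
    change E.map _ ≫ E.map _ = 0
    rw [← E.map_comp, T.δ_comp S hS n₀ n₁ h, E.map_zero]
  exact₁ S hS n₀ n₁ h := (T.exact₁ S hS n₀ n₁ h).map E

@[simp] lemma postcompDelta_F (T : DeltaF.CohDeltaFunctor A B ℕ) (E : B ⥤ B') [E.Additive]
    [PreservesFiniteLimits E] [PreservesFiniteColimits E] (n : ℕ) :
    (postcompDelta T E).F n = T.F n ⋙ E := rfl

end Postcomp

section Evaluation

variable {D : Type u'} [Category.{v'} D] {B : Type u} [Category.{v} B] [Abelian B]

/-- Exactness in a functor category is checked objectwise. -/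
lemma exact_of_evaluation (S : ShortComplex (D ⥤ B))
    (h : ∀ d : D, (S.map ((evaluation D B).obj d)).Exact) : S.Exact := by
  rw [ShortComplex.exact_iff_isZero_homology]
  apply Functor.isZero
  intro d
  have hd := (ShortComplex.exact_iff_isZero_homology _).1 (h d)
  exact hd.of_iso (S.mapHomologyIso ((evaluation D B).obj d)).symm

end Evaluation

section ExtAlong

open Abelian

variable {A : Type u} [Category.{v} A] [Abelian A] [HasExt.{w} A] {D : Type u'} [Category.{v'} D]

/-- The functor `F ↦ (d ↦ Ext^n(Z d, F))`. -/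
noncomputable def extAlong (Z : D ⥤ A) (n : ℕ) : A ⥤ (Dᵒᵖ ⥤ AddCommGrpCat.{w}) :=
  (extFunctor.{w} n).flip ⋙ (Functor.whiskeringLeft Dᵒᵖ Aᵒᵖ AddCommGrpCat.{w}).obj Z.op

instance (Z : D ⥤ A) (n : ℕ) : (extAlong.{w} Z n).Additive where
  map_add {F G φ ψ} := by
    ext d (x : Ext (Z.obj d.unop) F n)
    change x.comp (Ext.mk₀ (φ + ψ)) (add_zero n) =
      x.comp (Ext.mk₀ φ) (add_zero n) + x.comp (Ext.mk₀ ψ) (add_zero n)
    rw [Ext.mk₀_add, Ext.comp_add]

/-- The connecting morphism of `extAlong`. -/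
noncomputable def extAlongδ (Z : D ⥤ A) (S : ShortComplex A) (hS : S.ShortExact) (n₀ n₁ : ℕ)
    (h : n₀ + 1 = n₁) : (extAlong.{w} Z n₀).obj S.X₃ ⟶ (extAlong.{w} Z n₁).obj S.X₁ where
  app d := AddCommGrpCat.ofHom (hS.extClass.postcomp (Z.obj d.unop) h)
  naturality {d d'} g := by
    refine AddCommGrpCat.ext fun (x : Ext (Z.obj d.unop) S.X₃ n₀) => ?_
    change ((Ext.mk₀ (Z.map g.unop)).comp x (zero_add n₀)).comp hS.extClass h =
      (Ext.mk₀ (Z.map g.unop)).comp (x.comp hS.extClass h) (zero_add n₁)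
    exact Ext.comp_assoc _ _ _ _ _ (by omega)

/-- The presheaf valued delta-functor `F ↦ (d ↦ Ext^•(Z d, F))`. -/
noncomputable def extAlongDelta (Z : D ⥤ A) :
    DeltaF.CohDeltaFunctor A (Dᵒᵖ ⥤ AddCommGrpCat.{w}) ℕ where
  F n := extAlong.{w} Z n
  additive n := inferInstance
  δ S hS n₀ n₁ h := extAlongδ.{w} Z S hS n₀ n₁ h
  δ_natural {S S'} hS hS' φ n₀ n₁ h := by
    ext d : 2
    exact (extDelta.{w} (Z.obj d.unop)).δ_natural hS hS' φ n₀ n₁ h
  exact₂ S hS n := exact_of_evaluation _ (fun d => (extDelta.{w} (Z.obj d.unop)).exact₂ S hS n)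
  comp_δ S hS n₀ n₁ h := by
    ext d : 2
    exact (extDelta.{w} (Z.obj d.unop)).comp_δ S hS n₀ n₁ h
  exact₃ S hS n₀ n₁ h :=
    exact_of_evaluation _ (fun d => (extDelta.{w} (Z.obj d.unop)).exact₃ S hS n₀ n₁ h)
  δ_comp S hS n₀ n₁ h := by
    ext d : 2
    exact (extDelta.{w} (Z.obj d.unop)).δ_comp S hS n₀ n₁ h
  exact₁ S hS n₀ n₁ h :=
    exact_of_evaluation _ (fun d => (extDelta.{w} (Z.obj d.unop)).exact₁ S hS n₀ n₁ h)

@[simp] lemma extAlongDelta_F (Z : D ⥤ A) (n : ℕ) :
    (extAlongDelta.{w} Z).F n = extAlong.{w} Z n := rfl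

lemma isZero_extAlong_obj_of_injective (Z : D ⥤ A) (n : ℕ) (I : A) [Injective I] :
    IsZero ((extAlong.{w} Z (n + 1)).obj I) := by
  apply Functor.isZero
  intro d
  have hs : Subsingleton (Ext.{w} (Z.obj d.unop) I (n + 1)) :=
    ⟨fun a b => (Ext.eq_zero_of_injective a).trans (Ext.eq_zero_of_injective b).symm⟩
  exact @AddCommGrpCat.isZero_of_subsingleton (AddCommGrpCat.of (Ext.{w} (Z.obj d.unop) I (n + 1))) hs

end ExtAlong

end Groth.Agent.H45.DeltaIso
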