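import Groth.Agent.H31.StalkExact
import Groth.Agent.H31.StalkKFlat
import Groth.Agent.H8.SuppClosed
import Groth.Agent.H8.Coh
import Groth.Agent.H8.CohKerCoker

/-!
# Helper library (helper45): epimorphisms from filtered colimits onto finite type modules

* `epi_of_stk`, `epi_stk_iff` : epimorphisms of `O_X`-modules on stalks.
* `exists_epi_of_filtered` : on a quasi-compact scheme, if `u : colim G_j ⟶ F` is an epimorphism
  onto a quasi-coherent module of finite type, then `G_j ⟶ F` is an epimorphism for all large `j`.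
-/

set_option autoImplicit false
set_option linter.style.haveILetI false
universe u
open AlgebraicGeometry CategoryTheory CategoryTheory.Limits Opposite
open Groth.Agent.H31.Stalk Groth.Agent.H31

namespace Groth.Agent.H45.FiltEpi

variable {X : Scheme.{u}}

/-- The stalk functor on `X.Modules` (helper31's `stk`, with the category of `X.Modules`). -/
noncomputable def stkX (X : Scheme.{u}) (x : X) :
    X.Modules ⥤ ModuleCat.{u} (X.presheaf.stalk x) := stk (shX X) x

instance (x : X) : (stkX X x).IsLeftAdjoint :=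
  inferInstanceAs (stk (shX X) x).IsLeftAdjoint

theorem epi_of_stk {A B : X.Modules} (g : A ⟶ B)
    (h : ∀ x : X, Epi ((stkX X x).map g)) : Epi g := by
  apply Preadditive.epi_of_isZero_cokernel
  apply isZero_of_stk (O := shX X)
  intro y
  show IsZero ((stkX X y).obj (cokernel g))
  have := h y
  exact IsZero.of_iso (isZero_cokernel_of_epi ((stkX X y).map g))
    (PreservesCokernel.iso (stkX X y) g)

theorem epi_stk_iff {A B : X.Modules} (g : A ⟶ B) (x : X) :
    Epi ((stkX X x).map g) ↔ Subsingleton ↑((cokernel g).presheaf.stalk x) := by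
  constructor
  · intro h
    have hz : IsZero ((stkX X x).obj (cokernel g)) :=
      IsZero.of_iso (isZero_cokernel_of_epi ((stkX X x).map g))
        (PreservesCokernel.iso (stkX X x) g)
    exact ModuleCat.subsingleton_of_isZero hz
  · intro h
    have hz : IsZero ((stkX X x).obj (cokernel g)) :=
      @ModuleCat.isZero_of_subsingleton _ _ ((stkX X x).obj (cokernel g)) h
    exact Preadditive.epi_of_isZero_cokernel _
      (hz.of_iso (PreservesCokernel.iso (stkX X x) g).symm)

theorem exists_epi_of_filtered [CompactSpace X] {J : Type u} [SmallCategory J] [IsFiltered J]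
    (D : J ⥤ X.Modules) (c : Cocone D) (hc : IsColimit c) (F : X.Modules) [F.IsQuasicoherent]
    [SheafOfModules.IsFiniteType (R := X.ringCatSheaf) F] (u : c.pt ⟶ F) [Epi u] :
    ∃ j₀ : J, ∀ j : J, Nonempty (j₀ ⟶ j) → Epi (c.ι.app j ≫ u) := by
  let W : J → Set X := fun j => {x | Epi ((stkX X x).map (c.ι.app j ≫ u))}
  have hWopen : ∀ j, IsOpen (W j) := by
    intro j
    have hepi : Epi (cokernel.π (c.ι.app j ≫ u)) := coequalizer.π_epi
    have hft : SheafOfModules.IsFiniteType (R := X.ringCatSheaf) (cokernel (c.ι.app j ≫ u)) :=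
      @Groth.Agent.H8.isFiniteType_of_epi _ _ _ (cokernel.π (c.ι.app j ≫ u)) hepi _
    have hcl := @Groth.Agent.H8.isClosed_support_of_isFiniteType _ (cokernel (c.ι.app j ≫ u)) hft
    have hW : W j = {x | ¬ Subsingleton ↑((cokernel (c.ι.app j ≫ u)).presheaf.stalk x)}ᶜ := by
      ext x
      simp only [W, Set.mem_ofPred_eq, Set.mem_compl_iff, not_not]
      exact epi_stk_iff _ x
    rw [hW]
    exact hcl.isOpen_compl
  have hfac : ∀ {j j' : J} (φ : j ⟶ j'), c.ι.app j ≫ u = D.map φ ≫ (c.ι.app j' ≫ u) := by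
    intro j j' φ
    rw [← Category.assoc, c.w φ]
  have hWmono : ∀ {j j' : J} (_ : j ⟶ j'), W j ⊆ W j' := by
    intro j j' φ x hx
    have hx' : Epi ((stkX X x).map (c.ι.app j ≫ u)) := hx
    show Epi ((stkX X x).map (c.ι.app j' ≫ u))
    rw [hfac φ, Functor.map_comp] at hx'
    exact epi_of_epi ((stkX X x).map (D.map φ)) _
  have hcover : ∀ x : X, ∃ j, x ∈ W j := by
    intro x
    haveI : Module.Finite (X.presheaf.stalk x) (F.presheaf.stalk x) :=
      Groth.Agent.H8.finite_stalk_of_isCoh F ⟨inferInstance, inferInstance⟩ x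
    haveI hfin : Module.Finite (X.presheaf.stalk x) ((stkX X x).obj F) := this
    have hcx : IsColimit ((stkX X x).mapCocone c) := isColimitOfPreserves (stkX X x) hc
    have hsurj : Function.Surjective ((stkX X x).map u).hom :=
      (ModuleCat.epi_iff_surjective _).1 inferInstance
    have hrange : ∀ {j j' : J} (_ : j ⟶ j'),
        LinearMap.range ((stkX X x).map (c.ι.app j ≫ u)).hom ≤
          LinearMap.range ((stkX X x).map (c.ι.app j' ≫ u)).hom := by
      rintro j j' φ _ ⟨b, rfl⟩
      refine ⟨((stkX X x).map (D.map φ)).hom b, ?_⟩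
      show ((stkX X x).map (D.map φ) ≫ (stkX X x).map (c.ι.app j' ≫ u)).hom b = _
      rw [← Functor.map_comp, ← hfac φ]
    have claim : ∀ S : Finset ↑((stkX X x).obj F), ∃ j : J, ∀ s ∈ S,
        s ∈ LinearMap.range ((stkX X x).map (c.ι.app j ≫ u)).hom := by
      intro S
      classical
      induction S using Finset.induction_on with
      | empty => exact ⟨IsFiltered.nonempty.some, by simp⟩
      | insert a S _ ih =>
        obtain ⟨j₁, h₁⟩ := ih
        obtain ⟨y, hy⟩ := hsurj a
        obtain ⟨j₂, b, hb⟩ := Concrete.isColimit_exists_rep _ hcx y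
        refine ⟨IsFiltered.max j₁ j₂, fun s hs => ?_⟩
        rcases Finset.mem_insert.1 hs with rfl | hs
        · refine hrange (IsFiltered.rightToMax j₁ j₂) ⟨b, ?_⟩
          rw [Functor.map_comp, ← hy, ← hb]
          rfl
        · exact hrange (IsFiltered.leftToMax j₁ j₂) (h₁ s hs)
    obtain ⟨S, hS⟩ := hfin.fg_top
    obtain ⟨j, hj⟩ := claim S
    refine ⟨j, ?_⟩
    show Epi ((stkX X x).map (c.ι.app j ≫ u))
    rw [ModuleCat.epi_iff_surjective, ← LinearMap.range_eq_top, eq_top_iff, ← hS,
      Submodule.span_le]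
    exact fun s hs => hj s hs
  haveI : Nonempty J := IsFiltered.nonempty
  obtain ⟨j₀, hj₀⟩ := isCompact_univ.elim_directed_cover W hWopen
    (fun x _ => Set.mem_iUnion.2 (hcover x))
    (fun j₁ j₂ => ⟨IsFiltered.max j₁ j₂, hWmono (IsFiltered.leftToMax j₁ j₂),
      hWmono (IsFiltered.rightToMax j₁ j₂)⟩)
  exact ⟨j₀, fun j ⟨φ⟩ => epi_of_stk _ (fun x => hWmono φ (hj₀ (Set.mem_univ x)))⟩

end Groth.Agent.H45.FiltEpi
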