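import Groth.Prelude.Def_CxOX
import Groth.Agent.H53.FreeOn
import Groth.Agent.H31.ExtZeroFlat
import Groth.Agent.H40.FlatBridge2
import Groth.Agent.H45.FiltEpi
import Mathlib.Algebra.Category.ModuleCat.Products

/-!
# Helper library (helper45): `j_! O_U` on a scheme

* `restrictSectionsEquiv U M` : global sections of `M|_U` are the sections of `M` over `U`.
* `extUnitHomEquiv U M : (CxOX.extZeroUnit U.ι ⟶ M) ≃ M(U)`, natural in `M` (`extUnitHomEquiv_comp`).
* `freeOnIso U : ModSite.freeOn X.sheaf U ≅ CxOX.extZeroUnit U.ι`.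
* `isFlat_of_iso`, `isFlat_sigma` : stalkwise flatness is invariant under isomorphism and stable
  under arbitrary coproducts.
* `isFlat_extZeroUnit`, `isFlat_sigma_extZeroUnit`.
* `exists_epi_sigma_extZeroUnit` : every module is a quotient of a coproduct of `j_! O_U`.
-/

set_option autoImplicit false
set_option linter.style.haveILetI false
universe u
open AlgebraicGeometry CategoryTheory CategoryTheory.Limits Opposite TopologicalSpace

namespace Groth.Agent.H45.ExtUnit

open Groth.Agent.H45.FiltEpi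

variable {X : Scheme.{u}}

section Sections

variable (U : X.Opens)

theorem map_map_apply (M : X.Modules) {A B C : X.Opens} (f : A ⟶ B) (g : B ⟶ C) (h : A ⟶ C)
    (m : M.val.obj (op C)) :
    M.val.map f.op (M.val.map g.op m) = M.val.map h.op m := by
  have e : g.op ≫ f.op = h.op := Quiver.Hom.unop_inj (Subsingleton.elim _ _)
  have := M.val.map_comp_apply g.op f.op m
  rw [e] at this
  exact this.symm

theorem map_id_apply' (M : X.Modules) {A : X.Opens} (f : A ⟶ A) (m : M.val.obj (op A)) :
    M.val.map f.op m = m := by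
  have e : f.op = 𝟙 (op A) := Quiver.Hom.unop_inj (Subsingleton.elim _ _)
  rw [e, M.val.map_id]
  rfl

/-- Global sections of `M|_U` are the sections of `M` over `U`. -/
noncomputable def restrictSectionsEquiv (M : X.Modules) :
    SheafOfModules.sections ((Scheme.Modules.restrictFunctor U.ι).obj M) ≃ M.val.obj (op U) where
  toFun s := M.val.map (eqToHom U.ι_image_top.symm : U ⟶ U.ι ''ᵁ ⊤).op (s.val (op ⊤))
  invFun m := PresheafOfModules.sectionsMk
    (fun W => M.val.map (homOfLE (U.ι_image_le W.unop)).op m)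
    (by
      intro W W' g
      exact map_map_apply M (U.ι.opensFunctor.map g.unop) (homOfLE (U.ι_image_le W.unop))
        (homOfLE (U.ι_image_le W'.unop)) m)
  left_inv s := by
    apply PresheafOfModules.sections_ext
    intro W
    have h1 := PresheafOfModules.sections_property s (homOfLE le_top : W.unop ⟶ ⊤).op
    rw [← h1]
    exact map_map_apply M (homOfLE (U.ι_image_le W.unop))
      (eqToHom U.ι_image_top.symm : U ⟶ U.ι ''ᵁ ⊤)
      (U.ι.opensFunctor.map (homOfLE le_top : W.unop ⟶ ⊤)) (s.val (op ⊤))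
  right_inv m := by
    exact (map_map_apply M (eqToHom U.ι_image_top.symm : U ⟶ U.ι ''ᵁ ⊤)
      (homOfLE (U.ι_image_le ⊤)) (𝟙 U) m).trans (map_id_apply' M (𝟙 U) m)

theorem restrictSectionsEquiv_sectionsMap {M M' : X.Modules} (g : M ⟶ M')
    (s : SheafOfModules.sections ((Scheme.Modules.restrictFunctor U.ι).obj M)) :
    restrictSectionsEquiv U M'
        (SheafOfModules.sectionsMap ((Scheme.Modules.restrictFunctor U.ι).map g) s) =
      g.val.app (op U) (restrictSectionsEquiv U M s) :=
  (PresheafOfModules.naturality_apply g.val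
    (eqToHom U.ι_image_top.symm : U ⟶ U.ι ''ᵁ ⊤).op (s.val (op ⊤))).symm

/-- `Hom(j_! O_U, M) ≃ M(U)`. -/
noncomputable def extUnitHomEquiv (M : X.Modules) :
    (CxOX.extZeroUnit U.ι ⟶ M) ≃ M.val.obj (op U) :=
  ((CxOX.extZeroAdj U.ι).homEquiv _ _).trans
    ((SheafOfModules.unitHomEquiv _).trans (restrictSectionsEquiv U M))

theorem extUnitHomEquiv_comp {M M' : X.Modules} (a : CxOX.extZeroUnit U.ι ⟶ M) (g : M ⟶ M') :
    extUnitHomEquiv U M' (a ≫ g) = g.val.app (op U) (extUnitHomEquiv U M a) := by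
  have h1 : (CxOX.extZeroAdj U.ι).homEquiv _ _ (a ≫ g) =
      (CxOX.extZeroAdj U.ι).homEquiv _ _ a ≫ (Scheme.Modules.restrictFunctor U.ι).map g :=
    Adjunction.homEquiv_naturality_right _ _ _
  have h2 := SheafOfModules.unitHomEquiv_comp_apply ((CxOX.extZeroAdj U.ι).homEquiv _ _ a)
    ((Scheme.Modules.restrictFunctor U.ι).map g)
  have h3 := restrictSectionsEquiv_sectionsMap U g
    (SheafOfModules.unitHomEquiv _ ((CxOX.extZeroAdj U.ι).homEquiv _ _ a))
  calc extUnitHomEquiv U M' (a ≫ g)
      = restrictSectionsEquiv U M' (SheafOfModules.unitHomEquiv _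
          ((CxOX.extZeroAdj U.ι).homEquiv _ _ (a ≫ g))) := rfl
    _ = restrictSectionsEquiv U M' (SheafOfModules.unitHomEquiv _
          ((CxOX.extZeroAdj U.ι).homEquiv _ _ a ≫ (Scheme.Modules.restrictFunctor U.ι).map g)) :=
        congrArg (fun t => restrictSectionsEquiv U M' (SheafOfModules.unitHomEquiv _ t)) h1
    _ = restrictSectionsEquiv U M' (SheafOfModules.sectionsMap
          ((Scheme.Modules.restrictFunctor U.ι).map g)
          (SheafOfModules.unitHomEquiv _ ((CxOX.extZeroAdj U.ι).homEquiv _ _ a))) :=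
        congrArg (fun t => restrictSectionsEquiv U M' t) h2
    _ = _ := h3

theorem extUnitHomEquiv_symm_comp {M M' : X.Modules} (m : M.val.obj (op U)) (g : M ⟶ M') :
    (extUnitHomEquiv U M).symm m ≫ g = (extUnitHomEquiv U M').symm (g.val.app (op U) m) := by
  apply (extUnitHomEquiv U M').injective
  refine (extUnitHomEquiv_comp U _ g).trans ?_
  refine (congrArg (fun t => g.val.app (op U) t) (Equiv.apply_symm_apply _ m)).trans ?_
  exact (Equiv.apply_symm_apply _ _).symm

/-- Two objects corepresenting the same functor (through natural bijections) are isomorphic. -/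
noncomputable def corepIso {C : Type*} [Category C] {A B : C} {P : C → Type*}
    (mapP : ∀ {M M' : C}, (M ⟶ M') → P M → P M')
    (EA : ∀ M, (A ⟶ M) ≃ P M) (EB : ∀ M, (B ⟶ M) ≃ P M)
    (hA : ∀ {M M' : C} (a : A ⟶ M) (g : M ⟶ M'), EA M' (a ≫ g) = mapP g (EA M a))
    (hB : ∀ {M M' : C} (a : B ⟶ M) (g : M ⟶ M'), EB M' (a ≫ g) = mapP g (EB M a)) : A ≅ B where
  hom := (EA B).symm (EB B (𝟙 B))
  inv := (EB A).symm (EA A (𝟙 A))
  hom_inv_id := by
    apply (EA A).injective
    rw [hA, Equiv.apply_symm_apply, ← hB, Category.id_comp, Equiv.apply_symm_apply]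
  inv_hom_id := by
    apply (EB B).injective
    rw [hB, Equiv.apply_symm_apply, ← hA, Category.id_comp, Equiv.apply_symm_apply]

/-- The two incarnations of `j_! O_U` agree. -/
noncomputable def freeOnIso :
    (ModSite.freeOn X.sheaf U : X.Modules) ≅ CxOX.extZeroUnit U.ι :=
  corepIso (C := X.Modules) (P := fun M => M.val.obj (op U))
    (fun {_ _} g m => g.val.app (op U) m)
    (fun M => Groth.Agent.H53.freeOnHomEquiv X.sheaf U M) (fun M => extUnitHomEquiv U M)
    (fun a g => Groth.Agent.H53.freeOnHomEquiv_comp X.sheaf U a g)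
    (fun a g => extUnitHomEquiv_comp U a g)

end Sections

section Flat

theorem isFlat_of_iso {M N : X.Modules} (e : M ≅ N) (h : FlatMod.IsFlat M) : FlatMod.IsFlat N := by
  intro x
  have e' := ((stkX X x).mapIso e).toLinearEquiv
  haveI : Module.Flat (X.presheaf.stalk x) ((stkX X x).obj M) := h x
  have : Module.Flat (X.presheaf.stalk x) ((stkX X x).obj N) := Module.Flat.of_linearEquiv e'.symm
  exact this

theorem isFlat_sigma {ι : Type u} (M : ι → X.Modules) (h : ∀ i, FlatMod.IsFlat (M i)) :
    FlatMod.IsFlat (∐ M) := by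
  classical
  intro x
  have e1 : (stkX X x).obj (∐ M) ≅ ∐ fun i => (stkX X x).obj (M i) :=
    PreservesCoproduct.iso (stkX X x) M
  have e2 := ModuleCat.coprodIsoDirectSum (fun i => (stkX X x).obj (M i))
  haveI : ∀ i, Module.Flat (X.presheaf.stalk x) ((stkX X x).obj (M i)) := fun i => h i x
  have : Module.Flat (X.presheaf.stalk x) ((stkX X x).obj (∐ M)) :=
    Module.Flat.of_linearEquiv (e1 ≪≫ e2).toLinearEquiv
  exact this

theorem isFlat_freeOn (U : X.Opens) : FlatMod.IsFlat (X := X) (ModSite.freeOn X.sheaf U) :=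
  Groth.Agent.H40.FlatBridge2.stalkFlat_of_isFlat _
    (Groth.Agent.H31.ExtZero.isFlat_freeOn (O := X.sheaf) U)

theorem isFlat_extZeroUnit (U : X.Opens) : FlatMod.IsFlat (CxOX.extZeroUnit U.ι) :=
  isFlat_of_iso (freeOnIso U) (isFlat_freeOn U)

theorem isFlat_sigma_extZeroUnit {ι : Type u} (U : ι → X.Opens) :
    FlatMod.IsFlat (∐ fun i => CxOX.extZeroUnit (U i).ι) :=
  isFlat_sigma _ (fun i => isFlat_extZeroUnit (U i))

end Flat

section Cover

/-- Every `O_X`-module is a quotient of a coproduct of modules `j_! O_U`. -/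
theorem exists_epi_sigma_extZeroUnit (F : X.Modules) :
    ∃ (ι : Type u) (U : ι → X.Opens) (p : (∐ fun i => CxOX.extZeroUnit (U i).ι) ⟶ F), Epi p := by
  refine ⟨Σ U : X.Opens, F.val.obj (op U), fun p => p.1,
    Sigma.desc (fun p => (extUnitHomEquiv p.1 F).symm p.2), ?_⟩
  constructor
  intro T f g hfg
  have h1 : ∀ (V : X.Opens) (m : F.val.obj (op V)), f.val.app (op V) m = g.val.app (op V) m := by
    intro V m
    have h3 : Sigma.ι (fun p : (Σ U : X.Opens, F.val.obj (op U)) => CxOX.extZeroUnit p.1.ι) ⟨V, m⟩ ≫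
        Sigma.desc (fun p => (extUnitHomEquiv p.1 F).symm p.2) = (extUnitHomEquiv V F).symm m :=
      Sigma.ι_desc _ _
    have h2 : (extUnitHomEquiv V F).symm m ≫ f = (extUnitHomEquiv V F).symm m ≫ g := by
      rw [← h3, Category.assoc, Category.assoc, hfg]
    rw [extUnitHomEquiv_symm_comp, extUnitHomEquiv_symm_comp] at h2
    exact (extUnitHomEquiv V T).symm.injective h2
  apply SheafOfModules.hom_ext
  apply PresheafOfModules.hom_ext
  intro V
  ext m
  exact h1 V.unop m

end Cover

end Groth.Agent.H45.ExtUnit
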