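import Mathlib
import Groth.Agent.H15.FPA.Defs

/-!
# (UBC) for helper15's S8826 squad: `UnramAt` is stable under base change of the coefficients
-/

set_option autoImplicit false
universe u
open MvPolynomial
open Groth.Agent.H15.FPA

namespace Groth.Agent.H45.FPA_UBC

theorem unramAt_map {A R : Type u} [CommRing A] [CommRing R] (φ : A →+* R) {n m : ℕ}
    (f : Fin m → MvPolynomial (Fin n) A) (a : A) (h : UnramAt f a) :
    UnramAt (fun j => MvPolynomial.map φ (f j)) (φ a) := by
  obtain ⟨e, g, hg⟩ := h
  refine ⟨e, fun p j => MvPolynomial.map φ (g p j), fun p k => ?_⟩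
  have h1 := Ideal.mem_map_of_mem (MvPolynomial.map φ) (hg p k)
  rw [Ideal.map_span, ← Set.range_comp] at h1
  have h2 : MvPolynomial.map φ
      ((∑ j, g p j * pderiv k (f j)) - C (a ^ e) * (if p = k then 1 else 0)) =
      (∑ j, MvPolynomial.map φ (g p j) * pderiv k (MvPolynomial.map φ (f j))) -
        C (φ a ^ e) * (if p = k then 1 else 0) := by
    simp only [map_sub, map_sum, map_mul, MvPolynomial.map_C, map_pow, MvPolynomial.pderiv_map,
      apply_ite (MvPolynomial.map φ), map_one, map_zero]
  rw [h2] at h1
  exact h1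

end Groth.Agent.H45.FPA_UBC
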