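import Mathlib
import Groth.Agent.H15.FPA.Defs
import Groth.Agent.H3.Hensel2
import Groth.Agent.H3.Hensel4
import Groth.Agent.H45.FPA_UBC

/-!
# (IND) for helper15's S8826 squad: induction on the number of generators

`formal_point_algebraic_of` : assuming the principal step (P1) (as the hypothesis `PrincipalStep`),
a formal point of an algebra unramified away from `V(t_1, …, t_r)` over a Noetherian Henselian pair
is algebraic.  Induction on `r`, passing to `R ⧸ (τ ^ N) → S ⧸ (τ ^ N) S`.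
-/

set_option autoImplicit false
universe u
open MvPolynomial
open Groth.Agent.H15.FPA

namespace Groth.Agent.H45.FPA_IND

/-- The statement of the principal step (P1), as a hypothesis. -/
def PrincipalStep : Prop :=
  ∀ {R S : Type u} [CommRing R] [CommRing S] [IsNoetherianRing S]
    (ρ : R →+* S) (t : R) [HenselianRing R (Ideal.span {t})]
    (_ : ρ t ∈ Ideal.jacobson (⊥ : Ideal S))
    (_ : ∀ (M : ℕ) (x : R), ρ x ∈ Ideal.span {ρ t ^ M} → x ∈ Ideal.span {t ^ M})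
    {n m : ℕ} (f : Fin m → MvPolynomial (Fin n) R) (_ : UnramAt f t)
    (â : Fin n → S) (_ : ∀ j, eval₂ ρ â (f j) = 0)
    (_ : ∀ N : ℕ, ∃ a : Fin n → R, ∀ k, â k - ρ (a k) ∈ Ideal.span {ρ t ^ N}),
    ∃ a : Fin n → R, ∀ k, ρ (a k) = â k

section quot

variable {R S : Type u} [CommRing R] [CommRing S] (ρ : R →+* S) (𝔠 : Ideal R)

/-- The induced map `R ⧸ 𝔠 → S ⧸ 𝔠 S`. -/
noncomputable abbrev ρbar : R ⧸ 𝔠 →+* S ⧸ 𝔠.map ρ :=
  Ideal.quotientMap (𝔠.map ρ) ρ Ideal.le_comap_map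

theorem ρbar_mk (x : R) :
    ρbar ρ 𝔠 (Ideal.Quotient.mk 𝔠 x) = Ideal.Quotient.mk (𝔠.map ρ) (ρ x) :=
  Ideal.quotientMap_mk

theorem ρbar_comp_mk :
    (ρbar ρ 𝔠).comp (Ideal.Quotient.mk 𝔠) = (Ideal.Quotient.mk (𝔠.map ρ)).comp ρ :=
  Ideal.quotientMap_comp_mk _

theorem map_map_ρbar (𝔟 : Ideal R) :
    (𝔟.map (Ideal.Quotient.mk 𝔠)).map (ρbar ρ 𝔠) =
      (𝔟.map ρ).map (Ideal.Quotient.mk (𝔠.map ρ)) := by
  rw [Ideal.map_map, Ideal.map_map, ρbar_comp_mk]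

theorem pure_bar (hpure : ∀ (𝔟 : Ideal R) (x : R), ρ x ∈ 𝔟.map ρ → x ∈ 𝔟)
    (𝔟' : Ideal (R ⧸ 𝔠)) (x' : R ⧸ 𝔠) (hx : ρbar ρ 𝔠 x' ∈ 𝔟'.map (ρbar ρ 𝔠)) : x' ∈ 𝔟' := by
  obtain ⟨x, rfl⟩ := Ideal.Quotient.mk_surjective x'
  obtain ⟨𝔟, h𝔟⟩ : ∃ 𝔟 : Ideal R, 𝔟 = 𝔟'.comap (Ideal.Quotient.mk 𝔠) := ⟨_, rfl⟩
  have h1 : 𝔟.map (Ideal.Quotient.mk 𝔠) = 𝔟' := by
    rw [h𝔟]
    exact Ideal.map_comap_of_surjective _ Ideal.Quotient.mk_surjective 𝔟'
  have hc𝔟 : 𝔠 ≤ 𝔟 := by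
    intro y hy
    rw [h𝔟, Ideal.mem_comap, Ideal.Quotient.eq_zero_iff_mem.mpr hy]
    exact 𝔟'.zero_mem
  rw [← h1] at hx ⊢
  rw [map_map_ρbar, ρbar_mk] at hx
  have h2 : ρ x ∈ 𝔟.map ρ :=
    Groth.Agent.H3.mem_of_mk_mem_map (𝔠.map ρ) (𝔟.map ρ) (Ideal.map_mono hc𝔟) hx
  exact Ideal.mem_map_of_mem _ (hpure 𝔟 x h2)

theorem app_bar (J' : Ideal R) (τ : R) (N : ℕ) (J : Ideal R) (hJ : J ≤ J' ⊔ Ideal.span {τ})
    (happ : ∀ (N : ℕ) (s : S), ∃ x : R, s - ρ x ∈ (J ^ N).map ρ)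
    (N' : ℕ) (s' : S ⧸ (Ideal.span {τ ^ N}).map ρ) :
    ∃ x' : R ⧸ Ideal.span {τ ^ N}, s' - ρbar ρ (Ideal.span {τ ^ N}) x' ∈
      ((J'.map (Ideal.Quotient.mk (Ideal.span {τ ^ N}))) ^ N').map
        (ρbar ρ (Ideal.span {τ ^ N})) := by
  obtain ⟨s, rfl⟩ := Ideal.Quotient.mk_surjective s'
  obtain ⟨x, hx⟩ := happ (N' + N) s
  refine ⟨Ideal.Quotient.mk _ x, ?_⟩
  rw [ρbar_mk, ← map_sub, ← Ideal.map_pow, map_map_ρbar]
  have h1 : J ^ (N' + N) ≤ J' ^ N' ⊔ Ideal.span {τ ^ N} := by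
    calc J ^ (N' + N) ≤ (J' ⊔ Ideal.span {τ}) ^ (N' + N) := Ideal.pow_right_mono hJ _
      _ ≤ J' ^ N' ⊔ (Ideal.span {τ}) ^ N := Ideal.sup_pow_add_le_pow_sup_pow
      _ = J' ^ N' ⊔ Ideal.span {τ ^ N} := by rw [Ideal.span_singleton_pow]
  have h2 : s - ρ x ∈ (J' ^ N').map ρ ⊔ (Ideal.span {τ ^ N}).map ρ := by
    rw [← Ideal.map_sup]
    exact Ideal.map_mono h1 hx
  obtain ⟨y1, hy1, y2, hy2, hy⟩ := Submodule.mem_sup.mp h2
  rw [← hy, map_add, Ideal.Quotient.eq_zero_iff_mem.mpr hy2, add_zero]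
  exact Ideal.mem_map_of_mem _ hy1

end quot

/-- (IND), with the principal step (P1) as a hypothesis. -/
theorem formal_point_algebraic_of (hP : PrincipalStep.{u}) (r : ℕ) :
    ∀ {R S : Type u} [CommRing R] [CommRing S]
    [IsNoetherianRing S] (ρ : R →+* S) (t : Fin r → R)
    [HenselianRing R (Ideal.span (Set.range t))]
    (_hjac : (Ideal.span (Set.range t)).map ρ ≤ Ideal.jacobson ⊥)
    (_hpure : ∀ (𝔟 : Ideal R) (x : R), ρ x ∈ 𝔟.map ρ → x ∈ 𝔟)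
    (_happ : ∀ (N : ℕ) (s : S), ∃ x : R, s - ρ x ∈ ((Ideal.span (Set.range t)) ^ N).map ρ)
    {n m : ℕ} (f : Fin m → MvPolynomial (Fin n) R) (_hf : ∀ i, UnramAt f (t i))
    (â : Fin n → S) (_hâ : ∀ j, eval₂ ρ â (f j) = 0),
    ∃ a : Fin n → R, ∀ k, ρ (a k) = â k := by
  induction r with
  | zero =>
    intro R S _ _ _ ρ t _ hjac hpure happ n m f hf â hâ
    have h0 : Ideal.span (Set.range t) = ⊥ := by
      rw [Set.range_eq_empty t, Ideal.span_empty]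
    have hx : ∀ k, ∃ x : R, ρ x = â k := by
      intro k
      obtain ⟨x, hx⟩ := happ 1 (â k)
      rw [h0, pow_one, Ideal.map_bot, Ideal.mem_bot, sub_eq_zero] at hx
      exact ⟨x, hx.symm⟩
    choose a ha using hx
    exact ⟨a, ha⟩
  | succ r IH =>
    intro R S _ _ _ ρ t hHens hjac hpure happ n m f hf â hâ
    obtain ⟨J, hJ⟩ : ∃ J : Ideal R, J = Ideal.span (Set.range t) := ⟨_, rfl⟩
    obtain ⟨τ, hτ⟩ : ∃ τ : R, τ = t (Fin.last r) := ⟨_, rfl⟩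
    obtain ⟨t', ht'⟩ : ∃ t' : Fin r → R, t' = fun i => t i.castSucc := ⟨_, rfl⟩
    obtain ⟨J', hJ'⟩ : ∃ J' : Ideal R, J' = Ideal.span (Set.range t') := ⟨_, rfl⟩
    rw [← hJ] at hjac happ
    have hHensJ : HenselianRing R J := by rw [hJ]; exact hHens
    have hτmem : τ ∈ J := by
      rw [hJ, hτ]; exact Ideal.subset_span ⟨Fin.last r, rfl⟩
    have hτJ : Ideal.span {τ} ≤ J := (Ideal.span_singleton_le_iff_mem _).mpr hτmem
    have hJ'J : J' ≤ J := by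
      rw [hJ, hJ', ht']
      exact Ideal.span_mono (by rintro _ ⟨i, rfl⟩; exact ⟨i.castSucc, rfl⟩)
    have hJle : J ≤ J' ⊔ Ideal.span {τ} := by
      rw [hJ, Ideal.span_le]
      rintro _ ⟨i, rfl⟩
      show t i ∈ J' ⊔ Ideal.span {τ}
      refine Fin.lastCases ?_ (fun i => ?_) i
      · rw [← hτ]
        exact (le_sup_right : Ideal.span {τ} ≤ J' ⊔ Ideal.span {τ})
          (Ideal.mem_span_singleton_self τ)
      · refine (le_sup_left : J' ≤ J' ⊔ Ideal.span {τ}) ?_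
        rw [hJ', ht']
        exact Ideal.subset_span ⟨i, rfl⟩
    have hH1 : HenselianRing R (Ideal.span {τ}) :=
      @Groth.Agent.H3.henselianRing_of_le R _ _ J hτJ hHensJ
    have hH2 : HenselianRing R J' := @Groth.Agent.H3.henselianRing_of_le R _ _ J hJ'J hHensJ
    have ht : ρ τ ∈ Ideal.jacobson (⊥ : Ideal S) := hjac (Ideal.mem_map_of_mem ρ hτmem)
    have hpure1 : ∀ (M : ℕ) (x : R), ρ x ∈ Ideal.span {ρ τ ^ M} → x ∈ Ideal.span {τ ^ M} := by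
      intro M x hx
      apply hpure (Ideal.span {τ ^ M}) x
      rw [Ideal.map_span, Set.image_singleton, map_pow]
      exact hx
    have hfτ : UnramAt f τ := by rw [hτ]; exact hf (Fin.last r)
    refine @hP R S _ _ _ ρ τ hH1 ht hpure1 n m f hfτ â hâ ?_
    intro N
    -- the quotient situation
    obtain ⟨𝔠, h𝔠⟩ : ∃ 𝔠 : Ideal R, 𝔠 = Ideal.span {τ ^ N} := ⟨_, rfl⟩
    have hK : Ideal.span (Set.range (fun i => Ideal.Quotient.mk 𝔠 (t' i))) =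
        J'.map (Ideal.Quotient.mk 𝔠) := by
      rw [hJ', Ideal.map_span, ← Set.range_comp]
      rfl
    have hH3 : HenselianRing (R ⧸ 𝔠)
        (Ideal.span (Set.range (fun i => Ideal.Quotient.mk 𝔠 (t' i)))) := by
      rw [hK]
      exact @Groth.Agent.H3.henselianRing_map_of_surjective R _ (R ⧸ 𝔠) _ (Ideal.Quotient.mk 𝔠)
        Ideal.Quotient.mk_surjective J' hH2
    have hjac' : (Ideal.span (Set.range (fun i => Ideal.Quotient.mk 𝔠 (t' i)))).map (ρbar ρ 𝔠) ≤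
        Ideal.jacobson ⊥ := by
      rw [hK, map_map_ρbar]
      exact Groth.Agent.H3.map_le_jacobson_bot (𝔠.map ρ) (J'.map ρ)
        ((Ideal.map_mono hJ'J).trans hjac)
    have happ' : ∀ (N' : ℕ) (s' : S ⧸ 𝔠.map ρ), ∃ x' : R ⧸ 𝔠, s' - ρbar ρ 𝔠 x' ∈
        ((Ideal.span (Set.range (fun i => Ideal.Quotient.mk 𝔠 (t' i)))) ^ N').map (ρbar ρ 𝔠) := by
      rw [hK, h𝔠]
      exact app_bar ρ J' τ N J hJle happ
    have hf' : ∀ i, UnramAt (fun j => MvPolynomial.map (Ideal.Quotient.mk 𝔠) (f j))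
        (Ideal.Quotient.mk 𝔠 (t' i)) := by
      intro i
      have := Groth.Agent.H45.FPA_UBC.unramAt_map (Ideal.Quotient.mk 𝔠) f (t i.castSucc)
        (hf i.castSucc)
      rw [ht']
      exact this
    have hâ' : ∀ j, eval₂ (ρbar ρ 𝔠) (fun k => Ideal.Quotient.mk (𝔠.map ρ) (â k))
        (MvPolynomial.map (Ideal.Quotient.mk 𝔠) (f j)) = 0 := by
      intro j
      rw [MvPolynomial.eval₂_map, ρbar_comp_mk]
      have := MvPolynomial.eval₂_comp_left (Ideal.Quotient.mk (𝔠.map ρ)) ρ â (f j)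
      rw [hâ j, map_zero] at this
      exact this.symm
    obtain ⟨ā, hā⟩ := @IH (R ⧸ 𝔠) (S ⧸ 𝔠.map ρ) _ _ _ (ρbar ρ 𝔠)
      (fun i => Ideal.Quotient.mk 𝔠 (t' i)) hH3 hjac' (pure_bar ρ 𝔠 hpure) happ' n m
      (fun j => MvPolynomial.map (Ideal.Quotient.mk 𝔠) (f j)) hf'
      (fun k => Ideal.Quotient.mk (𝔠.map ρ) (â k)) hâ'
    have hlift : ∀ k, ∃ a : R, Ideal.Quotient.mk 𝔠 a = ā k :=
      fun k => Ideal.Quotient.mk_surjective (ā k)
    choose a ha using hlift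
    refine ⟨a, fun k => ?_⟩
    have h1 := hā k
    rw [← ha k, ρbar_mk, eq_comm, Ideal.Quotient.eq] at h1
    rw [h𝔠, Ideal.map_span, Set.image_singleton, map_pow] at h1
    exact h1

end Groth.Agent.H45.FPA_IND
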