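import Mathlib.RingTheory.Ideal.AssociatedPrime.Basic
import Mathlib.RingTheory.Localization.FractionRing
import Mathlib.RingTheory.Localization.BaseChange
import Mathlib.RingTheory.Localization.LocalizationLocalization
import Mathlib.RingTheory.Flat.Localization
import Mathlib.RingTheory.Flat.Stability

set_option autoImplicit false
universe u
open scoped TensorProduct

namespace Groth.Agent.H45

/-- If `T = M⁻¹B` is flat over `A` and `q` is a prime of `B` missing `M`, then `B_q` is flat over `A`. -/
theorem flat_atPrime_of_isLocalization (A B : Type u) [CommRing A] [CommRing B] [Algebra A B]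
    (M : Submonoid B) (T : Type u) [CommRing T] [Algebra B T] [Algebra A T] [IsScalarTower A B T]
    [IsLocalization M T] (hT : Module.Flat A T)
    (q : Ideal B) [hqp : q.IsPrime] (hq : Disjoint (M : Set B) q) :
    Module.Flat A (Localization.AtPrime q) := by
  let q' : Ideal T := q.map (algebraMap B T)
  have hq'p : q'.IsPrime := IsLocalization.isPrime_of_isPrime_disjoint M T q hqp hq
  have hcomap : q'.comap (algebraMap B T) = q :=
    IsLocalization.under_map_of_isPrime_disjoint M T hqp hq
  have : IsLocalization.AtPrime (Localization.AtPrime q') (q'.comap (algebraMap B T)) :=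
    IsLocalization.isLocalization_isLocalization_atPrime_isLocalization M _ q'
  have hflat3 : Module.Flat T (Localization.AtPrime q') := inferInstance
  have hflat4 : Module.Flat A (Localization.AtPrime q') := Module.Flat.trans A T _
  have key : ∀ (I : Ideal B) [I.IsPrime], I = q →
      IsLocalization.AtPrime (Localization.AtPrime q') I →
      IsLocalization.AtPrime (Localization.AtPrime q') q := by
    intro I _ hI h
    subst hI
    exact h
  have : IsLocalization.AtPrime (Localization.AtPrime q') q := key _ hcomap this
  let e : Localization.AtPrime q ≃ₐ[B] Localization.AtPrime q' :=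
    IsLocalization.algEquiv q.primeCompl _ _
  exact Module.Flat.of_linearEquiv (e.toLinearEquiv.restrictScalars A)

/-- If `T = M⁻¹B` and `P` is a prime of `T` with `B_{P ∩ B}` flat over `A`, then `T_P` is flat over `A`. -/
theorem flat_atPrime_of_comap (A B : Type u) [CommRing A] [CommRing B] [Algebra A B]
    (M : Submonoid B) (T : Type u) [CommRing T] [Algebra B T] [Algebra A T] [IsScalarTower A B T]
    [IsLocalization M T] (P : Ideal T) [hP : P.IsPrime]
    (h : Module.Flat A (Localization.AtPrime (P.comap (algebraMap B T)))) :
    Module.Flat A (Localization.AtPrime P) := by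
  have : IsLocalization.AtPrime (Localization.AtPrime P) (P.comap (algebraMap B T)) :=
    IsLocalization.isLocalization_isLocalization_atPrime_isLocalization M _ P
  let e : Localization.AtPrime (P.comap (algebraMap B T)) ≃ₐ[B] Localization.AtPrime P :=
    IsLocalization.algEquiv (P.comap (algebraMap B T)).primeCompl _ _
  exact Module.Flat.of_linearEquiv (e.symm.toLinearEquiv.restrictScalars A)

attribute [local instance] Algebra.TensorProduct.rightAlgebra

theorem flat_localization_of_disjoint (A B : Type u) [CommRing A] [CommRing B] [Algebra A B]
    (h2 : Module.Flat (FractionRing A) (FractionRing A ⊗[A] B))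
    (q : Ideal B) [hqp : q.IsPrime]
    (hq : Disjoint (Algebra.algebraMapSubmonoid B (nonZeroDivisors A) : Set B) q) :
    Module.Flat A (Localization.AtPrime q) := by
  let K := FractionRing A
  let T := K ⊗[A] B
  let M := Algebra.algebraMapSubmonoid B (nonZeroDivisors A)
  have : IsLocalization M T := IsLocalization.tensorRight (R := A) (S := B) K (nonZeroDivisors A)
  have hflat1 : Module.Flat A K := inferInstance
  have hflat2 : Module.Flat A T := Module.Flat.trans A K T
  exact flat_atPrime_of_isLocalization A B M T hflat2 q hq

end Groth.Agent.H45
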