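import Groth.Prelude.Def_Formal2
import Groth.Prelude.Def_Formal
import Groth.Agent.S0852
import Groth.Agent.S0832
import Groth.Agent.H8.HomBasis

/-!
# Squad piece (KF) for helper5 / S9528

On a Noetherian scheme `X` over `Spec A`, if `V(I) ⊆ V(J)` after pulling back to `X`, then some
power `J^a` kills (on `X`) everything that `I` kills: `smulFamily I M ≫ g = 0 → smulFamily (J^a) M ≫ g = 0`.
-/

set_option autoImplicit false
universe u
open CategoryTheory CategoryTheory.Limits AlgebraicGeometry Opposite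

namespace Groth.Agent.H45.FormalKF

open Groth.Agent.S0852 (ρ)

variable {A : Type u} [CommRing A] {X : Scheme.{u}} [X.Over (Spec (CommRingCat.of A))]

/-- `ρ` is compatible with restriction. -/
theorem res_ρ {V W : X.Opens} (h : V ≤ W) (a : A) :
    X.presheaf.map (homOfLE h).op (ρ W a) = ρ V a := by
  change (X.presheaf.map (homOfLE (le_top : W ≤ ⊤)).op ≫ X.presheaf.map (homOfLE h).op) _ =
    X.presheaf.map (homOfLE (le_top : V ≤ ⊤)).op _
  rw [← X.presheaf.map_comp]
  rfl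

/-- The image under the structure map of the point of `X` given by a prime `p` of `Γ(X, W)`
is the contraction of `p` along `ρ W`. -/
theorem mem_asIdeal_iff {W : X.Opens} (hW : IsAffineOpen W) (p : Spec Γ(X, W)) (a : A) :
    a ∈ ((X ↘ Spec (CommRingCat.of A)) (hW.fromSpec p)).asIdeal ↔ ρ W a ∈ p.asIdeal := by
  have hxW : hW.fromSpec p ∈ W := by
    have h := hW.range_fromSpec
    have : hW.fromSpec p ∈ Set.range hW.fromSpec := Set.mem_range_self p
    rw [h] at this
    exact this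
  have h1 : hW.fromSpec p ∈ X.basicOpen (ρ W a) ↔ ρ W a ∉ p.asIdeal := by
    have h := hW.fromSpec_preimage_basicOpen (ρ W a)
    have h' := SetLike.ext_iff.1 h p
    exact h'
  have h2 : hW.fromSpec p ∈ X.basicOpen (ρ W a) ↔
      a ∉ ((X ↘ Spec (CommRingCat.of A)) (hW.fromSpec p)).asIdeal := by
    have e1 : X.basicOpen (ρ W a) = W ⊓ X.basicOpen ((X ↘ Spec (CommRingCat.of A)).appTop
        ((Scheme.ΓSpecIso (CommRingCat.of A)).inv a)) :=
      X.basicOpen_res ((X ↘ Spec (CommRingCat.of A)).appTop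
        ((Scheme.ΓSpecIso (CommRingCat.of A)).inv a)) (homOfLE (le_top : W ≤ ⊤)).op
    have e2 := Scheme.preimage_basicOpen_top (X ↘ Spec (CommRingCat.of A))
      ((Scheme.ΓSpecIso (CommRingCat.of A)).inv a)
    have e3 := basicOpen_eq_of_affine (R := CommRingCat.of A) a
    have m1 : hW.fromSpec p ∈ X.basicOpen (ρ W a) ↔
        hW.fromSpec p ∈ X.basicOpen ((X ↘ Spec (CommRingCat.of A)).appTop
          ((Scheme.ΓSpecIso (CommRingCat.of A)).inv a)) := by
      rw [e1]
      exact ⟨fun h => h.2, fun h => ⟨hxW, h⟩⟩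
    have m2 : hW.fromSpec p ∈ X.basicOpen ((X ↘ Spec (CommRingCat.of A)).appTop
          ((Scheme.ΓSpecIso (CommRingCat.of A)).inv a)) ↔
        (X ↘ Spec (CommRingCat.of A)) (hW.fromSpec p) ∈
          (Spec (CommRingCat.of A)).basicOpen ((Scheme.ΓSpecIso (CommRingCat.of A)).inv a) := by
      rw [← e2]
      exact Iff.rfl
    have m3 := SetLike.ext_iff.1 e3 ((X ↘ Spec (CommRingCat.of A)) (hW.fromSpec p))
    exact m1.trans (m2.trans m3)
  exact not_iff_not.1 (h2.symm.trans h1)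

theorem map_le_radical {W : X.Opens} (hW : IsAffineOpen W) (I J : Ideal A)
    (hV : (fun x : X => (X ↘ Spec (CommRingCat.of A)) x) ⁻¹' PrimeSpectrum.zeroLocus (I : Set A) ⊆
      (fun x : X => (X ↘ Spec (CommRingCat.of A)) x) ⁻¹' PrimeSpectrum.zeroLocus (J : Set A)) :
    Ideal.map (ρ W) J ≤ (Ideal.map (ρ W) I).radical := by
  rw [Ideal.radical_eq_sInf]
  refine le_sInf fun P hP => ?_
  obtain ⟨hP1, hP2⟩ := hP
  rw [Ideal.map_le_iff_le_comap] at hP1 ⊢
  intro b hb
  let p : Spec Γ(X, W) := ⟨P, hP2⟩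
  have hx : (X ↘ Spec (CommRingCat.of A)) (hW.fromSpec p) ∈
      PrimeSpectrum.zeroLocus (I : Set A) := by
    refine (PrimeSpectrum.mem_zeroLocus _ _).2 ?_
    intro c hc
    exact (mem_asIdeal_iff hW p c).2 (hP1 hc)
  have hx' : (X ↘ Spec (CommRingCat.of A)) (hW.fromSpec p) ∈
      PrimeSpectrum.zeroLocus (J : Set A) := @hV (hW.fromSpec p) hx
  have hx'' := (PrimeSpectrum.mem_zeroLocus _ _).1 hx'
  exact (mem_asIdeal_iff hW p b).1 (hx'' hb)

theorem exists_pow_le [IsLocallyNoetherian X] {W : X.Opens} (hW : IsAffineOpen W) (I J : Ideal A)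
    (hV : (fun x : X => (X ↘ Spec (CommRingCat.of A)) x) ⁻¹' PrimeSpectrum.zeroLocus (I : Set A) ⊆
      (fun x : X => (X ↘ Spec (CommRingCat.of A)) x) ⁻¹' PrimeSpectrum.zeroLocus (J : Set A)) :
    ∃ n : ℕ, Ideal.map (ρ W) J ^ n ≤ Ideal.map (ρ W) I := by
  have : IsNoetherianRing Γ(X, W) := IsLocallyNoetherian.component_noetherian ⟨W, hW⟩
  exact Ideal.exists_pow_le_of_le_radical_of_fg (map_le_radical hW I J hV)
    (_root_.IsNoetherian.noetherian _)

/-- The ideal of functions `r` on `V` such that `g (r • m) = 0` for all sections `m` over `V`. -/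
def killIdeal {M N : X.Modules} (g : M ⟶ N) (V : X.Opens) : Ideal Γ(X, V) where
  carrier := {r | ∀ m : Γ(M, V), g.app V (r • m) = 0}
  add_mem' := by
    intro r r' hr hr' m
    rw [add_smul, map_add, hr m, hr' m, add_zero]
  zero_mem' := by
    intro m
    rw [zero_smul, map_zero]
  smul_mem' := by
    intro s r hr m
    rw [smul_eq_mul, mul_comm, mul_smul]
    exact hr _

theorem exists_pow_sub {A : Type u} [CommRing A] (X : Scheme.{u}) [X.Over (Spec (CommRingCat.of A))] [IsNoetherian X] (I J : Ideal A)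
    (hV : (fun x : X => (X ↘ Spec (CommRingCat.of A)) x) ⁻¹' PrimeSpectrum.zeroLocus (I : Set A) ⊆
      (fun x : X => (X ↘ Spec (CommRingCat.of A)) x) ⁻¹' PrimeSpectrum.zeroLocus (J : Set A)) :
    ∃ a : ℕ, ∀ ⦃M N : X.Modules⦄ (g : M ⟶ N), Formal.smulFamily I M ≫ g = 0 → Formal.smulFamily (J ^ a) M ≫ g = 0 := by
  classical
  have key : ∀ W : X.affineOpens, ∃ n : ℕ,
      Ideal.map (ρ (A := A) W.1) J ^ n ≤ Ideal.map (ρ W.1) I :=
    fun W => exists_pow_le W.2 I J hV
  choose n hn using key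
  obtain ⟨t, ht⟩ := isCompact_univ.elim_finite_subcover
    (fun W : X.affineOpens => (W.1 : Set X)) (fun W => W.1.isOpen) (by
      intro x _
      obtain ⟨U, hU, hxU, -⟩ := Groth.Agent.S0852.exists_affine_nbhd (W := ⊤) (x := x) trivial
      exact Set.mem_iUnion.2 ⟨⟨U, hU⟩, hxU⟩)
  refine ⟨t.sup n, fun M N g hg => ?_⟩
  rw [Groth.Agent.S0832.smulFamily_comp_eq_zero_iff] at hg ⊢
  intro y hy
  have hB : TopologicalSpace.Opens.IsBasis (Set.range
      (fun i : {V : X.Opens // ∃ W ∈ t, V ≤ (W : X.affineOpens).1} => i.1)) := by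
    rw [TopologicalSpace.Opens.isBasis_iff_nbhd]
    intro U x hx
    have hxt := ht (Set.mem_univ x)
    simp only [Set.mem_iUnion] at hxt
    obtain ⟨W, hWt, hxW⟩ := hxt
    exact ⟨U ⊓ W.1, ⟨⟨U ⊓ W.1, W, hWt, inf_le_right⟩, rfl⟩, ⟨hx, hxW⟩, inf_le_left⟩
  refine Groth.Agent.H8.HomBasis.hom_ext_of_basis M N hB _ _ (fun i m => ?_)
  obtain ⟨V, W, hWt, hVW⟩ := i
  change g.app V ((Formal.smulMod A M y).app V m) = 0
  rw [Groth.Agent.S0852.smulMod_app]
  have hyW : ρ W.1 y ∈ Ideal.map (ρ W.1) I := by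
    have h1 : ρ W.1 y ∈ Ideal.map (ρ W.1) (J ^ (t.sup n)) := Ideal.mem_map_of_mem _ hy
    rw [Ideal.map_pow] at h1
    exact hn W (Ideal.pow_le_pow_right (Finset.le_sup hWt) h1)
  let r : Γ(X, W.1) →+* Γ(X, V) := (X.presheaf.map (homOfLE hVW).op).hom
  have hle : Ideal.map (ρ W.1) I ≤ Ideal.comap r (killIdeal g V) := by
    rw [Ideal.map_le_iff_le_comap]
    intro c hc
    change r (ρ W.1 c) ∈ killIdeal g V
    rw [show r (ρ W.1 c) = ρ V c from res_ρ hVW c]
    change ∀ m : Γ(M, V), g.app V (ρ V c • m) = 0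
    intro m'
    exact congrArg (fun φ : M ⟶ N => φ.app V m') (hg c hc)
  have h4 : r (ρ W.1 y) ∈ killIdeal g V := hle hyW
  rw [show r (ρ W.1 y) = ρ V y from res_ρ hVW y] at h4
  exact h4 m

end Groth.Agent.H45.FormalKF
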