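import Groth.Agent.H45.FormalKF

/-!
# Squad piece (KF2) for helper5 / S0833

On a Noetherian scheme `X` over `Spec A`, every ideal `J` of `A` contains a finitely generated
ideal `J'` which kills (on `X`) exactly as much as `J`.
-/

set_option autoImplicit false
universe u
open CategoryTheory CategoryTheory.Limits AlgebraicGeometry Opposite

namespace Groth.Agent.H45.FormalKF2

open Groth.Agent.S0852 (ρ)
open Groth.Agent.H45.FormalKF

variable {A : Type u} [CommRing A] {X : Scheme.{u}} [X.Over (Spec (CommRingCat.of A))]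

/-- Local-to-global: if on each member `W` of a finite affine cover `ρ W y` lies in the extension
of `I'`, and `g` is killed by `I'`, then `g` is killed by `y`. -/
theorem smulMod_comp_eq_zero_of_cover (t : Finset X.affineOpens)
    (ht : (Set.univ : Set X) ⊆ ⋃ W ∈ t, ((W : X.affineOpens).1 : Set X)) (I' : Ideal A) (y : A)
    (hy : ∀ W ∈ t, ρ (W : X.affineOpens).1 y ∈ Ideal.map (ρ W.1) I') {M N : X.Modules} (g : M ⟶ N)
    (hg : ∀ c ∈ I', Formal.smulMod A M c ≫ g = 0) : Formal.smulMod A M y ≫ g = 0 := by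
  have hB : TopologicalSpace.Opens.IsBasis (Set.range
      (fun i : {V : X.Opens // ∃ W ∈ t, V ≤ (W : X.affineOpens).1} => i.1)) := by
    rw [TopologicalSpace.Opens.isBasis_iff_nbhd]
    intro U x hx
    have hxt := ht (Set.mem_univ x)
    simp only [Set.mem_iUnion] at hxt
    obtain ⟨W, hWt, hxW⟩ := hxt
    exact ⟨U ⊓ W.1, ⟨⟨U ⊓ W.1, W, hWt, inf_le_right⟩, rfl⟩, ⟨hx, hxW⟩, inf_le_left⟩
  refine Groth.Agent.H8.HomBasis.hom_ext_of_basis M N hB _ _ (fun i m => ?_)
  obtain ⟨V, W, hWt, hVW⟩ := i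
  change g.app V ((Formal.smulMod A M y).app V m) = 0
  rw [Groth.Agent.S0852.smulMod_app]
  let r : Γ(X, W.1) →+* Γ(X, V) := (X.presheaf.map (homOfLE hVW).op).hom
  have hle : Ideal.map (ρ W.1) I' ≤ Ideal.comap r (killIdeal g V) := by
    rw [Ideal.map_le_iff_le_comap]
    intro c hc
    change r (ρ W.1 c) ∈ killIdeal g V
    rw [show r (ρ W.1 c) = ρ V c from res_ρ hVW c]
    change ∀ m : Γ(M, V), g.app V (ρ V c • m) = 0
    intro m'
    exact congrArg (fun φ : M ⟶ N => φ.app V m') (hg c hc)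
  have h4 : r (ρ W.1 y) ∈ killIdeal g V := hle (hy W hWt)
  rw [show r (ρ W.1 y) = ρ V y from res_ρ hVW y] at h4
  exact h4 m

theorem exists_finset_map_le [IsLocallyNoetherian X] {W : X.Opens} (hW : IsAffineOpen W)
    (J : Ideal A) :
    ∃ S : Finset A, (S : Set A) ⊆ (J : Set A) ∧
      Ideal.map (ρ W) J ≤ Ideal.map (ρ W) (Ideal.span (S : Set A)) := by
  classical
  have : IsNoetherianRing Γ(X, W) := IsLocallyNoetherian.component_noetherian ⟨W, hW⟩
  have hfg : (Ideal.map (ρ W) J).FG := _root_.IsNoetherian.noetherian _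
  have hfg' : (Submodule.span Γ(X, W) ((ρ W) '' (J : Set A))).FG := hfg
  obtain ⟨T, hT1, hT2⟩ := (Submodule.fg_span_iff_fg_span_finset_subset _).1 hfg'
  obtain ⟨S, hS1, hS2⟩ := Finset.subset_set_image_iff.1 hT1
  refine ⟨S, hS1, ?_⟩
  rw [Ideal.map_span]
  change Submodule.span Γ(X, W) ((ρ W) '' (J : Set A)) ≤ _
  rw [hT2, ← hS2, Finset.coe_image]

theorem exists_fg_sub {A : Type u} [CommRing A] (X : Scheme.{u}) [X.Over (Spec (CommRingCat.of A))]
    [IsNoetherian X] (J : Ideal A) :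
    ∃ J' : Ideal A, J' ≤ J ∧ J'.FG ∧ ∀ ⦃M N : X.Modules⦄ (g : M ⟶ N),
      Formal.smulFamily J' M ≫ g = 0 → Formal.smulFamily J M ≫ g = 0 := by
  classical
  have key : ∀ W : X.affineOpens, ∃ S : Finset A, (S : Set A) ⊆ (J : Set A) ∧
      Ideal.map (ρ (A := A) W.1) J ≤ Ideal.map (ρ W.1) (Ideal.span (S : Set A)) :=
    fun W => exists_finset_map_le W.2 J
  choose S hS1 hS2 using key
  obtain ⟨t, ht⟩ := isCompact_univ.elim_finite_subcover
    (fun W : X.affineOpens => (W.1 : Set X)) (fun W => W.1.isOpen) (by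
      intro x _
      obtain ⟨U, hU, hxU, -⟩ := Groth.Agent.S0852.exists_affine_nbhd (W := ⊤) (x := x) trivial
      exact Set.mem_iUnion.2 ⟨⟨U, hU⟩, hxU⟩)
  refine ⟨Ideal.span ((t.biUnion S : Finset A) : Set A), ?_, ⟨t.biUnion S, rfl⟩, fun M N g hg => ?_⟩
  · rw [Ideal.span_le]
    intro b hb
    rw [Finset.mem_coe, Finset.mem_biUnion] at hb
    obtain ⟨W, _, hbW⟩ := hb
    exact hS1 W hbW
  · rw [Groth.Agent.S0832.smulFamily_comp_eq_zero_iff] at hg ⊢
    intro y hy
    refine smulMod_comp_eq_zero_of_cover t ht _ y (fun W hWt => ?_) g hg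
    have h1 : ρ W.1 y ∈ Ideal.map (ρ W.1) J := Ideal.mem_map_of_mem _ hy
    refine Ideal.map_mono (Ideal.span_mono ?_) (hS2 W h1)
    intro b hb
    rw [Finset.mem_coe, Finset.mem_biUnion]
    exact ⟨W, hWt, hb⟩

end Groth.Agent.H45.FormalKF2
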