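import Groth.Agent.S6514
import Groth.Agent.H8.PullbackFaithful
import Groth.Prelude.Def_FlatFun
import Mathlib.AlgebraicGeometry.Sites.Fpqc

/-!
# Helper library (helper45): fpqc descent of properties of module maps, and `genPSp` sheaves

* `eq_zero_iff_of_flat_jointly_surjective`, `epi_iff_…`, `mono_iff_…`, `isIso_iff_…` : a jointly
  surjective family of flat morphisms `h i : Yi i ⟶ Y` detects zero / epi / mono / iso maps of
  `O_Y`-modules after pullback.
* `exists_baseChange_family` : for `f : X ⟶ S` and an fpqc covering family `T_i ⟶ T` over `S`, the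
  base-changed family `X_{T_i} ⟶ X_T` is flat and jointly surjective, compatibly with the
  projections to `X`.
* `map_eq_zero_iff_of_natIso`, `epi_map_iff_of_natIso`, `mono_map_iff_of_natIso`,
  `isIso_map_iff_of_natIso`.
* `isSheaf_genPSp` : `FlatFun.genPSp S P` is an fpqc sheaf if `P` is stable under base change and
  descends along fpqc covering families.
-/

set_option autoImplicit false
set_option linter.style.haveILetI false
universe u
open AlgebraicGeometry CategoryTheory Limits Opposite

namespace Groth.Agent.H45.FpqcModDescent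

section NatIso

variable {A B : Type*} [Category A] [Category B] {P Q : A ⥤ B} (α : P ≅ Q) {M N : A} (u : M ⟶ N)

include α

theorem mono_map_iff_of_natIso : Mono (P.map u) ↔ Mono (Q.map u) := by
  constructor
  · intro h
    rw [← NatIso.naturality_1 α u]
    infer_instance
  · intro h
    rw [← NatIso.naturality_2 α u]
    infer_instance

theorem epi_map_iff_of_natIso : Epi (P.map u) ↔ Epi (Q.map u) := by
  constructor
  · intro h
    rw [← NatIso.naturality_1 α u]
    infer_instance
  · intro h
    rw [← NatIso.naturality_2 α u]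
    infer_instance

theorem isIso_map_iff_of_natIso : IsIso (P.map u) ↔ IsIso (Q.map u) := by
  constructor
  · intro h
    rw [← NatIso.naturality_1 α u]
    infer_instance
  · intro h
    rw [← NatIso.naturality_2 α u]
    infer_instance

theorem map_eq_zero_iff_of_natIso [HasZeroMorphisms B] : P.map u = 0 ↔ Q.map u = 0 := by
  constructor
  · intro h
    rw [← NatIso.naturality_1 α u, h, zero_comp, comp_zero]
  · intro h
    rw [← NatIso.naturality_2 α u, h, zero_comp, comp_zero]

end NatIso

section Detect

variable {Y : Scheme.{u}} {ι : Type*} {Yi : ι → Scheme.{u}}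
  (h : ∀ i, Yi i ⟶ Y) [∀ i, Flat (h i)] (hsurj : ∀ y : Y, ∃ (i : ι) (z : Yi i), (h i) z = y)
  {A B : Y.Modules} (v : A ⟶ B)

include hsurj

theorem eq_zero_iff_of_flat_jointly_surjective :
    v = 0 ↔ ∀ i, (Scheme.Modules.pullback (h i)).map v = 0 := by
  constructor
  · intro hv i
    haveI : (Scheme.Modules.pullback (h i)).IsLeftAdjoint :=
      (Scheme.Modules.pullbackPushforwardAdjunction (h i)).isLeftAdjoint
    haveI : (Scheme.Modules.pullback (h i)).Additive :=
      Functor.additive_of_preserves_binary_products _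
    rw [hv, Functor.map_zero]
  · intro hall
    apply Groth.Agent.H8.eq_zero_of_stk_map_eq_zero
    intro y
    obtain ⟨i, z, rfl⟩ := hsurj y
    exact Groth.Agent.H8.stk_map_eq_zero_of_pullback_map_eq_zero (h i) z (Flat.stalkMap (h i) z) v
      (hall i)

theorem isZero_iff_of_flat_jointly_surjective (Q : Y.Modules) :
    IsZero Q ↔ ∀ i, IsZero ((Scheme.Modules.pullback (h i)).obj Q) := by
  constructor
  · intro hQ i
    exact Functor.map_isZero _ hQ
  · intro hall
    rw [IsZero.iff_id_eq_zero, eq_zero_iff_of_flat_jointly_surjective h hsurj]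
    intro i
    exact (hall i).eq_of_src _ _

theorem mono_iff_of_flat_jointly_surjective :
    Mono v ↔ ∀ i, Mono ((Scheme.Modules.pullback (h i)).map v) := by
  constructor
  · intro hv i
    exact Groth.Agent.S6514.mono_pullback_map (h i) v
  · intro hall
    refine Preadditive.mono_of_cancel_zero v (fun {P} g hg => ?_)
    rw [eq_zero_iff_of_flat_jointly_surjective h hsurj]
    intro i
    haveI : (Scheme.Modules.pullback (h i)).IsLeftAdjoint :=
      (Scheme.Modules.pullbackPushforwardAdjunction (h i)).isLeftAdjoint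
    haveI : (Scheme.Modules.pullback (h i)).Additive :=
      Functor.additive_of_preserves_binary_products _
    haveI := hall i
    rw [← cancel_mono ((Scheme.Modules.pullback (h i)).map v), ← Functor.map_comp, hg,
      Functor.map_zero, zero_comp]

theorem epi_iff_of_flat_jointly_surjective :
    Epi v ↔ ∀ i, Epi ((Scheme.Modules.pullback (h i)).map v) := by
  constructor
  · intro hv i
    haveI : (Scheme.Modules.pullback (h i)).IsLeftAdjoint :=
      (Scheme.Modules.pullbackPushforwardAdjunction (h i)).isLeftAdjoint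
    infer_instance
  · intro hall
    refine Preadditive.epi_of_cancel_zero v (fun {P} g hg => ?_)
    rw [eq_zero_iff_of_flat_jointly_surjective h hsurj]
    intro i
    haveI : (Scheme.Modules.pullback (h i)).IsLeftAdjoint :=
      (Scheme.Modules.pullbackPushforwardAdjunction (h i)).isLeftAdjoint
    haveI : (Scheme.Modules.pullback (h i)).Additive :=
      Functor.additive_of_preserves_binary_products _
    haveI := hall i
    rw [← cancel_epi ((Scheme.Modules.pullback (h i)).map v), ← Functor.map_comp, hg,
      Functor.map_zero, comp_zero]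

theorem isIso_iff_of_flat_jointly_surjective :
    IsIso v ↔ ∀ i, IsIso ((Scheme.Modules.pullback (h i)).map v) := by
  constructor
  · intro hv i
    infer_instance
  · intro hall
    haveI : Mono v := (mono_iff_of_flat_jointly_surjective h hsurj v).2
      (fun i => haveI := hall i; inferInstance)
    haveI : Epi v := (epi_iff_of_flat_jointly_surjective h hsurj v).2
      (fun i => haveI := hall i; inferInstance)
    exact isIso_of_mono_of_epi v

end Detect

section BaseChange

/-- The base-changed family of an fpqc covering family is flat and jointly surjective. -/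
theorem exists_baseChange_family {X S : Scheme.{u}} (f : X ⟶ S) (T : Over S) {ι : Type*}
    (Ti : ι → Over S) (g : ∀ i, Ti i ⟶ T)
    (hcov : Presieve.ofArrows (fun i => (Ti i).left) (fun i => (g i).left) ∈
      Scheme.fpqcPrecoverage T.left) :
    ∃ h : ∀ i, pullback f (Ti i).hom ⟶ pullback f T.hom,
      (∀ i, Flat (h i)) ∧
      (∀ y : ↑(pullback f T.hom), ∃ (i : ι) (z : ↑(pullback f (Ti i).hom)), (h i) z = y) ∧
      ∀ i, h i ≫ pullback.fst f T.hom = pullback.fst f (Ti i).hom := by
  have hcov' := (Scheme.propQCPrecoverage_le_precoverage (P := @Flat)) _ hcov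
  obtain ⟨hjs, hfl⟩ := (Scheme.ofArrows_mem_precoverage_iff (P := @Flat)).1 hcov'
  let h : ∀ i, pullback f (Ti i).hom ⟶ pullback f T.hom := fun i =>
    pullback.map f (Ti i).hom f T.hom (𝟙 X) (g i).left (𝟙 S) (by simp)
      (by rw [Category.comp_id, Over.w])
  have hfst : ∀ i, h i ≫ pullback.fst f T.hom = pullback.fst f (Ti i).hom := fun i =>
    (pullback.lift_fst _ _ _).trans (Category.comp_id _)
  have hsnd : ∀ i, h i ≫ pullback.snd f T.hom = pullback.snd f (Ti i).hom ≫ (g i).left :=
    fun i => pullback.lift_snd _ _ _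
  have sq : ∀ i, IsPullback (h i) (pullback.snd f (Ti i).hom) (pullback.snd f T.hom) (g i).left := by
    intro i
    refine IsPullback.of_right (h₁₂ := pullback.fst f T.hom) (v₁₃ := f) (h₂₂ := T.hom) ?_ (hsnd i)
      (IsPullback.of_hasPullback f T.hom)
    rw [hfst i, Over.w]
    exact IsPullback.of_hasPullback f (Ti i).hom
  refine ⟨h, fun i => MorphismProperty.of_isPullback (P := @Flat) (sq i).flip (hfl i), ?_, hfst⟩
  intro y
  obtain ⟨i, ti, hti⟩ := hjs ((pullback.snd f T.hom) y)
  obtain ⟨z', hz1, -⟩ := Scheme.Pullback.exists_preimage_pullback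
    (f := pullback.snd f T.hom) (g := (g i).left) y ti hti.symm
  refine ⟨i, (sq i).isoPullback.inv z', ?_⟩
  rw [← hz1, ← Scheme.Hom.comp_apply, IsPullback.isoPullback_inv_fst]

end BaseChange

section Sheaf

/-- `genPSp S P` is an fpqc sheaf when `P` is stable under base change and descends along fpqc
covering families. -/
theorem isSheaf_genPSp {S : Scheme.{u}} (P : Over S → Prop)
    (hstab : ∀ ⦃T T₀ : Over S⦄ (_ : T ⟶ T₀), P T₀ → P T)
    (hdesc : ∀ (T : Over S) (ι : Type (u + 1)) (Ti : ι → Over S) (g : ∀ i, Ti i ⟶ T),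
      Presieve.ofArrows (fun i => (Ti i).left) (fun i => (g i).left) ∈
        Scheme.fpqcPrecoverage T.left → (∀ i, P (Ti i)) → P T) :
    Presheaf.IsSheaf (QuotSh.J Scheme.fpqcPrecoverage S) (FlatFun.genPSp S P) := by
  rw [isSheaf_iff_isSheaf_of_type]
  show Presieve.IsSheaf ((Scheme.fpqcPrecoverage.toGrothendieck).over S) _
  rw [CategoryTheory.over_toGrothendieck_eq_toGrothendieck_comap_forget,
    ← Precoverage.toGrothendieck_toPretopology_eq_toGrothendieck, Presieve.isSheaf_pretopology]
  intro X R hR
  simp only [Precoverage.toPretopology_toPrecoverage, Precoverage.mem_comap_iff,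
    Over.forget_obj] at hR
  obtain ⟨ι, Y, f, rfl⟩ := R.exists_eq_ofArrows
  rw [Presieve.map_ofArrows] at hR
  intro x hx
  have hPT : P X := hdesc X ι Y f hR
    (fun i => (FlatFun.genPSp_nonempty_iff_of_stable P hstab (Y i)).1 ⟨x (f i) ⟨i⟩⟩)
  obtain ⟨t⟩ := FlatFun.genPSp_nonempty_of P hPT
  exact ⟨t, fun _ _ _ => Subsingleton.elim _ _, fun _ _ => Subsingleton.elim _ _⟩

/-- Generic form: a property `Q` of maps of modules which is preserved by pullback, invariant under
natural isomorphism of functors, and descends along flat jointly surjective families gives an fpqc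
sheaf `T ↦ Q (u_T)`. -/
theorem isSheaf_genPSp_of_prop
    (Q : ∀ {Z : Scheme.{u}} {A B : Z.Modules}, (A ⟶ B) → Prop)
    (hQfun : ∀ {Z Z' : Scheme.{u}} (h : Z' ⟶ Z) {A B : Z.Modules} (v : A ⟶ B),
      Q v → Q ((Scheme.Modules.pullback h).map v))
    (hQiso : ∀ {Z W : Scheme.{u}} {P₁ P₂ : Z.Modules ⥤ W.Modules} (_ : P₁ ≅ P₂) {A B : Z.Modules}
      (v : A ⟶ B), Q (P₁.map v) ↔ Q (P₂.map v))
    (hQdesc : ∀ {Y : Scheme.{u}} {ι : Type (u + 1)} {Yi : ι → Scheme.{u}} (h : ∀ i, Yi i ⟶ Y)
      [∀ i, Flat (h i)] (_ : ∀ y : Y, ∃ (i : ι) (z : Yi i), (h i) z = y) {A B : Y.Modules}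
      (v : A ⟶ B), (∀ i, Q ((Scheme.Modules.pullback (h i)).map v)) → Q v)
    {X S : Scheme.{u}} (f : X ⟶ S) {F G : X.Modules} (u : F ⟶ G) :
    Presheaf.IsSheaf (QuotSh.J Scheme.fpqcPrecoverage S)
      (FlatFun.genPSp S (fun T => Q ((Scheme.Modules.pullback (pullback.fst f T.hom)).map u))) := by
  apply isSheaf_genPSp
  · intro T T₀ k hT₀
    let h : pullback f T.hom ⟶ pullback f T₀.hom :=
      pullback.map f T.hom f T₀.hom (𝟙 X) k.left (𝟙 S) (by simp) (by rw [Category.comp_id, Over.w])
    have hfst : h ≫ pullback.fst f T₀.hom = pullback.fst f T.hom :=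
      (pullback.lift_fst _ _ _).trans (Category.comp_id _)
    exact (hQiso (Scheme.Modules.pullbackComp h (pullback.fst f T₀.hom) ≪≫
      Scheme.Modules.pullbackCongr hfst) u).1 (hQfun h _ hT₀)
  · intro T ι Ti g hcov hall
    obtain ⟨h, hflat, hsurj, hfst⟩ := exists_baseChange_family f T Ti g hcov
    haveI := hflat
    refine hQdesc h hsurj _ (fun i => ?_)
    exact (hQiso (Scheme.Modules.pullbackComp (h i) (pullback.fst f T.hom) ≪≫
      Scheme.Modules.pullbackCongr (hfst i)) u).2 (hall i)

end Sheaf

end Groth.Agent.H45.FpqcModDescent
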