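import Mathlib
import Groth.Prelude.Def_SGA1
import Groth.Agent.S2908

/-!
# (A) for helper79's S2919 squad: translates of a section of a finite quotient

`section_translates`: for a quotient `p : X ⟶ Y` by a finite group acting freely on geometric
points and a section `s` of `p`, the translates of `s(Y)` cover `X` and `g · s(Y)` is disjoint
from `s(Y)` for `g ≠ 1`.
-/

set_option autoImplicit false
universe u
open CategoryTheory CategoryTheory.Limits AlgebraicGeometry

namespace Groth.Agent.H45.FreeSec_A

/-- A morphism from the spectrum of a field to `X` whose image lies in the range of a closed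
immersion `s` factors through `s`. -/
theorem exists_lift_of_mem_range {X Y : Scheme.{u}} (s : Y ⟶ X) [IsClosedImmersion s]
    (K : Type u) [Field K] (ξ : Spec (CommRingCat.of K) ⟶ X)
    (h : ∀ z : Spec (CommRingCat.of K), ξ.base z ∈ Set.range s.base) :
    ∃ ζ : Spec (CommRingCat.of K) ⟶ Y, ζ ≫ s = ξ := by
  have hcl : IsClosedImmersion (pullback.fst ξ s) := inferInstance
  have hsurj : Surjective (pullback.fst ξ s) := by
    refine ⟨fun z => ?_⟩
    obtain ⟨y, hy⟩ := h z
    obtain ⟨w, hw, -⟩ := Scheme.Pullback.exists_preimage_pullback (f := ξ) (g := s) z y hy.symm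
    exact ⟨w, hw⟩
  have hred : IsReduced (Spec (CommRingCat.of K)) := inferInstance
  have hiso : IsIso (pullback.fst ξ s) := isIso_of_isClosedImmersion_of_surjective _
  refine ⟨inv (pullback.fst ξ s) ≫ pullback.snd ξ s, ?_⟩
  rw [Category.assoc, ← pullback.condition, IsIso.inv_hom_id_assoc]

theorem section_translates {X Y : Scheme.{u}} {G : Type u} [Group G] [Finite G] (ρ : G →* Aut X)
    (p : X ⟶ Y) (hp : SGA1.IsQuot ρ p)
    (hfree : ∀ (K : Type u) [Field K] [IsAlgClosed K] (ξ : Spec (CommRingCat.of K) ⟶ X) (g : G),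
      ξ ≫ (ρ g).hom = ξ → g = 1) (s : Y ⟶ X) (hs : s ≫ p = 𝟙 Y) :
    (∀ x : X, ∃ g : G, (ρ g).hom.base x ∈ Set.range s.base) ∧
      (∀ g : G, g ≠ 1 → ∀ x : X, x ∈ Set.range s.base →
        (ρ g).hom.base x ∉ Set.range s.base) := by
  have hps : ∀ y : Y, p.base (s.base y) = y := fun y => by
    rw [← Scheme.Hom.comp_apply, hs]; rfl
  obtain ⟨-, horb, -⟩ := Groth.Agent.S2908.result ρ p hp
  refine ⟨fun x => ?_, ?_⟩
  · obtain ⟨g, hg⟩ := (horb x (s.base (p.base x))).mp (hps _).symm
    exact ⟨g, p.base x, hg.symm⟩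
  · rintro g hg x ⟨y, rfl⟩ ⟨y', hy'⟩
    apply hg
    have hinv : ∀ z : X, p.base ((ρ g).hom.base z) = p.base z := fun z => by
      rw [← Scheme.Hom.comp_apply, hp.inv g]
    have hyy : y' = y := by
      have h1 := congrArg p.base hy'
      rw [hps, hinv, hps] at h1
      exact h1
    subst hyy
    have haff : IsAffineHom p := hp.affine
    have hcl0 : IsClosedImmersion (s ≫ p) := by rw [hs]; infer_instance
    have hcl : IsClosedImmersion s := IsClosedImmersion.of_comp s p
    let K := AlgebraicClosure (Y.residueField y')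
    let η : Spec (CommRingCat.of K) ⟶ Y :=
      Spec.map (CommRingCat.ofHom (algebraMap (Y.residueField y') K)) ≫
        Y.fromSpecResidueField y'
    have hη : ∀ z, η.base z = y' := fun z => by
      have h1 : η.base z ∈ Set.range (Y.fromSpecResidueField y').base :=
        ⟨(Spec.map (CommRingCat.ofHom (algebraMap (Y.residueField y') K))).base z, rfl⟩
      rw [Scheme.range_fromSpecResidueField] at h1
      exact h1
    have hmem : ∀ z, ((η ≫ s) ≫ (ρ g).hom).base z ∈ Set.range s.base := fun z => by
      refine ⟨y', ?_⟩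
      rw [hy']
      show _ = (ρ g).hom.base (s.base (η.base z))
      rw [hη z]
    obtain ⟨ζ, hζ⟩ := exists_lift_of_mem_range s K ((η ≫ s) ≫ (ρ g).hom) hmem
    have hζη : ζ = η := by
      calc ζ = ζ ≫ s ≫ p := by rw [hs, Category.comp_id]
        _ = ((η ≫ s) ≫ (ρ g).hom) ≫ p := by rw [← hζ, Category.assoc]
        _ = η := by rw [Category.assoc, hp.inv g, Category.assoc, hs, Category.comp_id]
    refine hfree K (η ≫ s) g ?_
    rw [← hζ, hζη]

end Groth.Agent.H45.FreeSec_A
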