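import Mathlib
import Groth.Prelude.Def_FDesc

/-!
# (VAL) for helper11's S0435 squad: a `K`-point at a generization `y'` of `y` extends to a valuation
ring of `K` whose closed point maps to `y`
-/

set_option autoImplicit false
set_option linter.style.haveILetI false
universe u
open CategoryTheory CategoryTheory.Limits AlgebraicGeometry

namespace Groth.Agent.H45.GRO_VAL

set_option backward.isDefEq.respectTransparency.types false in
theorem exists_valuationRing_extension {Y : Scheme.{u}} {y' y : Y} (hyy : y' ⤳ y)
    (K : Type u) [Field K] (t : Spec (CommRingCat.of K) ⟶ Y)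
    (ht : ∀ z : Spec (CommRingCat.of K), t.base z = y') :
    ∃ (V : Type u) (_ : CommRing V) (_ : IsDomain V) (_ : ValuationRing V) (_ : Algebra V K)
      (_ : IsFractionRing V K) (g : Spec (CommRingCat.of V) ⟶ Y),
      Spec.map (CommRingCat.ofHom (algebraMap V K)) ≫ g = t ∧
      g.base (IsLocalRing.closedPoint V) = y := by
  have hx0 : t.base (IsLocalRing.closedPoint K) = y' := ht _
  have h0 : t.base (IsLocalRing.closedPoint K) ⤳ y := by rw [hx0]; exact hyy
  let φ : Y.presheaf.stalk y ⟶ CommRingCat.of K :=
    Y.presheaf.stalkSpecializes h0 ≫ Scheme.stalkClosedPointTo t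
  have hφ : Spec.map φ ≫ Y.fromSpecStalk y = t := by
    rw [Spec.map_comp, Category.assoc, Scheme.SpecMap_stalkSpecializes_fromSpecStalk,
      Scheme.Spec_stalkClosedPointTo_fromSpecStalk]
  obtain ⟨A, hA, hA_local⟩ := IsLocalRing.exists_factor_valuationRing φ.hom
  let ψ : Y.presheaf.stalk y ⟶ CommRingCat.of A :=
    CommRingCat.ofHom (φ.hom.codRestrict _ hA)
  have hψ : ψ ≫ CommRingCat.ofHom (algebraMap A K) = φ := by
    ext x; rfl
  refine ⟨A, inferInstance, inferInstance, inferInstance, inferInstance, inferInstance,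
    Spec.map ψ ≫ Y.fromSpecStalk y, ?_, ?_⟩
  · rw [← Category.assoc, ← Spec.map_comp, hψ, hφ]
  · have h1 : Spec.map ψ (IsLocalRing.closedPoint A) =
        IsLocalRing.closedPoint (Y.presheaf.stalk y) :=
      IsLocalRing.comap_closedPoint (S := A) (φ.hom.codRestrict A.toSubring hA)
    simp only [Scheme.Hom.comp_base, TopCat.coe_comp, Function.comp_apply]
    rw [h1, Y.fromSpecStalk_closedPoint]

end Groth.Agent.H45.GRO_VAL
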