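import Groth.Agent.H45.ExtUnit
import Groth.Agent.H31.StalkTensorIso
import Groth.Agent.H31.StalkKFlat
import Groth.Prelude.Def_DCoh4

/-!
# `Hom(F, I)` is flasque for `I` injective (helper45 library)

* `mono_of_stk` : monomorphisms of modules on a ringed space can be checked on stalks.
* `iota hUV : j_{U!} O_U ⟶ j_{V!} O_V` for `U ≤ V`, with
  `extUnitHomEquiv_iota_comp` : precomposition with `iota` is restriction of sections.
* `isZero_stk_extZeroUnit`, `isIso_stk_iota` : the stalks of `iota`.
* `mono_tensor_iota` : `F ⊗ iota` is a monomorphism for every `F`.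
* `sheafHom_flasque`.
-/

set_option autoImplicit false
set_option backward.isDefEq.respectTransparency false
set_option linter.style.haveILetI false
universe u
open CategoryTheory CategoryTheory.Limits AlgebraicGeometry Opposite TopologicalSpace MonoidalCategory

namespace Groth.Agent.H45.HomFlasque

open Groth.Agent.H31 Groth.Agent.H31.Stalk Groth.Agent.H40.StalkTensor Groth.Agent.H40.FlatBridge2
  Groth.Agent.H45.ExtUnit

section Top

variable {T : TopCat.{u}} {O : Sheaf (Opens.grothendieckTopology T) CommRingCat.{u}}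

/-- Monomorphisms can be checked on stalks. -/
theorem mono_of_stk {M N : ModSite.Mod O} (φ : M ⟶ N)
    (h : ∀ x : T, Mono ((stk O x).map φ)) : Mono φ := by
  apply Preadditive.mono_of_isZero_kernel
  apply isZero_of_stk
  intro x
  haveI := h x
  exact (isZero_kernel_of_mono ((stk O x).map φ)).of_iso (PreservesKernel.iso (stk O x) φ)

end Top

variable {X : Scheme.{u}}

/-- The generator of `j_{V!} O_V` over `V`. -/
noncomputable def gen (V : X.Opens) : (CxOX.extZeroUnit V.ι).val.obj (op V) :=
  extUnitHomEquiv V _ (𝟙 _)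

/-- The canonical map `j_{U!} O_U ⟶ j_{V!} O_V` for `U ≤ V`. -/
noncomputable def iota {U V : X.Opens} (hUV : U ≤ V) :
    CxOX.extZeroUnit U.ι ⟶ CxOX.extZeroUnit V.ι :=
  (extUnitHomEquiv U _).symm ((CxOX.extZeroUnit V.ι).val.map (homOfLE hUV).op (gen V))

theorem extUnitHomEquiv_iota_comp {U V : X.Opens} (hUV : U ≤ V) {M : X.Modules}
    (b : CxOX.extZeroUnit V.ι ⟶ M) :
    extUnitHomEquiv U M (iota hUV ≫ b) =
      M.val.map (homOfLE hUV).op (extUnitHomEquiv V M b) := by
  have h1 := extUnitHomEquiv_comp U (iota hUV) b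
  have h2 : extUnitHomEquiv U _ (iota hUV) =
      (CxOX.extZeroUnit V.ι).val.map (homOfLE hUV).op (gen V) :=
    Equiv.apply_symm_apply _ _
  have h3 := PresheafOfModules.naturality_apply b.val (homOfLE hUV).op (gen V)
  have h4 : b.val.app (op V) (gen V) = extUnitHomEquiv V M b := by
    have h5 := extUnitHomEquiv_comp V (𝟙 _) b
    rw [Category.id_comp] at h5
    exact h5.symm
  exact h1.trans ((congrArg (fun t => b.val.app (op U) t) h2).trans
    (h3.trans (congrArg (fun t => M.val.map (homOfLE hUV).op t) h4)))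

section Stalks

variable (x : X)

theorem isZero_stk_extZeroUnit (U : X.Opens) (hx : x ∉ U) :
    IsZero ((stk (shX X) x).obj (CxOX.extZeroUnit U.ι)) := by
  rw [IsZero.iff_id_eq_zero]
  apply ((adj (shX X) x).homEquiv _ _).injective
  apply (extUnitHomEquiv U _).injective
  haveI : IsEmpty (PLift (x ∈ U)) := ⟨fun h => hx h.down⟩
  haveI hs : Subsingleton (((skyF (shX X) x).obj
      ((stk (shX X) x).obj (CxOX.extZeroUnit U.ι))).val.obj (op U)) :=
    inferInstanceAs (Subsingleton (PLift (x ∈ U) →
      ((stk (shX X) x).obj (CxOX.extZeroUnit U.ι))))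
  exact Subsingleton.elim _ _

theorem bijective_sky_res (P : ModuleCat.{u} (Rx (shX X).obj x)) {U V : X.Opens} (hUV : U ≤ V)
    (hx : x ∈ U) :
    Function.Bijective (((skyF (shX X) x).obj P).val.map (homOfLE hUV).op) := by
  constructor
  · intro s t hst
    refine funext (fun h => ?_)
    exact congrFun hst ⟨hx⟩
  · intro t
    exact ⟨(show SkSec x P V from fun _ => (t : SkSec x P U) ⟨hx⟩), funext fun h => rfl⟩

theorem isIso_stk_iota {U V : X.Opens} (hUV : U ≤ V) (hx : x ∈ U) :
    IsIso ((stk (shX X) x).map (iota hUV)) := by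
  apply isIso_of_coyoneda_map_bijective
  intro P
  let eW : ∀ W : X.Opens, ((stk (shX X) x).obj (CxOX.extZeroUnit W.ι) ⟶ P) ≃
      ((skyF (shX X) x).obj P).val.obj (op W) :=
    fun W => ((adj (shX X) x).homEquiv _ _).trans (extUnitHomEquiv W _)
  have key : ∀ c, eW U ((stk (shX X) x).map (iota hUV) ≫ c) =
      ((skyF (shX X) x).obj P).val.map (homOfLE hUV).op (eW V c) := by
    intro c
    have h1 : (adj (shX X) x).homEquiv _ _ ((stk (shX X) x).map (iota hUV) ≫ c) =
        iota hUV ≫ (adj (shX X) x).homEquiv _ _ c :=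
      Adjunction.homEquiv_naturality_left _ _ _
    exact (congrArg (fun t => extUnitHomEquiv U _ t) h1).trans (extUnitHomEquiv_iota_comp hUV _)
  have hres := bijective_sky_res x P hUV hx
  have hfun : (fun c : (stk (shX X) x).obj (CxOX.extZeroUnit V.ι) ⟶ P =>
      (stk (shX X) x).map (iota hUV) ≫ c) =
      (eW U).symm ∘ (((skyF (shX X) x).obj P).val.map (homOfLE hUV).op) ∘ (eW V) := by
    funext c
    apply (eW U).injective
    refine (key c).trans ?_
    exact (Equiv.apply_symm_apply _ _).symm
  rw [hfun]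
  exact (eW U).symm.bijective.comp (hres.comp (eW V).bijective)

end Stalks

/-- `F ⊗ (j_{U!} O_U ⟶ j_{V!} O_V)` is a monomorphism. -/
theorem mono_tensor_iota (F : X.Modules) {U V : X.Opens} (hUV : U ≤ V) :
    Mono (((DCoh.tensorBi (X := X)).obj F).map (iota hUV)) := by
  apply mono_of_stk (O := shX X)
  intro x
  have hnat := τ_natural_right (shX X) x F (iota hUV)
  have hm : Mono ((stk (shX X) x).obj F ◁ (stk (shX X) x).map (iota hUV)) := by
    by_cases hx : x ∈ U
    · haveI := isIso_stk_iota x hUV hx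
      infer_instance
    · exact (Functor.map_isZero (tensorLeft ((stk (shX X) x).obj F))
        (isZero_stk_extZeroUnit x U hx)).mono _
  haveI : Mono ((stk (shX X) x).map (((ModSite.tensorBi (shX X)).obj F).map (iota hUV)) ≫
      (τ (shX X) x F (CxOX.extZeroUnit V.ι)).hom) := by
    rw [hnat]
    infer_instance
  show Mono ((stk (shX X) x).map (((ModSite.tensorBi (shX X)).obj F).map (iota hUV)))
  exact mono_of_mono _ (τ (shX X) x F (CxOX.extZeroUnit V.ι)).hom

/-- `Hom(F, I)` is flasque when `I` is injective. -/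
theorem sheafHom_flasque (F I : X.Modules) [DCoh.HasSheafHom F] (hI : Injective I)
    (U V : X.Opens) (hUV : U ≤ V) :
    Function.Surjective (((DCoh.sheafHom F).obj I).val.map (homOfLE hUV).op).hom := by
  intro s
  haveI := hI
  haveI := mono_tensor_iota F hUV
  let a : CxOX.extZeroUnit U.ι ⟶ (DCoh.sheafHom F).obj I :=
    (extUnitHomEquiv U ((DCoh.sheafHom F).obj I)).symm s
  let a' := ((DCoh.sheafHomAdj F).homEquiv _ _).symm a
  let b' := Injective.factorThru a' (((DCoh.tensorBi (X := X)).obj F).map (iota hUV))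
  have hb' : ((DCoh.tensorBi (X := X)).obj F).map (iota hUV) ≫ b' = a' :=
    Injective.comp_factorThru _ _
  let b := (DCoh.sheafHomAdj F).homEquiv _ _ b'
  have hb : iota hUV ≫ b = a := by
    have h1 : (DCoh.sheafHomAdj F).homEquiv _ _
        (((DCoh.tensorBi (X := X)).obj F).map (iota hUV) ≫ b') = iota hUV ≫ b :=
      Adjunction.homEquiv_naturality_left _ _ _
    rw [← h1, hb']
    exact Equiv.apply_symm_apply _ _
  refine ⟨extUnitHomEquiv V ((DCoh.sheafHom F).obj I) b, ?_⟩
  have h2 := extUnitHomEquiv_iota_comp hUV b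
  rw [hb] at h2
  exact h2.symm.trans (Equiv.apply_symm_apply _ _)

end Groth.Agent.H45.HomFlasque
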