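import Mathlib
import Groth.Prelude.Def_EtLim
import Groth.Agent.H67.HpullBC.Defs

/-!
# (M) for helper67's S14389 squad: the mate identity for `Theta` and `baseChange0`
-/

set_option autoImplicit false
universe u
open CategoryTheory CategoryTheory.Limits AlgebraicGeometry Opposite
open Groth.Agent.H67.HpullBC

namespace Groth.Agent.H45.HpullBC_M

section Abstract

variable {C D : Type*} [Category C] [Category D]

/-- (L1) `leftAdjointUniq` is compatible with adjunct maps. -/
theorem leftAdjointUniq_hom_app_comp {F F' : C ⥤ D} {G : D ⥤ C} (adj1 : F ⊣ G) (adj2 : F' ⊣ G)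
    {x : C} {y : D} (ψ : x ⟶ G.obj y) :
    (Adjunction.leftAdjointUniq adj1 adj2).hom.app x ≫ (adj2.homEquiv x y).symm ψ =
      (adj1.homEquiv x y).symm ψ := by
  rw [Adjunction.homEquiv_counit, Adjunction.homEquiv_counit, ← Category.assoc,
    ← NatTrans.naturality, Category.assoc, Adjunction.leftAdjointUniq_hom_app_counit]

theorem leftAdjointUniq_inv_app_comp {F F' : C ⥤ D} {G : D ⥤ C} (adj1 : F ⊣ G) (adj2 : F' ⊣ G)
    {x : C} {y : D} (ψ : x ⟶ G.obj y) :
    (Adjunction.leftAdjointUniq adj1 adj2).inv.app x ≫ (adj1.homEquiv x y).symm ψ =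
      (adj2.homEquiv x y).symm ψ := by
  rw [← leftAdjointUniq_hom_app_comp adj1 adj2 ψ, Iso.inv_hom_id_app_assoc]

end Abstract

set_option backward.isDefEq.respectTransparency false in
set_option backward.defeqAttrib.useBackward true in
theorem pullbackCongr_rfl_hom_app {X Y : Scheme.{u}} (c : X ⟶ Y) (U : EtCoh.etaleMP.Over ⊤ Y) :
    (MorphismProperty.Over.pullbackCongr (P := EtCoh.etaleMP) (Q := ⊤)
      (rfl : c = c)).hom.app U = 𝟙 _ := by
  ext
  refine pullback.hom_ext ?_ ?_ <;> simp [MorphismProperty.Over.pullbackCongr]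

theorem pullbackCongr_rfl_inv_app {X Y : Scheme.{u}} (c : X ⟶ Y) (U : EtCoh.etaleMP.Over ⊤ Y) :
    (MorphismProperty.Over.pullbackCongr (P := EtCoh.etaleMP) (Q := ⊤)
      (rfl : c = c)).inv.app U = 𝟙 _ := by
  have h0 := (MorphismProperty.Over.pullbackCongr (P := EtCoh.etaleMP) (Q := ⊤)
    (rfl : c = c)).inv_hom_id_app U
  rw [pullbackCongr_rfl_hom_app, Category.comp_id] at h0
  exact h0

theorem pushCongr_rfl_hom_app {X Y : Scheme.{u}} (c : X ⟶ Y) (K : EtCoh.Ab X) :
    (EtCoh.pushCongr (rfl : c = c)).hom.app K = 𝟙 _ := by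
  apply Sheaf.hom_ext
  ext U : 2
  show K.obj.map ((MorphismProperty.Over.pullbackCongr (P := EtCoh.etaleMP) (Q := ⊤)
      (rfl : c = c)).inv.app U.unop).op = 𝟙 _
  exact (congrArg (fun t => K.obj.map (Quiver.Hom.op t))
    (pullbackCongr_rfl_inv_app c (unop U))).trans (K.obj.map_id _)

theorem congr_lemma {X Y : Scheme.{u}} {c c' : X ⟶ Y} (h : c = c') (P : EtCoh.Ab Y)
    (K : EtCoh.Ab X) (χ₀ : P ⟶ (EtCoh.push c).obj K) :
    (EtCore.pullCongr h).hom.app P ≫
        ((EtCoh.pullPushAdj c').homEquiv P K).symm (χ₀ ≫ (EtCoh.pushCongr h).hom.app K) =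
      ((EtCoh.pullPushAdj c).homEquiv P K).symm χ₀ := by
  subst h
  rw [pushCongr_rfl_hom_app, Category.comp_id]
  simp [EtCore.pullCongr]

variable {X Y X' Y' : Scheme.{u}} (f : X ⟶ Y) (g : Y' ⟶ Y) (f' : X' ⟶ Y') (g' : X' ⟶ X)
  (w : g' ≫ f = f' ≫ g)

theorem s1 (P : EtCoh.Ab Y) (K : EtCoh.Ab X')
    (ψ : P ⟶ (EtCoh.push g' ⋙ EtCoh.push f).obj K) :
    (((EtCoh.pullPushAdj g).comp (EtCoh.pullPushAdj f')).homEquiv P K).symm
      (ψ ≫ (EtCoh.pushComp f g').hom.app K ≫ (EtCoh.pushCongr w).hom.app K ≫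
            (EtCoh.pushComp g f').inv.app K) =
      ((((EtCoh.pullPushAdj g).comp (EtCoh.pullPushAdj f')).ofNatIsoRight
        (EtCoh.pushComp g f')).homEquiv P K).symm
          ((ψ ≫ (EtCoh.pushComp f g').hom.app K) ≫ (EtCoh.pushCongr w).hom.app K) := by
  rw [Adjunction.homEquiv_ofNatIsoRight_symm_apply]
  simp only [Category.assoc]

theorem s2 (P : EtCoh.Ab Y) (K : EtCoh.Ab X') (χ : P ⟶ (EtCoh.push (f' ≫ g)).obj K) :
    (EtCore.pullComp f' g).hom.app P ≫
      ((((EtCoh.pullPushAdj g).comp (EtCoh.pullPushAdj f')).ofNatIsoRight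
        (EtCoh.pushComp g f')).homEquiv P K).symm χ =
      ((EtCoh.pullPushAdj (f' ≫ g)).homEquiv P K).symm χ :=
  leftAdjointUniq_hom_app_comp _ _ _

theorem s4 (P : EtCoh.Ab Y) (K : EtCoh.Ab X') (χ : P ⟶ (EtCoh.push (g' ≫ f)).obj K) :
    (EtCore.pullComp g' f).inv.app P ≫
      ((EtCoh.pullPushAdj (g' ≫ f)).homEquiv P K).symm χ =
      ((((EtCoh.pullPushAdj f).comp (EtCoh.pullPushAdj g')).ofNatIsoRight
        (EtCoh.pushComp f g')).homEquiv P K).symm χ :=
  leftAdjointUniq_inv_app_comp _ _ _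

theorem s5 (P : EtCoh.Ab Y) (K : EtCoh.Ab X')
    (ψ : P ⟶ (EtCoh.push g' ⋙ EtCoh.push f).obj K) :
    ((((EtCoh.pullPushAdj f).comp (EtCoh.pullPushAdj g')).ofNatIsoRight
        (EtCoh.pushComp f g')).homEquiv P K).symm (ψ ≫ (EtCoh.pushComp f g').hom.app K) =
      (((EtCoh.pullPushAdj f).comp (EtCoh.pullPushAdj g')).homEquiv P K).symm ψ := by
  rw [Adjunction.homEquiv_ofNatIsoRight_symm_apply, Category.assoc, Iso.hom_inv_id_app,
    Category.comp_id]

theorem t1 : (Theta f g f' g' w) =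
    (EtCore.pullComp g' f).symm ≪≫ EtCore.pullCongr w ≪≫ EtCore.pullComp f' g := by
  rw [Theta]

theorem t2 : (Theta f g f' g' w).hom =
    (EtCore.pullComp g' f).inv ≫ (EtCore.pullCongr w).hom ≫ (EtCore.pullComp f' g).hom := by
  rw [t1]; simp only [Iso.trans_hom, Iso.symm_hom]

theorem t3 (P : EtCoh.Ab Y) :
    ((EtCore.pullComp g' f).inv ≫ (EtCore.pullCongr w).hom ≫ (EtCore.pullComp f' g).hom).app P =
      (EtCore.pullComp g' f).inv.app P ≫ (EtCore.pullCongr w).hom.app P ≫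
        (EtCore.pullComp f' g).hom.app P := by
  simp only [NatTrans.comp_app]

theorem s0 (P : EtCoh.Ab Y) :
    (Theta f g f' g' w).hom.app P = (EtCore.pullComp g' f).inv.app P ≫
      (EtCore.pullCongr w).hom.app P ≫ (EtCore.pullComp f' g).hom.app P :=
  (congrArg (fun t => NatTrans.app t P) (t2 f g f' g' w)).trans (t3 f g f' g' w P)

/-- `Theta` is conjugate to the composite isomorphism of direct images. -/
theorem theta_conj (P : EtCoh.Ab Y) (K : EtCoh.Ab X')
    (ψ : P ⟶ (EtCoh.push g' ⋙ EtCoh.push f).obj K) :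
    (Theta f g f' g' w).hom.app P ≫
        ((((EtCoh.pullPushAdj g).comp (EtCoh.pullPushAdj f')).homEquiv P K).symm
          (ψ ≫ (EtCoh.pushComp f g').hom.app K ≫ (EtCoh.pushCongr w).hom.app K ≫
            (EtCoh.pushComp g f').inv.app K)) =
      (((EtCoh.pullPushAdj f).comp (EtCoh.pullPushAdj g')).homEquiv P K).symm ψ := by
  rw [s0, s1, Category.assoc, Category.assoc, s2,
    congr_lemma w P K (ψ ≫ (EtCoh.pushComp f g').hom.app K), s4, s5]

/-- (M) mate identity. -/
theorem mate_counit (F : EtCoh.Ab X) :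
    (Theta f g f' g' w).hom.app ((EtCoh.push f).obj F) ≫
        (EtCoh.pull f').map (EtCoh.baseChange0 f g f' g' w F) ≫
          (EtCoh.pullPushAdj f').counit.app ((EtCoh.pull g').obj F) =
      (EtCoh.pull g').map ((EtCoh.pullPushAdj f).counit.app F) := by
  have h1 : (EtCoh.pull f').map (EtCoh.baseChange0 f g f' g' w F) ≫
      (EtCoh.pullPushAdj f').counit.app ((EtCoh.pull g').obj F) =
      (((EtCoh.pullPushAdj g).comp (EtCoh.pullPushAdj f')).homEquiv _ _).symm
        ((EtCoh.push f).map ((EtCoh.pullPushAdj g').unit.app F) ≫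
          (EtCoh.pushComp f g').hom.app _ ≫ (EtCoh.pushCongr w).hom.app _ ≫
            (EtCoh.pushComp g f').inv.app _) := by
    rw [Adjunction.comp_homEquiv]
    simp only [Equiv.symm_trans_apply]
    rw [Adjunction.homEquiv_counit (adj := EtCoh.pullPushAdj f')]
    rfl
  have h2 : (EtCoh.pull g').map ((EtCoh.pullPushAdj f).counit.app F) =
      (((EtCoh.pullPushAdj f).comp (EtCoh.pullPushAdj g')).homEquiv _ _).symm
        ((EtCoh.push f).map ((EtCoh.pullPushAdj g').unit.app F)) := by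
    rw [Adjunction.comp_homEquiv]
    simp only [Equiv.symm_trans_apply]
    rw [Adjunction.homEquiv_counit (adj := EtCoh.pullPushAdj g'),
      Adjunction.homEquiv_counit (adj := EtCoh.pullPushAdj f), Adjunction.counit_naturality,
      Functor.map_comp, Category.assoc]
    simp
  rw [h1, h2]
  exact theta_conj f g f' g' w _ _ _

end Groth.Agent.H45.HpullBC_M
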