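import Mathlib
import Groth.Prelude.Def_EtLim
import Groth.Agent.H67.HpullBC.Defs
import Groth.Agent.H45.HpullBC_M

/-!
# (U) for helper67's S14389 squad: coherence of `pullConst` with `Theta`
-/

set_option autoImplicit false
universe u
open CategoryTheory CategoryTheory.Limits AlgebraicGeometry Opposite
open Groth.Agent.H67.HpullBC

namespace Groth.Agent.H45.HpullBC_U

open Groth.Agent.H45.HpullBC_M

theorem pullConstIso_hom_app_comp {A B : Scheme.{u}} (a : A ⟶ B) (N : AddCommGrpCat.{u+1})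
    (G : EtCoh.Ab A) (ψ : N ⟶ (EtCore.gsec A).obj G) :
    (EtCore.pullConstIso a).hom.app N ≫ ((EtCore.constAdj A).homEquiv N G).symm ψ =
      ((EtCoh.pullPushAdj a).homEquiv _ _).symm
        (((EtCore.constAdj B).homEquiv _ _).symm (ψ ≫ (EtCore.pushGsecIso a).inv.app G)) := by
  rw [EtCore.pullConstIso, leftAdjointUniq_hom_app_comp,
    Adjunction.homEquiv_ofNatIsoRight_symm_apply, Adjunction.comp_homEquiv]
  rfl

theorem two_step {A B C : Scheme.{u}} (a : A ⟶ B) (b : B ⟶ C) (N : AddCommGrpCat.{u+1})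
    (K : EtCoh.Ab A) (ψ₀ : N ⟶ (EtCore.gsec A).obj K) :
    (EtCoh.pull a).map ((EtCore.pullConstIso b).hom.app N) ≫
        (EtCore.pullConstIso a).hom.app N ≫ ((EtCore.constAdj A).homEquiv N K).symm ψ₀ =
      (((EtCoh.pullPushAdj b).comp (EtCoh.pullPushAdj a)).homEquiv _ K).symm
        (((EtCore.constAdj C).homEquiv N _).symm
          (ψ₀ ≫ (EtCore.pushGsecIso a).inv.app K ≫
            (EtCore.pushGsecIso b).inv.app ((EtCoh.push a).obj K))) := by
  rw [pullConstIso_hom_app_comp, ← Adjunction.homEquiv_naturality_left_symm,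
    pullConstIso_hom_app_comp, Adjunction.comp_homEquiv, Category.assoc]
  rfl

variable {X Y X' Y' : Scheme.{u}} (f : X ⟶ Y) (g : Y' ⟶ Y) (f' : X' ⟶ Y') (g' : X' ⟶ X)
  (w : g' ≫ f = f' ≫ g)

theorem h1 {A B : Scheme.{u}} (a : A ⟶ B) (K : EtCoh.Ab A) :
    (EtCore.pushGsecIso a).inv.app K = K.obj.map (EtCore.bcTopIso a).hom.op := rfl

theorem h2 (K : EtCoh.Ab X') :
    (EtCore.gsec Y).map ((EtCoh.pushComp f g').hom.app K) =
      K.obj.map ((MorphismProperty.Over.pullbackComp (P := EtCoh.etaleMP) (Q := ⊤) g' f).hom.app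
        (EtCoh.top Y)).op := by
  show 𝟙 _ ≫ K.obj.map _ = _
  rw [Category.id_comp]
  rfl

theorem h3 (K : EtCoh.Ab X') :
    (EtCore.gsec Y).map ((EtCoh.pushCongr w).hom.app K) =
      K.obj.map ((MorphismProperty.Over.pullbackCongr (P := EtCoh.etaleMP) (Q := ⊤) w).inv.app
        (EtCoh.top Y)).op := rfl

theorem h4 (K : EtCoh.Ab X') :
    (EtCore.gsec Y).map ((EtCoh.pushComp g f').inv.app K) =
      K.obj.map ((MorphismProperty.Over.pullbackComp (P := EtCoh.etaleMP) (Q := ⊤) f' g).inv.app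
        (EtCoh.top Y)).op := by
  show K.obj.map _ ≫ 𝟙 _ = _
  rw [Category.comp_id]
  rfl

theorem sec_identity (K : EtCoh.Ab X') :
    (EtCore.pushGsecIso f').inv.app K ≫ (EtCore.pushGsecIso g).inv.app ((EtCoh.push f').obj K) =
      (EtCore.pushGsecIso g').inv.app K ≫ (EtCore.pushGsecIso f).inv.app ((EtCoh.push g').obj K) ≫
        (EtCore.gsec Y).map ((EtCoh.pushComp f g').hom.app K ≫ (EtCoh.pushCongr w).hom.app K ≫
          (EtCoh.pushComp g f').inv.app K) := by
  rw [Functor.map_comp, Functor.map_comp, h2, h3, h4, h1, h1, h1, h1]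
  show K.obj.map _ ≫ K.obj.map _ = K.obj.map _ ≫ K.obj.map _ ≫ K.obj.map _ ≫ K.obj.map _ ≫ K.obj.map _
  have hR : ∀ {a b c d e h : X'.Etaleᵒᵖ} (m1 : a ⟶ b) (m2 : b ⟶ c) (m3 : c ⟶ d) (m4 : d ⟶ e)
      (m5 : e ⟶ h), K.obj.map m1 ≫ K.obj.map m2 ≫ K.obj.map m3 ≫ K.obj.map m4 ≫ K.obj.map m5 =
        K.obj.map (m1 ≫ m2 ≫ m3 ≫ m4 ≫ m5) := by
    intros; simp only [Functor.map_comp]
  have hL : ∀ {a b c : X'.Etaleᵒᵖ} (m1 : a ⟶ b) (m2 : b ⟶ c),
      K.obj.map m1 ≫ K.obj.map m2 = K.obj.map (m1 ≫ m2) := by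
    intros; simp only [Functor.map_comp]
  refine (hL _ _).trans (Eq.trans ?_ (hR _ _ _ _ _).symm)
  congr 1
  exact Quiver.Hom.unop_inj ((EtCore.topIsTerminal X').hom_ext _ _)

theorem two_step_unit {A B C : Scheme.{u}} (a : A ⟶ B) (b : B ⟶ C) (N : AddCommGrpCat.{u+1}) :
    (EtCoh.pull a).map ((EtCore.pullConstIso b).hom.app N) ≫
        (EtCore.pullConstIso a).hom.app N =
      (((EtCoh.pullPushAdj b).comp (EtCoh.pullPushAdj a)).homEquiv _ _).symm
        (((EtCore.constAdj C).homEquiv N _).symm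
          ((EtCore.constAdj A).unit.app N ≫ (EtCore.pushGsecIso a).inv.app _ ≫
            (EtCore.pushGsecIso b).inv.app ((EtCoh.push a).obj _))) := by
  have hid : ((EtCore.constAdj A).homEquiv N _).symm ((EtCore.constAdj A).unit.app N) = 𝟙 _ := by
    rw [← Adjunction.homEquiv_id, Equiv.symm_apply_apply]
  have h := two_step a b N _ ((EtCore.constAdj A).unit.app N)
  rw [hid, Category.comp_id] at h
  exact h

theorem omega_eq (N : AddCommGrpCat.{u+1}) (K : EtCoh.Ab X') (ψ₀ : N ⟶ (EtCore.gsec X').obj K) :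
    ((EtCore.constAdj Y).homEquiv N ((EtCoh.push f' ⋙ EtCoh.push g).obj K)).symm
        (ψ₀ ≫ (EtCore.pushGsecIso f').inv.app K ≫
          (EtCore.pushGsecIso g).inv.app ((EtCoh.push f').obj K)) =
      ((EtCore.constAdj Y).homEquiv N ((EtCoh.push g' ⋙ EtCoh.push f).obj K)).symm
        (ψ₀ ≫ (EtCore.pushGsecIso g').inv.app K ≫
          (EtCore.pushGsecIso f).inv.app ((EtCoh.push g').obj K)) ≫
        ((EtCoh.pushComp f g').hom.app K ≫ (EtCoh.pushCongr w).hom.app K ≫
          (EtCoh.pushComp g f').inv.app K) := by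
  rw [← Adjunction.homEquiv_naturality_right_symm]
  refine congrArg _ ?_
  simp only [Category.assoc]
  rw [sec_identity f g f' g' w]

theorem pullConstIso_theta (N : AddCommGrpCat.{u+1}) :
    (Theta f g f' g' w).hom.app ((constantSheaf Y.smallEtaleTopology AddCommGrpCat.{u+1}).obj N) ≫
        (EtCoh.pull f').map ((EtCore.pullConstIso g).hom.app N) ≫
          (EtCore.pullConstIso f').hom.app N =
      (EtCoh.pull g').map ((EtCore.pullConstIso f).hom.app N) ≫
        (EtCore.pullConstIso g').hom.app N := by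
  rw [two_step_unit g' f N, two_step_unit f' g N, omega_eq f g f' g' w]
  exact theta_conj f g f' g' w _ _ _

end Groth.Agent.H45.HpullBC_U
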