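import Mathlib
import Groth.Prelude.Def_EtLim
import Groth.Agent.H67.HpullBC.Defs
import Groth.Agent.H45.HpullBC_M
import Groth.Agent.H45.HpullBC_U

/-!
# (U) for helper67's S14389 squad, exact form: coherence of `pullConst` with `Theta`
-/

set_option autoImplicit false
universe u
open CategoryTheory CategoryTheory.Limits AlgebraicGeometry Opposite
open Groth.Agent.H67.HpullBC

namespace Groth.Agent.H45.HpullBC_U2

open Groth.Agent.H45.HpullBC_M Groth.Agent.H45.HpullBC_U

theorem T1 {A B : Scheme.{u}} (a : A ⟶ B) (M : Type) [AddCommGroup M]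
    (G : EtCoh.Ab A) (ψ : AddCommGrpCat.of (ULift.{u+1} M) ⟶ (EtCore.gsec A).obj G) :
    (EtCore.pullConst a M).hom ≫
        ((EtCore.constAdj A).homEquiv (AddCommGrpCat.of (ULift.{u+1} M)) G).symm ψ =
      ((EtCoh.pullPushAdj a).homEquiv (EtCoh.const B M) G).symm
        (((EtCore.constAdj B).homEquiv (AddCommGrpCat.of (ULift.{u+1} M)) _).symm
          (ψ ≫ (EtCore.pushGsecIso a).inv.app G)) :=
  pullConstIso_hom_app_comp a _ G ψ

theorem T2 {A B C : Scheme.{u}} (a : A ⟶ B) (b : B ⟶ C) (M : Type) [AddCommGroup M]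
    (K : EtCoh.Ab A) (ψ₀ : AddCommGrpCat.of (ULift.{u+1} M) ⟶ (EtCore.gsec A).obj K) :
    (EtCoh.pull a).map (EtCore.pullConst b M).hom ≫
        (EtCore.pullConst a M).hom ≫
          ((EtCore.constAdj A).homEquiv (AddCommGrpCat.of (ULift.{u+1} M)) K).symm ψ₀ =
      (((EtCoh.pullPushAdj b).comp (EtCoh.pullPushAdj a)).homEquiv (EtCoh.const C M) K).symm
        (((EtCore.constAdj C).homEquiv (AddCommGrpCat.of (ULift.{u+1} M)) _).symm
          (ψ₀ ≫ (EtCore.pushGsecIso a).inv.app K ≫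
            (EtCore.pushGsecIso b).inv.app ((EtCoh.push a).obj K))) := by
  rw [T1, ← Adjunction.homEquiv_naturality_left_symm, T1, Adjunction.comp_homEquiv,
    Category.assoc]
  rfl

theorem T3 {A B C : Scheme.{u}} (a : A ⟶ B) (b : B ⟶ C) (M : Type) [AddCommGroup M] :
    (EtCoh.pull a).map (EtCore.pullConst b M).hom ≫ (EtCore.pullConst a M).hom =
      (((EtCoh.pullPushAdj b).comp (EtCoh.pullPushAdj a)).homEquiv (EtCoh.const C M)
          (EtCoh.const A M)).symm
        (((EtCore.constAdj C).homEquiv (AddCommGrpCat.of (ULift.{u+1} M)) _).symm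
          ((EtCore.constAdj A).unit.app (AddCommGrpCat.of (ULift.{u+1} M)) ≫
            (EtCore.pushGsecIso a).inv.app (EtCoh.const A M) ≫
            (EtCore.pushGsecIso b).inv.app ((EtCoh.push a).obj (EtCoh.const A M)))) := by
  have hid : ((EtCore.constAdj A).homEquiv (AddCommGrpCat.of (ULift.{u+1} M))
      (EtCoh.const A M)).symm ((EtCore.constAdj A).unit.app (AddCommGrpCat.of (ULift.{u+1} M))) =
      𝟙 (EtCoh.const A M) := by
    rw [← Adjunction.homEquiv_id, Equiv.symm_apply_apply]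
  have h := T2 a b M (EtCoh.const A M) ((EtCore.constAdj A).unit.app (AddCommGrpCat.of (ULift.{u+1} M)))
  rw [hid, Category.comp_id] at h
  exact h

variable {X Y X' Y' : Scheme.{u}} (f : X ⟶ Y) (g : Y' ⟶ Y) (f' : X' ⟶ Y') (g' : X' ⟶ X)
  (w : g' ≫ f = f' ≫ g)

/-- (U) coherence of `pullConst` with `Theta`. -/
theorem pullConst_theta (M : Type) [AddCommGroup M] :
    (Theta f g f' g' w).hom.app (EtCoh.const Y M) ≫
        (EtCoh.pull f').map (EtCore.pullConst g M).hom ≫ (EtCore.pullConst f' M).hom =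
      (EtCoh.pull g').map (EtCore.pullConst f M).hom ≫ (EtCore.pullConst g' M).hom := by
  rw [T3 g' f M, T3 f' g M, omega_eq f g f' g' w]
  exact theta_conj f g f' g' w _ _ _

end Groth.Agent.H45.HpullBC_U2
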