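import Groth.Agent.H45.SectSuppLC

/-!
# Helper library (helper45): degree zero comparison for local cohomology sheaves with support in a
locally closed subset
-/

set_option autoImplicit false
universe u
open CategoryTheory CategoryTheory.Limits Opposite TopologicalSpace

namespace Groth.Agent.H45.SectSuppLC

open Groth.Agent.H45.LocCohZLib Groth.Agent.H5.LocCohZSS Groth.Agent.H45.DeltaIso

variable {X : TopCat.{u}} {W V : Opens X} (h : W ≤ V)

/-- The kernel description of the sections of `Γ_Z(F)` over `V'`, `Z = V ∖ W`. -/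
noncomputable def secA (F : CohTop.Ab X) (V' : Opens X) :
    ((SuppFam.sectSuppLC h).obj F).obj.obj (op V') ≃+
      LocCohZ.sectZ F (jV_mono (interOpen_le (SuppFam.inOpen V W) (VY (V := V) V'))) :=
  secKer (SuppFam.inOpen V W) (CohTop.restr F V) (VY (V := V) V')

lemma secA_val (F : CohTop.Ab X) (V' : Opens X)
    (s : ((SuppFam.sectSuppLC h).obj F).obj.obj (op V')) :
    (secA h F V' s).1 =
      ((ιZ (SuppFam.inOpen V W) (CohTop.restr F V)).hom.app (op (VY (V := V) V'))).hom s := rfl

/-- The degree zero comparison, sectionwise. -/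
noncomputable def e₀ (F : CohTop.Ab X) (V' : Opens X) :
    ((SuppFam.sectSuppLC h).obj F).obj.obj (op V') ≃+ LocCohZ.HZ F 0 (pairLE h V') :=
  (secA h F V').trans ((kerCongr F _ (pairLE h V') (jV_inter h V') (jV_VY V')).trans
    (LocCohZ.sect0Equiv F (pairLE h V')).symm)

lemma sect0Equiv_e₀ (F : CohTop.Ab X) (V' : Opens X)
    (s : ((SuppFam.sectSuppLC h).obj F).obj.obj (op V')) :
    (LocCohZ.sect0Equiv F (pairLE h V') (e₀ h F V' s)).1 =
      (F.obj.map (homOfLE (jV_VY (V := V) V').ge).op).hom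
        (((ιZ (SuppFam.inOpen V W) (CohTop.restr F V)).hom.app (op (VY (V := V) V'))).hom s) := by
  simp only [e₀, AddEquiv.trans_apply, AddEquiv.apply_symm_apply]
  rw [kerCongr_val]
  rfl

/-- Naturality of `e₀` in the open. -/
lemma e₀_res (F : CohTop.Ab X) {V' V'' : Opens X} (g : V'' ⟶ V')
    (s : ((SuppFam.sectSuppLC h).obj F).obj.obj (op V')) :
    e₀ h F V'' ((((SuppFam.sectSuppLC h).obj F).obj.map g.op).hom s) =
      LocCohZ.resZ F 0 (pairLE h V') (pairLE h V'') (inf_le_inf_left W (leOfHom g))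
        (inf_le_inf_left V (leOfHom g)) (e₀ h F V' s) := by
  apply (LocCohZ.sect0Equiv F (pairLE h V'')).injective
  apply Subtype.ext
  rw [sect0Equiv_resZ, sect0Equiv_e₀, sect0Equiv_e₀]
  have hnat := ConcreteCategory.congr_hom
    ((ιZ (SuppFam.inOpen V W) (CohTop.restr F V)).hom.naturality
      ((Opens.map (CohCx.incl V)).map g).op) s
  refine (congrArg (fun t => (F.obj.map (homOfLE (jV_VY (V := V) V'').ge).op).hom t) hnat).trans ?_
  let k : V ⊓ V'' ⟶ jV (VY (V := V) V') :=
    homOfLE ((inf_le_inf_left V (leOfHom g)).trans (jV_VY (V := V) V').ge)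
  exact (map_map_eq F (homOfLE (jV_VY (V := V) V'').ge)
    (V.isOpenEmbedding.isOpenMap.functor.map ((Opens.map (CohCx.incl V)).map g)) k _).trans
    (map_map_eq F (homOfLE (inf_le_inf_left V (leOfHom g))) (homOfLE (jV_VY (V := V) V').ge) k _).symm

/-- Naturality of `e₀` in the sheaf. -/
lemma e₀_map {F F' : CohTop.Ab X} (φ : F ⟶ F') (V' : Opens X)
    (s : ((SuppFam.sectSuppLC h).obj F).obj.obj (op V')) :
    e₀ h F' V' ((((SuppFam.sectSuppLC h).map φ).hom.app (op V')).hom s) =
      LocCohZ.map φ 0 (pairLE h V') (e₀ h F V' s) := by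
  apply (LocCohZ.sect0Equiv F' (pairLE h V')).injective
  apply Subtype.ext
  rw [sect0Equiv_map, sect0Equiv_e₀, sect0Equiv_e₀]
  have hι := congrArg (fun ψ : (LocCohZ.sectSuppF (SuppFam.inOpen V W)).obj (CohTop.restr F V) ⟶
      CohTop.restr F' V => (ψ.hom.app (op (VY (V := V) V'))).hom s)
    (map_ιZ (SuppFam.inOpen V W) ((CohTop.restrFunctor V).map φ))
  refine (congrArg (fun t => (F'.obj.map (homOfLE (jV_VY (V := V) V').ge).op).hom t) hι).trans ?_
  exact (ConcreteCategory.congr_hom (φ.hom.naturality (homOfLE (jV_VY (V := V) V').ge).op) _).symm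

/-- The degree zero comparison, as an isomorphism of presheaf valued functors. -/
noncomputable def E₀pre :
    SuppFam.sectSuppLC h ⋙ sheafToPresheaf (Opens.grothendieckTopology X) AddCommGrpCat.{u} ≅
      extAlong.{u} (Zfun h) 0 :=
  NatIso.ofComponents
    (fun F => NatIso.ofComponents (fun V' => AddEquiv.toAddCommGrpIso (e₀ h F V'.unop))
      (fun {V' V''} g => by
        refine AddCommGrpCat.ext fun s => ?_
        exact e₀_res h F g.unop s))
    (fun {F F'} φ => by
      ext V' : 2
      refine AddCommGrpCat.ext fun s => ?_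
      exact e₀_map h φ V'.unop s)

end Groth.Agent.H45.SectSuppLC
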