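import Groth.Agent.H45.ToAbCompare
import Groth.Agent.H45.SheafifyZero
import Groth.Agent.S6023
import Groth.Agent.S13583
import Groth.Agent.S0856

/-!
# Helper library (helper45): injective `O`-modules are acyclic for sections with supports in a
locally closed subset (as abelian sheaves)
-/

set_option autoImplicit false
set_option linter.style.haveILetI false
universe u
open CategoryTheory AlgebraicGeometry TopologicalSpace Opposite

namespace Groth.Agent.H45.ToAbCompare

/-- A flasque abelian sheaf is acyclic for `Γ_Z`, `Z` locally closed. -/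
theorem isZero_HZshLC_of_isFlasque {X : TopCat.{u}} (F : CohTop.Ab X) [TopCat.Sheaf.IsFlasque F]
    {W V : Opens X} (h : W ≤ V) (q : ℕ) : Limits.IsZero ((SuppFam.HZshLC h (q + 1)).obj F) := by
  obtain ⟨e⟩ := Groth.Agent.S13583.result F h (q + 1)
  refine Limits.IsZero.of_iso ?_ e
  apply SheafifyZero.isZero_sheafify
  intro V' x hx
  exact ⟨V', hx, le_rfl, (Groth.Agent.S6023.result F).1 _ _ _ (q + 1) (Nat.succ_pos q)⟩

/-- The underlying abelian sheaf of an injective module is flasque. -/
theorem isFlasque_of_injective (Y : Scheme.{u}) (I : Y.Modules) [hI : Injective I] :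
    TopCat.Sheaf.IsFlasque ((E Y).obj I) := by
  refine ⟨fun {U V} i => ?_⟩
  rw [AddCommGrpCat.epi_iff_surjective]
  exact @Groth.Agent.S0856.result _ _ _ Y.ringCatSheaf I hI _ _ i.unop _

theorem isZero_HZshLC_of_injective (Y : Scheme.{u}) {V₂ V₁ : Y.Opens} (h : V₂ ≤ V₁)
    (I : Y.Modules) [Injective I] (q : ℕ) :
    Limits.IsZero ((SuppFam.HZshLC (X := Y.carrier) h (q + 1)).obj ((E Y).obj I)) := by
  haveI := isFlasque_of_injective Y I
  exact isZero_HZshLC_of_isFlasque _ h q

end Groth.Agent.H45.ToAbCompare
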