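import Groth.Agent.H45.GammaZQCoh
import Groth.Prelude.Def_RDer

/-!
# Helper library (helper45): the long exact sequence for `j_* Γ_Z` on `O`-modules and
quasi-coherence of its derived functors

`ι : T ⟶ Y` and `j' : U' ⟶ T` open immersions, `Z = T ∖ U'`.  For the functors
`F₁ = Γ_Z ⋙ ι_*`, `F₂ = ι_*`, `F₃ = j'^* ⋙ j'_* ⋙ ι_*` there is a long exact sequence of right
derived functors; if the `R^i ι_*` and `R^i (j' ≫ ι)_*` preserve quasi-coherence, so do the `R^i F₁`.
-/

set_option autoImplicit false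
set_option linter.style.haveILetI false
universe u
open CategoryTheory CategoryTheory.Limits AlgebraicGeometry

namespace Groth.Agent.H45.LCModLES

open Groth.Agent.H45 Groth.Agent.H45.RDerivedLES Groth.Agent.H45.GammaZMod

section FiveTerm

section Abstract

variable {C : Type*} [Category C] [Abelian C] {A B C' D : C}

lemma exact_image_ι {f : A ⟶ B} {g : B ⟶ C'} (wfg : f ≫ g = 0)
    (e₁ : (ShortComplex.mk f g wfg).Exact) (wc : Abelian.image.ι f ≫ g = 0) :
    (ShortComplex.mk (Abelian.image.ι f) g wc).Exact := by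
  let φ : ShortComplex.mk f g wfg ⟶ ShortComplex.mk (Abelian.image.ι f) g wc :=
    { τ₁ := Abelian.factorThruImage f
      τ₂ := 𝟙 _
      τ₃ := 𝟙 _
      comm₁₂ := (Abelian.image.fac f).trans (Category.comp_id f).symm
      comm₂₃ := (Category.id_comp g).trans (Category.comp_id g).symm }
  haveI : Epi φ.τ₁ := inferInstanceAs (Epi (Abelian.factorThruImage f))
  haveI : IsIso φ.τ₂ := inferInstanceAs (IsIso (𝟙 B))
  haveI : Mono φ.τ₃ := inferInstanceAs (Mono (𝟙 C'))
  exact (ShortComplex.exact_iff_of_epi_of_isIso_of_mono φ).1 e₁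

lemma exact_kernel_lift {f : A ⟶ B} {g : B ⟶ C'} (h : C' ⟶ D) (wfg : f ≫ g = 0)
    (wgh : g ≫ h = 0) (e₁ : (ShortComplex.mk f g wfg).Exact)
    (w' : f ≫ kernel.lift h g wgh = 0) :
    (ShortComplex.mk f (kernel.lift h g wgh) w').Exact := by
  let φ : ShortComplex.mk f (kernel.lift h g wgh) w' ⟶ ShortComplex.mk f g wfg :=
    { τ₁ := 𝟙 _
      τ₂ := 𝟙 _
      τ₃ := kernel.ι h
      comm₁₂ := (Category.id_comp _).trans (Category.comp_id _).symm
      comm₂₃ := (Category.id_comp g).trans (kernel.lift_ι h g wgh).symm }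
  haveI : Epi φ.τ₁ := inferInstanceAs (Epi (𝟙 A))
  haveI : IsIso φ.τ₂ := inferInstanceAs (IsIso (𝟙 B))
  haveI : Mono φ.τ₃ := inferInstanceAs (Mono (kernel.ι h))
  exact (ShortComplex.exact_iff_of_epi_of_isIso_of_mono φ).2 e₁

lemma comp_kernel_lift_eq_zero {f : A ⟶ B} {g : B ⟶ C'} (h : C' ⟶ D) (wfg : f ≫ g = 0)
    (wgh : g ≫ h = 0) : f ≫ kernel.lift h g wgh = 0 := by
  rw [← cancel_mono (kernel.ι h), Category.assoc, kernel.lift_ι, wfg, zero_comp]

end Abstract

variable {X : Scheme.{u}}

/-- In an exact sequence `A → B → C → D → E` of modules with `A`, `B`, `D`, `E` quasi-coherent, `C`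
is quasi-coherent. -/
theorem isQuasicoherent_of_exact {A B C D E : X.Modules} (f : A ⟶ B) (g : B ⟶ C) (h : C ⟶ D)
    (k : D ⟶ E) (wfg : f ≫ g = 0) (wgh : g ≫ h = 0) (whk : h ≫ k = 0)
    (e₁ : (ShortComplex.mk f g wfg).Exact) (e₂ : (ShortComplex.mk g h wgh).Exact)
    (e₃ : (ShortComplex.mk h k whk).Exact)
    [A.IsQuasicoherent] [B.IsQuasicoherent] [D.IsQuasicoherent] [E.IsQuasicoherent] :
    C.IsQuasicoherent := by
  have wc : Abelian.image.ι f ≫ g = 0 := by
    rw [← cancel_epi (Abelian.factorThruImage f), ← Category.assoc, Abelian.image.fac, wfg,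
      comp_zero]
  have ec := exact_image_ι wfg e₁ wc
  have wb := comp_kernel_lift_eq_zero h wc wgh
  have eb := exact_kernel_lift h wc wgh ec wb
  have wk : kernel.ι h ≫ h = 0 := kernel.condition h
  have we : kernel.ι h ≫ kernel.lift k h whk = 0 := by
    rw [← cancel_mono (kernel.ι k), Category.assoc, kernel.lift_ι, wk, zero_comp]
  have ek : (ShortComplex.mk (kernel.ι h) h wk).Exact :=
    ShortComplex.exact_of_f_is_kernel _ (kernelIsKernel h)
  have ee := exact_kernel_lift (f := kernel.ι h) (g := h) k wk whk ek we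
  have hepi₂ : Epi (kernel.lift h g wgh) := (ShortComplex.exact_iff_epi_kernel_lift _).1 e₂
  have hepi₃ : Epi (kernel.lift k h whk) := (ShortComplex.exact_iff_epi_kernel_lift _).1 e₃
  have hS₁ : (ShortComplex.mk (Abelian.image.ι f) (kernel.lift h g wgh) wb).ShortExact :=
    { exact := eb
      mono_f := inferInstanceAs (Mono (Abelian.image.ι f))
      epi_g := hepi₂ }
  have hS₂ : (ShortComplex.mk (kernel.ι h) (kernel.lift k h whk) we).ShortExact :=
    { exact := ee
      mono_f := inferInstanceAs (Mono (kernel.ι h))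
      epi_g := hepi₃ }
  have hI : (Abelian.image f).IsQuasicoherent :=
    Groth.Agent.H22.QCohAbelian.isQuasicoherent_image f
  have hK : (kernel h).IsQuasicoherent :=
    @Groth.Agent.H22.QCohAbelian.isQuasicoherent_X₃ _ _ hS₁ hI (inferInstanceAs B.IsQuasicoherent)
  have hK' : (kernel k).IsQuasicoherent := Groth.Agent.H22.QCohLimits.isQuasicoherent_kernel k
  exact @Groth.Agent.H22.QCohAbelian.isQuasicoherent_X₂ _ _ hS₂ hK hK'

end FiveTerm

section RD

universe v₁ v₂ u₁ u₂

variable {A : Type u₁} [Category.{v₁} A] [Abelian A] {B : Type u₂} [Category.{v₂} B] [Abelian B]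
  {F₁ F₂ F₃ : A ⥤ B} [F₁.Additive] [F₂.Additive] [F₃.Additive]
  (α : F₁ ⟶ F₂) (β : F₂ ⟶ F₃) (w : α ≫ β = 0) [HasInjectiveResolutions A]

include w in
lemma rightDerived_comp_eq_zero (n : ℕ) (X : A) :
    (NatTrans.rightDerived α n).app X ≫ (NatTrans.rightDerived β n).app X = 0 := by
  rw [← NatTrans.comp_app, ← NatTrans.rightDerived_comp, w, app_eq]
  have : (NatTrans.mapHomologicalComplex (0 : F₁ ⟶ F₃) (ComplexShape.up ℕ)).app
      (res X).cocomplex = 0 := by
    ext i
    simp
    rfl
  rw [this, HomologicalComplex.homologyMap_zero, zero_comp, comp_zero]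

end RD

section LES

variable {T Y U' : Scheme.{u}} (ι : T ⟶ Y) [IsOpenImmersion ι] (j' : U' ⟶ T) [IsOpenImmersion j']

/-- `Γ_Z ⋙ ι_*`. -/
noncomputable abbrev F₁ : T.Modules ⥤ Y.Modules := DCoh.gammaZ j' ⋙ Scheme.Modules.pushforward ι

/-- `j'^* ⋙ j'_* ⋙ ι_*`. -/
noncomputable abbrev F₃ : T.Modules ⥤ Y.Modules :=
  Scheme.Modules.restrictFunctor j' ⋙ (Scheme.Modules.pushforward j' ⋙ Scheme.Modules.pushforward ι)

/-- `ι_* Γ_Z N ⟶ ι_* N`. -/
noncomputable def α : F₁ ι j' ⟶ Scheme.Modules.pushforward ι where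
  app N := (Scheme.Modules.pushforward ι).map ((αZ j').app N)
  naturality {M N} f := (Functor.whiskerRight (αZ j') (Scheme.Modules.pushforward ι)).naturality f

/-- `ι_* N ⟶ ι_* j'_* j'^* N`. -/
noncomputable def β : Scheme.Modules.pushforward ι ⟶ F₃ ι j' where
  app N := (Scheme.Modules.pushforward ι).map ((η j').app N)
  naturality {M N} f := (Functor.whiskerRight (η j') (Scheme.Modules.pushforward ι)).naturality f

lemma w : α ι j' ≫ β ι j' = 0 := by
  ext N : 2
  change (Scheme.Modules.pushforward ι).map _ ≫ (Scheme.Modules.pushforward ι).map _ = 0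
  rw [← Functor.map_comp]
  have : (αZ j').app N ≫ (η j').app N = 0 := kernel.condition _
  rw [this, Functor.map_zero]

omit [IsOpenImmersion ι] in
lemma epi_push_unit (I : T.Modules) [hI : Injective I] :
    Epi ((Scheme.Modules.pushforward ι).map ((η j').app I)) := by
  refine Groth.Agent.H92.SheafHomLES.epi_of_surjective (R := Y.ringCatSheaf) _ (fun W => ?_)
  exact @Groth.Agent.S0856.result _ _ _ T.ringCatSheaf I hI _ _
    (homOfLE (j'.image_preimage_le (ι ⁻¹ᵁ W.unop))) _

lemma exactOnInjectives : ExactOnInjectives (α ι j') (β ι j') (w ι j') := by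
  intro I hI
  haveI := hI
  exact
    { exact := ShortComplex.exact_of_f_is_kernel _
        (isLimitForkMapOfIsLimit' (Scheme.Modules.pushforward ι) (kernel.condition _)
          (kernelIsKernel _))
      mono_f := by
        haveI : Mono ((αZ j').app I) := by dsimp [αZ, CxOX.gammaZι]; exact equalizer.ι_mono
        exact inferInstanceAs (Mono ((Scheme.Modules.pushforward ι).map ((αZ j').app I)))
      epi_g := epi_push_unit ι j' I }

instance : PreservesFiniteLimits (F₁ ι j') := comp_preservesFiniteLimits _ _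

variable [HasInjectiveResolutions T.Modules] [HasInjectiveResolutions U'.Modules]

/-- `R^i F₃ N ≅ R^i (j' ≫ ι)_* (N|_{U'})`. -/
noncomputable def F₃Iso (i : ℕ) (N : T.Modules) :
    ((F₃ ι j').rightDerived i).obj N ≅
      ((Scheme.Modules.pushforward (j' ≫ ι)).rightDerived i).obj
        ((Scheme.Modules.restrictFunctor j').obj N) :=
  (RDerivedExact.rightDerivedCompIso (Scheme.Modules.restrictFunctor j')
      (Scheme.Modules.pushforward j' ⋙ Scheme.Modules.pushforward ι)
      (fun J hJ => by haveI := hJ; exact injective_restrict j' J) i).app N ≪≫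
    (RDer.rightDerivedIso (Scheme.Modules.pushforwardComp j' ι) i).app _

theorem isQuasicoherent_rightDerived_F₁ [QuasiCompact ι] [QuasiCompact j']
    (hP : ∀ (i : ℕ) (N : T.Modules), N.IsQuasicoherent →
      (((Scheme.Modules.pushforward ι).rightDerived i).obj N).IsQuasicoherent)
    (hQ : ∀ (i : ℕ) (N : U'.Modules), N.IsQuasicoherent →
      (((Scheme.Modules.pushforward (j' ≫ ι)).rightDerived i).obj N).IsQuasicoherent)
    (N : T.Modules) (hN : N.IsQuasicoherent) (i : ℕ) :
    (((F₁ ι j').rightDerived i).obj N).IsQuasicoherent := by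
  haveI := hN
  haveI hres : ((Scheme.Modules.restrictFunctor j').obj N).IsQuasicoherent := inferInstance
  have hF₃ : ∀ i, (((F₃ ι j').rightDerived i).obj N).IsQuasicoherent := fun i => by
    haveI := hQ i _ hres
    exact Groth.Agent.H22.QCohLimits.isQuasicoherent_of_iso (F₃Iso ι j' i N).symm
  have hEx := exactOnInjectives ι j'
  match i with
  | 0 =>
    haveI : QuasiSeparated j' := inferInstance
    haveI : QuasiSeparated ι := inferInstance
    haveI : ((Scheme.Modules.pushforward j').obj
        ((Scheme.Modules.restrictFunctor j').obj N)).IsQuasicoherent :=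
      Groth.Agent.H8.isQuasicoherent_pushforward j' _
    haveI : ((Scheme.Modules.restrictFunctor j' ⋙ Scheme.Modules.pushforward j').obj
        N).IsQuasicoherent := this
    haveI : ((𝟭 T.Modules).obj N).IsQuasicoherent := hN
    haveI : (kernel ((η j').app N)).IsQuasicoherent :=
      Groth.Agent.H22.QCohLimits.isQuasicoherent_kernel _
    haveI : ((DCoh.gammaZ j').obj N).IsQuasicoherent := this
    haveI : ((F₁ ι j').obj N).IsQuasicoherent :=
      Groth.Agent.H8.isQuasicoherent_pushforward ι _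
    exact Groth.Agent.H22.QCohLimits.isQuasicoherent_of_iso
      ((F₁ ι j').rightDerivedZeroIsoSelf.app N).symm
  | (n + 1) =>
    haveI := hP n N hN
    haveI := hP (n + 1) N hN
    haveI := hF₃ n
    haveI := hF₃ (n + 1)
    exact isQuasicoherent_of_exact
      ((NatTrans.rightDerived (β ι j') n).app N) ((δ hEx n).app N)
      ((NatTrans.rightDerived (α ι j') (n + 1)).app N)
      ((NatTrans.rightDerived (β ι j') (n + 1)).app N)
      (comp_δ hEx n N) (δ_comp hEx n N)
      (rightDerived_comp_eq_zero (α ι j') (β ι j') (w ι j') (n + 1) N)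
      (exact₃ hEx n N _) (exact₁ hEx n N _) (exact₂ hEx (n + 1) N _)

end LES

end Groth.Agent.H45.LCModLES
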