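import Groth.Agent.H45.LCModLES
import Groth.Agent.H45.LCAcyclic
import Groth.Agent.H30.CompDer
import Groth.Agent.S0485

/-!
# Helper library (helper45): quasi-coherence of the local cohomology sheaves for a locally
closed subset, given quasi-coherence of higher direct images along quasi-compact open immersions.
-/

set_option autoImplicit false
set_option linter.style.haveILetI false
universe u
open CategoryTheory CategoryTheory.Limits AlgebraicGeometry TopologicalSpace

namespace Groth.Agent.H45.LCQCoh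

open Groth.Agent.H45 Groth.Agent.H45.ToAbCompare Groth.Agent.H45.LCModLES
  Groth.Agent.H45.GammaZMod

theorem hasInjectiveResolutions (X : Scheme.{u}) : HasInjectiveResolutions X.Modules := by
  haveI : EnoughInjectives X.Modules := Groth.Agent.S0485.result _ X.ringCatSheaf
  infer_instance

variable (Y : Scheme.{u}) {V₂ V₁ : Y.Opens} (h : V₂ ≤ V₁)

include h in
lemma range_eq :
    Set.range ((inOpenSch Y V₁ V₂).ι ≫ V₁.ι) = Set.range V₂.ι := by
  rw [Scheme.Opens.range_ι]
  ext x
  constructor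
  · rintro ⟨y, rfl⟩
    exact y.2
  · intro hx
    exact ⟨⟨⟨x, h hx⟩, hx⟩, rfl⟩

include h in
lemma quasiCompact_comp [QuasiCompact V₂.ι] :
    QuasiCompact ((inOpenSch Y V₁ V₂).ι ≫ V₁.ι) := by
  rw [← IsOpenImmersion.isoOfRangeEq_hom_fac _ V₂.ι (range_eq Y h)]
  infer_instance

include h in
lemma quasiCompact_inOpen [QuasiCompact V₂.ι] : QuasiCompact (inOpenSch Y V₁ V₂).ι := by
  haveI := quasiCompact_comp Y h
  exact QuasiCompact.of_comp (inOpenSch Y V₁ V₂).ι V₁.ι

instance : (gammaLC Y V₁ V₂).Additive := by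
  unfold gammaLC
  infer_instance

instance : PreservesFiniteLimits (gammaLC Y V₁ V₂) := by
  unfold gammaLC
  exact comp_preservesFiniteLimits _ _

theorem main [QuasiCompact V₁.ι] [QuasiCompact V₂.ι] (F : Y.Modules) (hF : Coh.IsQCoh F) (i : ℕ)
    (h30 : ∀ {X S : Scheme.{u}} (f : X ⟶ S) [QuasiCompact f] [QuasiSeparated f]
      [HasInjectiveResolutions X.Modules] (M : X.Modules), M.IsQuasicoherent → ∀ p : ℕ,
      (((Scheme.Modules.pushforward f).rightDerived p).obj M).IsQuasicoherent) :
    ∃ M : Y.Modules, Coh.IsQCoh M ∧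
      Nonempty (Coh.toAb M ≅ (SuppFam.HZshLC (X := Y.carrier) h i).obj (Coh.toAb F)) := by
  haveI := hasInjectiveResolutions Y
  haveI := hasInjectiveResolutions V₁.toScheme
  haveI := hasInjectiveResolutions (inOpenSch Y V₁ V₂).toScheme
  haveI : QuasiCompact (inOpenSch Y V₁ V₂).ι := quasiCompact_inOpen Y h
  haveI : QuasiCompact ((inOpenSch Y V₁ V₂).ι ≫ V₁.ι) := quasiCompact_comp Y h
  haveI : F.IsQuasicoherent := hF
  haveI hres : ((Scheme.Modules.restrictFunctor V₁.ι).obj F).IsQuasicoherent := inferInstance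
  refine ⟨((gammaLC Y V₁ V₂).rightDerived i).obj F, ?_, ?_⟩
  · have e := RDerivedExact.rightDerivedCompIso (Scheme.Modules.restrictFunctor V₁.ι)
      (F₁ V₁.ι (inOpenSch Y V₁ V₂).ι)
      (fun J hJ => by haveI := hJ; exact injective_restrict V₁.ι J) i
    haveI : ((Scheme.Modules.restrictFunctor V₁.ι ⋙
        (F₁ V₁.ι (inOpenSch Y V₁ V₂).ι).rightDerived i).obj F).IsQuasicoherent :=
      isQuasicoherent_rightDerived_F₁ V₁.ι (inOpenSch Y V₁ V₂).ι
        (fun p N hN => h30 V₁.ι N hN p)
        (fun p N hN => h30 ((inOpenSch Y V₁ V₂).ι ≫ V₁.ι) N hN p) _ hres i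
    exact Groth.Agent.H22.QCohLimits.isQuasicoherent_of_iso (e.app F).symm
  · exact Groth.Agent.H30.CompDer.main (gammaLC Y V₁ V₂) (SuppFam.sectSuppLC (X := Y.carrier) h)
      (E Y) (E Y) (cmpLC Y h)
      (fun I hI q => by haveI := hI; exact isZero_HZshLC_of_injective Y h I q) i F

end Groth.Agent.H45.LCQCoh
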