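import Groth.Agent.H45.LocCohZLib
import Groth.Agent.H45.KernelFunctor
import Groth.Agent.H45.ExtAdjAcy
import Groth.Agent.H82.RDerHorseshoe
import Groth.Agent.H45.ExtContraLES

/-!
# Dimension shifting for local cohomology sheaves on a space
-/

set_option autoImplicit false
universe u
open CategoryTheory CategoryTheory.Limits Opposite TopologicalSpace

namespace Groth.Agent.H45.LocCohZShift

open Groth.Agent.H45.CohTopOpenPull Groth.Agent.H45.LocCohZLib

section ExtShift

universe w v' u'

variable {A : Type u'} [Category.{v'} A] [Abelian A] [HasExt.{w} A]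
  {S : ShortComplex A} (hS : S.ShortExact) (W : A)

open Abelian in
include hS in
lemma subsingleton_ext_shift (n : ℕ) (h0 : Subsingleton (Ext W S.X₂ n))
    (h1 : Subsingleton (Ext W S.X₂ (n + 1))) :
    Subsingleton (Ext W S.X₃ n) ↔ Subsingleton (Ext W S.X₁ (n + 1)) := by
  constructor
  · intro h
    refine ⟨fun a b => ?_⟩
    have key : ∀ x₁ : Ext W S.X₁ (n + 1), x₁ = 0 := by
      intro x₁
      obtain ⟨x₃, rfl⟩ := Ext.covariant_sequence_exact₁ W hS x₁ (Subsingleton.elim _ _) rfl
      rw [Subsingleton.elim x₃ 0, Ext.zero_comp]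
    rw [key a, key b]
  · intro h
    refine ⟨fun a b => ?_⟩
    have key : ∀ x₃ : Ext W S.X₃ n, x₃ = 0 := by
      intro x₃
      obtain ⟨x₂, rfl⟩ := Ext.covariant_sequence_exact₃ W hS x₃ rfl (Subsingleton.elim _ _)
      rw [Subsingleton.elim x₂ 0, Ext.zero_comp]
    rw [key a, key b]

end ExtShift

section RDerShift

universe v₁ v₂ u₁ u₂

variable {A : Type u₁} [Category.{v₁} A] [Abelian A] [EnoughInjectives A]
  {B : Type u₂} [Category.{v₂} B] [Abelian B] (G : A ⥤ B) [G.Additive]
  {S : ShortComplex A} (hS : S.ShortExact)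

include hS in
lemma isZero_rightDerived_shift (n : ℕ) (h0 : IsZero ((G.rightDerived n).obj S.X₂))
    (h1 : IsZero ((G.rightDerived (n + 1)).obj S.X₂)) :
    IsZero ((G.rightDerived n).obj S.X₃) ↔ IsZero ((G.rightDerived (n + 1)).obj S.X₁) := by
  let Δ := Groth.Agent.H82.RDerLES.derivedLES G
  have e3 := Δ.exact₃ S hS n (n + 1) rfl
  have e1 := Δ.exact₁ S hS n (n + 1) rfl
  haveI : Mono (Δ.δ S hS n (n + 1) rfl) := e3.mono_g (h0.eq_of_src _ _)
  haveI : Epi (Δ.δ S hS n (n + 1) rfl) := e1.epi_f (h1.eq_of_tgt _ _)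
  haveI : IsIso (Δ.δ S hS n (n + 1) rfl) := isIso_of_mono_of_epi _
  exact (asIso (Δ.δ S hS n (n + 1) rfl)).isZero_iff

end RDerShift

variable {X : TopCat.{u}} (U : Opens X)

/-- The inclusion `Γ_Z ⟶ 𝟭`. -/
noncomputable def αZ : LocCohZ.sectSuppF U ⟶ 𝟭 (CohTop.Ab X) where
  app F := kernel.ι _
  naturality {F G} φ := by
    dsimp [LocCohZ.sectSuppF, kernel.map]
    exact kernel.lift_ι _ _ _

lemma wZ : αZ U ≫ η U = 0 := by
  ext F : 2
  exact kernel.condition _

instance preservesFiniteLimits_sectSuppF : PreservesFiniteLimits (LocCohZ.sectSuppF U) := by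
  haveI : PreservesLimitsOfShape WalkingCospan
      (CohTop.pull (CohCx.incl U) ⋙ CohTop.push (CohCx.incl U)) :=
    (preservesFiniteLimits_pull_push U).preservesFiniteLimits WalkingCospan
  haveI : (CohTop.pull (CohCx.incl U) ⋙ CohTop.push (CohCx.incl U)).PreservesMonomorphisms :=
    preservesMonomorphisms_of_preservesLimitsOfShape _
  exact KernelFunctor.preservesFiniteLimits (αZ U) (η U) (wZ U) (fun F => kernelIsKernel _)

/-- `ℋ⁰_Z(F) ≅ Γ_Z(F)`. -/
noncomputable def HZshZeroIso : LocCohZ.HZsh U 0 ≅ LocCohZ.sectSuppF U :=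
  (LocCohZ.sectSuppF U).rightDerivedZeroIsoSelf

lemma subsingleton_sections_of_isZero {K : CohTop.Ab X} (hK : IsZero K) (V : Opens X) :
    Subsingleton (K.obj.obj (op V)) := by
  refine ⟨fun a b => ?_⟩
  have h : (𝟙 K : K ⟶ K) = 0 := hK.eq_of_src _ _
  have ha : a = (𝟙 K : K ⟶ K).hom.app (op V) a := rfl
  have hb : b = (𝟙 K : K ⟶ K).hom.app (op V) b := rfl
  rw [ha, hb, h]
  rfl

lemma isZero_of_subsingleton_sections (K : CohTop.Ab X)
    (h : ∀ V : Opens X, Subsingleton (K.obj.obj (op V))) : IsZero K := by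
  rw [IsZero.iff_id_eq_zero]
  apply Sheaf.hom_ext
  apply NatTrans.ext
  funext V
  apply AddCommGrpCat.hom_ext
  ext x
  haveI := h V.unop
  exact Subsingleton.elim _ _

/-- Step 0: `Γ_Z(F) = 0` iff `H⁰_{Z ∩ V}(V, F) = 0` for all opens `V`. -/
lemma isZero_sectSupp_iff (F : CohTop.Ab X) :
    IsZero ((LocCohZ.sectSuppF U).obj F) ↔
      ∀ V : Opens X, Subsingleton (LocCohZ.HZ F 0 (inf_le_left : V ⊓ U ≤ V)) := by
  constructor
  · intro hK V
    refine (LocCohZ.sect0Equiv F (inf_le_left : V ⊓ U ≤ V)).toEquiv.subsingleton_congr.2 ?_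
    refine ⟨fun a b => ?_⟩
    have key : ∀ a : LocCohZ.sectZ F (inf_le_left : V ⊓ U ≤ V), a.1 = 0 := by
      rintro ⟨a, ha⟩
      rw [AddMonoidHom.mem_ker] at ha
      have hle : interOpen U V ≤ V ⊓ U := le_inf (interOpen_le U V) (interOpen_le_self U V)
      have h0 : F.obj.map (homOfLE (interOpen_le U V)).op a = 0 := by
        have := congrArg (F.obj.map (homOfLE hle).op) ha
        rw [map_zero, ← ConcreteCategory.comp_apply, ← F.obj.map_comp] at this
        exact this
      obtain ⟨s, hs⟩ := exists_kernel_lift ((η U).app F) V a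
        ((unit_app_eq_zero_iff U F V a).2 h0)
      haveI : Subsingleton ((kernel ((η U).app F)).obj.obj (op V)) :=
        subsingleton_sections_of_isZero (K := kernel ((η U).app F)) hK V
      change a = 0
      rw [← hs, Subsingleton.elim s 0, map_zero]
    exact Subtype.ext ((key a).trans (key b).symm)
  · intro h
    change IsZero (kernel ((η U).app F))
    apply isZero_of_subsingleton_sections
    intro V
    refine ⟨fun s t => ?_⟩
    have key : ∀ s : (kernel ((η U).app F)).obj.obj (op V), s = 0 := by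
      intro s
      apply kernel_ι_app_injective ((η U).app F) V
      rw [map_zero]
      set a := (kernel.ι ((η U).app F)).hom.app (op V) s with ha_def
      have ha : ((η U).app F).hom.app (op V) a = 0 :=
        congrArg (fun φ : kernel ((η U).app F) ⟶ _ => φ.hom.app (op V) s)
          (kernel.condition ((η U).app F))
      have h0 := (unit_app_eq_zero_iff U F V a).1 ha
      have hle : V ⊓ U ≤ interOpen U V := le_interOpen U inf_le_left inf_le_right
      have h1 : F.obj.map (homOfLE (inf_le_left : V ⊓ U ≤ V)).op a = 0 := by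
        have := congrArg (F.obj.map (homOfLE hle).op) h0
        rw [map_zero, ← ConcreteCategory.comp_apply, ← F.obj.map_comp] at this
        exact this
      haveI : Subsingleton (LocCohZ.sectZ F (inf_le_left : V ⊓ U ≤ V)) :=
        (LocCohZ.sect0Equiv F (inf_le_left : V ⊓ U ≤ V)).toEquiv.subsingleton_congr.1 (h V)
      have h2 : (⟨a, (AddMonoidHom.mem_ker).2 h1⟩ : LocCohZ.sectZ F (inf_le_left : V ⊓ U ≤ V)) = 0 :=
        Subsingleton.elim _ _
      exact congrArg Subtype.val h2
    rw [key s, key t]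

section Shift

variable (F : CohTop.Ab X)

/-- The injective sheaf `j_* J`, `J` an injective hull of `j⁻¹ F`. -/
noncomputable def I : CohTop.Ab X :=
  (CohTop.push (CohCx.incl U)).obj (Injective.under ((CohTop.pull (CohCx.incl U)).obj F))

/-- The map `F ⟶ j_* j⁻¹ F ⟶ j_* J`. -/
noncomputable def m : F ⟶ I U F :=
  (η U).app F ≫ (CohTop.push (CohCx.incl U)).map (Injective.ι _)

lemma mono_m (hF : IsZero ((LocCohZ.sectSuppF U).obj F)) : Mono (m U F) := by
  have h1 : Mono ((η U).app F) := Preadditive.mono_of_isZero_kernel _ hF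
  haveI : PreservesLimitsOfShape WalkingCospan (CohTop.push (CohCx.incl U)) :=
    (preservesFiniteLimits_push U).preservesFiniteLimits WalkingCospan
  haveI : (CohTop.push (CohCx.incl U)).PreservesMonomorphisms :=
    preservesMonomorphisms_of_preservesLimitsOfShape _
  have h2 : Mono ((CohTop.push (CohCx.incl U)).map
      (Injective.ι ((CohTop.pull (CohCx.incl U)).obj F))) :=
    Functor.map_mono (CohTop.push (CohCx.incl U)) _
  exact mono_comp' h1 h2

instance injective_I : Injective (I U F) := by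
  haveI : PreservesLimitsOfShape WalkingCospan (CohTop.pull (CohCx.incl U)) :=
    (preservesFiniteLimits_pull U).preservesFiniteLimits WalkingCospan
  haveI : (CohTop.pull (CohCx.incl U)).PreservesMonomorphisms :=
    preservesMonomorphisms_of_preservesLimitsOfShape _
  exact Injective.injective_of_adjoint (pullPushAdj U) _

lemma isZero_sectSupp_I : IsZero ((LocCohZ.sectSuppF U).obj (I U F)) := by
  haveI : IsSplitMono ((η U).app (I U F)) :=
    IsSplitMono.mk' ⟨_, (pullPushAdj U).right_triangle_components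
      (Injective.under ((CohTop.pull (CohCx.incl U)).obj F))⟩
  haveI : Mono ((η U).app (I U F)) := IsSplitMono.mono _
  exact isZero_kernel_of_mono _

/-- The short exact sequence `0 ⟶ F ⟶ j_* J ⟶ C ⟶ 0`. -/
noncomputable def S : ShortComplex (CohTop.Ab X) :=
  ShortComplex.mk (m U F) (cokernel.π (m U F)) (cokernel.condition _)

lemma shortExact_S (hF : IsZero ((LocCohZ.sectSuppF U).obj F)) : (S U F).ShortExact :=
  haveI := mono_m U F hF
  { exact := ShortComplex.exact_cokernel (m U F)
    mono_f := inferInstanceAs (Mono (m U F))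
    epi_g := inferInstanceAs (Epi (cokernel.π (m U F))) }

/-- The cokernel `C`. -/
noncomputable abbrev C : CohTop.Ab X := cokernel (m U F)

lemma isZero_HZsh_I (n : ℕ) : IsZero ((LocCohZ.HZsh U n).obj (I U F)) := by
  cases n with
  | zero => exact (isZero_sectSupp_I U F).of_iso ((HZshZeroIso U).app _)
  | succ k => exact Functor.isZero_rightDerived_obj_injective_succ _ k _

lemma subsingleton_HZ_I (V : Opens X) (n : ℕ) :
    Subsingleton (LocCohZ.HZ (I U F) n (inf_le_left : V ⊓ U ≤ V)) := by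
  cases n with
  | zero => exact (isZero_sectSupp_iff U (I U F)).1 (isZero_sectSupp_I U F) V
  | succ k => exact Abelian.Ext.subsingleton_of_injective _ _ _

lemma isZero_HZsh_shift (hF : IsZero ((LocCohZ.sectSuppF U).obj F)) (n : ℕ) :
    IsZero ((LocCohZ.HZsh U n).obj (C U F)) ↔ IsZero ((LocCohZ.HZsh U (n + 1)).obj F) :=
  isZero_rightDerived_shift (LocCohZ.sectSuppF U) (shortExact_S U F hF) n
    (isZero_HZsh_I U F n) (isZero_HZsh_I U F (n + 1))

lemma subsingleton_HZ_shift (hF : IsZero ((LocCohZ.sectSuppF U).obj F)) (V : Opens X) (n : ℕ) :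
    Subsingleton (LocCohZ.HZ (C U F) n (inf_le_left : V ⊓ U ≤ V)) ↔
      Subsingleton (LocCohZ.HZ F (n + 1) (inf_le_left : V ⊓ U ≤ V)) :=
  subsingleton_ext_shift (shortExact_S U F hF) _ n
    (subsingleton_HZ_I U F V n) (subsingleton_HZ_I U F V (n + 1))

end Shift

/-- `ℋ^i_Z(F) = 0` for `i < n` iff `H^i_{Z ∩ V}(V, F) = 0` for all opens `V` and `i < n`. -/
theorem isZero_HZsh_iff (n : ℕ) : ∀ F : CohTop.Ab X,
    (∀ i : ℕ, i < n → IsZero ((LocCohZ.HZsh U i).obj F)) ↔
      ∀ (V : Opens X) (i : ℕ), i < n →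
        Subsingleton (LocCohZ.HZ F i (inf_le_left : V ⊓ U ≤ V)) := by
  induction n with
  | zero => exact fun F => ⟨fun _ V i hi => absurd hi (Nat.not_lt_zero _),
      fun _ i hi => absurd hi (Nat.not_lt_zero _)⟩
  | succ n ih =>
    intro F
    constructor
    · intro hA
      have hF : IsZero ((LocCohZ.sectSuppF U).obj F) :=
        (hA 0 (Nat.succ_pos n)).of_iso ((HZshZeroIso U).app F).symm
      have hC := (ih (C U F)).1 (fun i hi =>
        (isZero_HZsh_shift U F hF i).2 (hA (i + 1) (Nat.succ_lt_succ hi)))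
      intro V i hi
      cases i with
      | zero => exact (isZero_sectSupp_iff U F).1 hF V
      | succ k => exact (subsingleton_HZ_shift U F hF V k).1 (hC V k (Nat.lt_of_succ_lt_succ hi))
    · intro hB
      have hF : IsZero ((LocCohZ.sectSuppF U).obj F) :=
        (isZero_sectSupp_iff U F).2 (fun V => hB V 0 (Nat.succ_pos n))
      have hC := (ih (C U F)).2 (fun V i hi =>
        (subsingleton_HZ_shift U F hF V i).2 (hB V (i + 1) (Nat.succ_lt_succ hi)))
      intro i hi
      cases i with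
      | zero => exact hF.of_iso ((HZshZeroIso U).app F)
      | succ k => exact (isZero_HZsh_shift U F hF k).1 (hC k (Nat.lt_of_succ_lt_succ hi))

section DegreeOne

open Groth.Agent.H45.RDerivedLES

lemma exactOnInjectives : ExactOnInjectives (αZ U) (η U) (wZ U) := by
  intro I hI
  haveI := hI
  exact
    { exact := ShortComplex.exact_of_f_is_kernel _ (kernelIsKernel _)
      mono_f := by dsimp [αZ]; exact equalizer.ι_mono
      epi_g := epi_unit_of_injective U I }

lemma isZero_id (n : ℕ) (hn : 0 < n) (F : CohTop.Ab X) :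
    IsZero (((𝟭 (CohTop.Ab X)).rightDerived n).obj F) :=
  ExtAdj.isZero_rightDerived_of_exact (𝟭 (CohTop.Ab X)) F n hn

/-- `ℋ¹_Z(F) = 0` as soon as `F ⟶ j_* j⁻¹ F` is an epimorphism. -/
lemma isZero_HZsh_one_of_epi (F : CohTop.Ab X) (hepi : Epi ((η U).app F)) :
    IsZero ((LocCohZ.HZsh U 1).obj F) := by
  have hπ := isColimitπ₁ (exactOnInjectives U) (fun F => isZero_id 1 Nat.one_pos F)
  have h1 : (η U).app F ≫ (π₁ (exactOnInjectives U)).app F = 0 := by
    rw [← NatTrans.comp_app, β_π₁]; rfl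
  have h2 : (π₁ (exactOnInjectives U)).app F = 0 := by
    rw [← cancel_epi ((η U).app F), h1, comp_zero]
  haveI : Epi ((π₁ (exactOnInjectives U)).app F) := by
    haveI : Epi (π₁ (exactOnInjectives U)) :=
      epi_of_isColimit_cofork hπ
    infer_instance
  exact (IsZero.iff_id_eq_zero _).2 (by
    rw [← cancel_epi ((π₁ (exactOnInjectives U)).app F), h2, zero_comp, zero_comp])

/-- `F ⟶ j_* j⁻¹ F` is an epimorphism if sections over `U ∩ V` extend to `V`. -/
lemma epi_unit_of_surjective (F : CohTop.Ab X)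
    (hs : ∀ V : Opens X, Function.Surjective (F.obj.map (homOfLE (interOpen_le U V)).op)) :
    Epi ((η U).app F) := by
  have h1 : Epi ((restrPushAdj U).unit.app F) := by
    haveI : Sheaf.IsLocallySurjective ((restrPushAdj U).unit.app F) := by
      apply Presheaf.isLocallySurjective_of_surjective
      intro V
      exact hs V.unop
    exact Sheaf.epi_of_isLocallySurjective _
  have h := unit_comp U F
  rw [← IsIso.eq_comp_inv] at h
  change Epi ((TopCat.Sheaf.pullbackPushforwardAdjunction AddCommGrpCat.{u}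
    (CohCx.incl U)).unit.app F)
  rw [h]
  exact epi_comp' h1 inferInstance

/-- Surjectivity of `Hom(ℤ_V, F) ⟶ Hom(ℤ_W, F)` gives extension of sections. -/
lemma surjective_map_of_surjective_res (F : CohTop.Ab X) {W V : Opens X} (h : W ≤ V)
    (hs : Function.Surjective (CohTop.res F 0 h)) :
    Function.Surjective (F.obj.map (homOfLE h).op) := by
  intro s
  let φ := CohFree.ofSect (Opens.grothendieckTopology X) W F s
  obtain ⟨x₂, hx₂⟩ := hs (Abelian.Ext.mk₀ φ)
  obtain ⟨ψ, rfl⟩ := (Abelian.Ext.mk₀_bijective _ _).2 x₂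
  have hx₂' : (Abelian.Ext.mk₀ (CohCx.freeSheafMap (Opens.grothendieckTopology X)
      (homOfLE h))).comp (Abelian.Ext.mk₀ ψ) (zero_add 0) = Abelian.Ext.mk₀ φ := hx₂
  rw [Abelian.Ext.mk₀_comp_mk₀] at hx₂'
  have hψ : CohCx.freeSheafMap (Opens.grothendieckTopology X) (homOfLE h) ≫ ψ = φ :=
    (Abelian.Ext.mk₀_bijective _ _).1 hx₂'
  refine ⟨CohFree.evalGen _ V F ψ, ?_⟩
  have := CohFree.evalGen_freeSheafMap_comp (Opens.grothendieckTopology X) (homOfLE h) F ψ
  rw [hψ, CohFree.evalGen_ofSect] at this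
  exact this.symm

end DegreeOne

section Main

open CategoryTheory.Abelian

/-- The hypothesis `R(F, N)`. -/
def RHyp (F : CohTop.Ab X) (N : ℕ) : Prop :=
  ∀ V : Opens X, (∀ i : ℕ, i < N → Subsingleton (LocCohZ.HZ F i (inf_le_left : V ⊓ U ≤ V))) ∧
    Function.Injective (LocCohZ.toHU F N (inf_le_left : V ⊓ U ≤ V))

lemma rHyp_shift (F : CohTop.Ab X) (k : ℕ) (hR : RHyp U F (k + 2))
    (hF : IsZero ((LocCohZ.sectSuppF U).obj F)) : RHyp U (C U F) (k + 1) := by
  intro V
  refine ⟨fun i hi => (subsingleton_HZ_shift U F hF V i).2 ((hR V).1 (i + 1) (by omega)), ?_⟩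
  have hS := shortExact_S U F hF
  exact ExtContraLES.injective_toH_shift hS (LocCohZ.zqSeq (inf_le_left : V ⊓ U ≤ V)) (k + 1)
    (hR V).2 (subsingleton_HZ_I U F V (k + 1))

/-- `R(F, N)` with `N ≥ 1` implies `ℋ^N_Z(F) = 0`. -/
theorem isZero_HZsh_of_rHyp (k : ℕ) : ∀ F : CohTop.Ab X, RHyp U F (k + 1) →
    IsZero ((LocCohZ.HZsh U (k + 1)).obj F) := by
  induction k with
  | zero =>
    intro F hR
    apply isZero_HZsh_one_of_epi
    apply epi_unit_of_surjective
    intro V
    have hs : Function.Surjective (CohTop.res F 0 (inf_le_left : V ⊓ U ≤ V)) :=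
      ExtContraLES.surjective_res_of (LocCohZ.zqSeq_shortExact (inf_le_left : V ⊓ U ≤ V)) F 0
        (hR V).2
    have hs' := surjective_map_of_surjective_res F (inf_le_left : V ⊓ U ≤ V) hs
    have hle₁ : interOpen U V ≤ V ⊓ U := le_inf (interOpen_le U V) (interOpen_le_self U V)
    have hle₂ : V ⊓ U ≤ interOpen U V := le_interOpen U inf_le_left inf_le_right
    intro s'
    obtain ⟨t, ht⟩ := hs' (F.obj.map (homOfLE hle₂).op s')
    refine ⟨t, ?_⟩
    have h3 := congrArg (F.obj.map (homOfLE hle₁).op) ht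
    rw [← ConcreteCategory.comp_apply, ← F.obj.map_comp, ← ConcreteCategory.comp_apply,
      ← F.obj.map_comp] at h3
    have h4 : (homOfLE hle₂).op ≫ (homOfLE hle₁).op = 𝟙 (op (interOpen U V)) := rfl
    rw [h4, F.obj.map_id] at h3
    exact h3
  | succ k ih =>
    intro F hR
    have hF : IsZero ((LocCohZ.sectSuppF U).obj F) :=
      (isZero_sectSupp_iff U F).2 (fun V => (hR V).1 0 (by omega))
    exact (isZero_HZsh_shift U F hF (k + 1)).1 (ih (C U F) (rHyp_shift U F k hR hF))

end Main

end Groth.Agent.H45.LocCohZShift
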