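import Groth.Agent.H45.ClosedEmb
import Groth.Agent.H45.CoreflAdj
import Groth.Agent.H45.LocCohZShift
import Groth.Agent.H45.CohTopPush

/-!
# `i_* ⊣ i⁻¹ Γ_Z` for the closed complement of an open subset
-/

set_option autoImplicit false
universe u
open CategoryTheory CategoryTheory.Limits Opposite TopologicalSpace

namespace Groth.Agent.H45.LocCohZClosed

open Groth.Agent.H45.CohTopOpenPull Groth.Agent.H45.LocCohZLib Groth.Agent.H45.LocCohZShift

variable {X : TopCat.{u}} (U : Opens X)

lemma isClosedEmbedding_inclCompl : Topology.IsClosedEmbedding (CohCx.inclCompl U) :=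
  U.isOpen.isClosed_compl.isClosedEmbedding_subtypeVal

lemma complOpen_eq :
    ClosedEmb.complOpen (CohCx.inclCompl U) (isClosedEmbedding_inclCompl U) = U := by
  ext x
  change x ∈ (Set.range (CohCx.inclCompl U))ᶜ ↔ x ∈ U
  constructor
  · intro h
    by_contra hx
    exact h ⟨⟨x, hx⟩, rfl⟩
  · rintro h ⟨z, rfl⟩
    exact z.2 h

/-- The sections of `K` vanish on the opens contained in `U`. -/
def VanishesOn (K : CohTop.Ab X) : Prop :=
  ∀ V : Opens X, V ≤ U → Subsingleton (K.obj.obj (op V))

lemma isSupp_of_vanishesOn (K : CohTop.Ab X) (hK : VanishesOn U K) :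
    ClosedEmb.IsSupp (CohCx.inclCompl U) (isClosedEmbedding_inclCompl U) K := by
  intro V hV
  rw [complOpen_eq] at hV
  haveI := hK V hV
  exact ⟨⟨⟨0⟩, fun a => Subsingleton.elim _ _⟩⟩

lemma vanishesOn_of_isSupp (K : CohTop.Ab X)
    (hK : ClosedEmb.IsSupp (CohCx.inclCompl U) (isClosedEmbedding_inclCompl U) K) :
    VanishesOn U K := by
  intro V hV
  rw [← complOpen_eq U] at hV
  obtain ⟨hu⟩ := hK V hV
  exact ⟨fun a b => (hu.uniq a).trans (hu.uniq b).symm⟩

lemma unit_eq_zero (K : CohTop.Ab X) (hK : VanishesOn U K) : (η U).app K = 0 := by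
  apply Sheaf.hom_ext
  apply NatTrans.ext
  funext V
  apply AddCommGrpCat.hom_ext
  ext a
  refine ((unit_app_eq_zero_iff U K V.unop a).2 ?_)
  haveI := hK (interOpen U V.unop) (interOpen_le_self U V.unop)
  exact Subsingleton.elim _ _

lemma vanishesOn_push (G : CohTop.Ab (TopCat.of ((U : Set X)ᶜ : Set X))) :
    VanishesOn U ((CohTop.push (CohCx.inclCompl U)).obj G) :=
  vanishesOn_of_isSupp U _
    (ClosedEmb.isSupp_pushforward (CohCx.inclCompl U) (isClosedEmbedding_inclCompl U) G)

lemma vanishesOn_sectSupp (F : CohTop.Ab X) : VanishesOn U ((LocCohZ.sectSuppF U).obj F) := by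
  intro V hV
  refine ⟨fun s t => ?_⟩
  apply kernel_ι_app_injective ((η U).app F) V
  have key : ∀ s : ((LocCohZ.sectSuppF U).obj F).obj.obj (op V),
      (kernel.ι ((η U).app F)).hom.app (op V) s = 0 := by
    intro s
    have h0 : ((η U).app F).hom.app (op V) ((kernel.ι ((η U).app F)).hom.app (op V) s) = 0 := by
      have h := kernel.condition ((η U).app F)
      have h1 := congrArg (fun φ : kernel ((η U).app F) ⟶ _ => φ.hom.app (op V) s) h
      exact h1
    have h2 := (unit_app_eq_zero_iff U F V _).1 h0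
    have hle : V ≤ interOpen U V := le_interOpen U le_rfl hV
    have h3 := congrArg (F.obj.map (homOfLE hle).op) h2
    rw [← ConcreteCategory.comp_apply, ← F.obj.map_comp, map_zero] at h3
    have h4 : (homOfLE (interOpen_le U V)).op ≫ (homOfLE hle).op = 𝟙 (op V) := rfl
    rw [h4, F.obj.map_id] at h3
    exact h3
  exact (key s).trans (key t).symm

instance mono_αZ_app (F : CohTop.Ab X) : Mono ((αZ U).app F) :=
  inferInstanceAs (Mono (kernel.ι _))

lemma exists_lift (G : CohTop.Ab (TopCat.of ((U : Set X)ᶜ : Set X))) (F : CohTop.Ab X)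
    (f : (CohTop.push (CohCx.inclCompl U)).obj G ⟶ F) :
    ∃ g : (CohTop.push (CohCx.inclCompl U)).obj G ⟶ (LocCohZ.sectSuppF U).obj F,
      g ≫ (αZ U).app F = f := by
  have h := (η U).naturality f
  rw [unit_eq_zero U _ (vanishesOn_push U G), zero_comp] at h
  exact ⟨kernel.lift _ f h, kernel.lift_ι _ _ _⟩

/-- `i_* ⊣ i⁻¹ Γ_Z`. -/
noncomputable def pushSectSuppPullAdj :
    CohTop.push (CohCx.inclCompl U) ⊣ LocCohZ.sectSuppF U ⋙ CohTop.pull (CohCx.inclCompl U) := by
  haveI : (TopCat.Sheaf.pushforward AddCommGrpCat.{u} (CohCx.inclCompl U)).Full :=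
    ClosedEmb.full_sheaf_pushforward _ (isClosedEmbedding_inclCompl U) _
  haveI : (TopCat.Sheaf.pushforward AddCommGrpCat.{u} (CohCx.inclCompl U)).Faithful :=
    ClosedEmb.faithful_sheaf_pushforward _ (isClosedEmbedding_inclCompl U) _
  refine @CoreflAdj.coreflAdj _ _ _ _ _ _
    (TopCat.Sheaf.pullbackPushforwardAdjunction AddCommGrpCat.{u} (CohCx.inclCompl U)) _ _
    (LocCohZ.sectSuppF U) (αZ U) (fun F => mono_αZ_app U F) ?_ ?_
  · intro G F f
    exact exists_lift U G F f
  · intro F
    exact (Adjunction.isIso_unit_app_iff_mem_essImage _).2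
      ((ClosedEmb.essImage_iff _ (isClosedEmbedding_inclCompl U) _).2
        (isSupp_of_vanishesOn U _ (vanishesOn_sectSupp U F)))

lemma preservesMonomorphisms_push :
    (CohTop.push (CohCx.inclCompl U)).PreservesMonomorphisms := by
  haveI := (Groth.Agent.H45.CohTopPush.pullPushAdj
    (CohCx.inclCompl U)).rightAdjoint_preservesLimits
  haveI : Limits.PreservesLimitsOfShape Limits.WalkingCospan
      (CohTop.push (CohCx.inclCompl U)) := inferInstance
  exact preservesMonomorphisms_of_preservesLimitsOfShape _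

/-- `i⁻¹ Γ_Z(I)` is injective when `I` is. -/
theorem injective_HZ (I : CohTop.Ab X) [Injective I] : Injective (CohCx.HZ U I) := by
  haveI := preservesMonomorphisms_push U
  exact Injective.injective_of_adjoint (pushSectSuppPullAdj U) I

/-- Direct images preserve injectives. -/
lemma injective_push {Y Y' : TopCat.{u}} (f : Y ⟶ Y') (J : CohTop.Ab Y) [Injective J] :
    Injective ((CohTop.push f).obj J) := by
  haveI := Groth.Agent.H45.CohTopPush.preservesFiniteLimits_pull f
  haveI : Limits.PreservesLimitsOfShape Limits.WalkingCospan (CohTop.pull f) := inferInstance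
  haveI : (CohTop.pull f).PreservesMonomorphisms :=
    preservesMonomorphisms_of_preservesLimitsOfShape _
  exact Injective.injective_of_adjoint (Groth.Agent.H45.CohTopPush.pullPushAdj f) J

/-- `Γ_Z(F) ≅ i_* i⁻¹ Γ_Z(F)`. -/
lemma isIso_unit_sectSupp (F : CohTop.Ab X) :
    IsIso ((Groth.Agent.H45.CohTopPush.pullPushAdj (CohCx.inclCompl U)).unit.app
      ((LocCohZ.sectSuppF U).obj F)) := by
  haveI : (CohTop.push (CohCx.inclCompl U)).Full :=
    ClosedEmb.full_sheaf_pushforward _ (isClosedEmbedding_inclCompl U) _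
  haveI : (CohTop.push (CohCx.inclCompl U)).Faithful :=
    ClosedEmb.faithful_sheaf_pushforward _ (isClosedEmbedding_inclCompl U) _
  exact (Adjunction.isIso_unit_app_iff_mem_essImage _).2
    ((ClosedEmb.essImage_iff _ (isClosedEmbedding_inclCompl U) _).2
      (isSupp_of_vanishesOn U _ (vanishesOn_sectSupp U F)))

/-- `Γ_Z(I)` is injective when `I` is. -/
theorem injective_sectSupp (I : CohTop.Ab X) [Injective I] :
    Injective ((LocCohZ.sectSuppF U).obj I) := by
  haveI := isIso_unit_sectSupp U I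
  haveI : Injective (CohCx.HZ U I) := injective_HZ U I
  have h2 : Injective ((CohTop.push (CohCx.inclCompl U)).obj (CohCx.HZ U I)) :=
    injective_push _ _
  exact Injective.of_iso (asIso ((Groth.Agent.H45.CohTopPush.pullPushAdj
    (CohCx.inclCompl U)).unit.app ((LocCohZ.sectSuppF U).obj I))).symm h2

end Groth.Agent.H45.LocCohZClosed
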