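import Groth.Agent.H31.MVShriek
import Groth.Agent.H31.GrothAb

/-!
# Locally injective `O_X`-modules are injective (helper45 library)

Scheme part of the argument: the family of morphisms `j_{U!}(i')` (`U` an open on which `F` is
injective, `i'` a monomorphism of `O_U`-modules) generates all monomorphisms by pushouts and
transfinite compositions; the transfinite part is the hypothesis `hTM` (a family version of Mathlib's
`IsGrothendieckAbelian.generatingMonomorphisms_rlp`).
-/

set_option backward.isDefEq.respectTransparency false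
set_option autoImplicit false
set_option linter.style.haveILetI false
universe u
open CategoryTheory CategoryTheory.Limits AlgebraicGeometry TopologicalSpace Opposite ZeroObject

namespace Groth.Agent.H45.LocInj

open Groth.Agent.H31.MVS

variable {X : Scheme.{u}}

/-- `F` restricted to `U` is injective. -/
abbrev Good (F : X.Modules) (U : X.Opens) : Prop :=
  Injective ((Scheme.Modules.restrictFunctor U.ι).obj F)

/-- The generating family of monomorphisms. -/
inductive Wm (F : X.Modules) : MorphismProperty X.Modules
  | mk (U : X.Opens) (hU : Good F U) {K N : (U : Scheme.{u}).Modules} (i' : K ⟶ N)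
      (hi : Mono i') : Wm F ((CxOX.extZero U.ι).map i')
  | iso {A B : X.Modules} (e : A ⟶ B) (he : IsIso e) : Wm F e

theorem rlp_zero (F : X.Modules) : (Wm F).rlp (0 : F ⟶ (0 : X.Modules)) := by
  intro A B i hi
  cases hi with
  | mk U hU i' hi' =>
    haveI := hi'
    haveI : Injective ((Scheme.Modules.restrictFunctor U.ι).obj F) := hU
    constructor
    intro f g sq
    refine ⟨⟨{ l := ((CxOX.extZeroAdj U.ι).homEquiv _ _).symm
                (Injective.factorThru ((CxOX.extZeroAdj U.ι).homEquiv _ _ f) i')
               fac_left := ?_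
               fac_right := (isZero_zero _).eq_of_tgt _ _ }⟩⟩
    rw [← Adjunction.homEquiv_naturality_left_symm, Injective.comp_factorThru,
      Equiv.symm_apply_apply]
  | iso e he =>
    haveI := he
    exact ⟨fun {f} {g} sq => ⟨⟨{ l := inv i ≫ f
                                 fac_left := by simp
                                 fac_right := (isZero_zero _).eq_of_tgt _ _ }⟩⟩⟩

theorem injective_sk_map {M N : X.Modules} (f : M ⟶ N) [Mono f] (x : X) :
    Function.Injective ((sk x).map f) := by
  have : Mono ((SheafOfModules.forget X.ringCatSheaf).map f) := inferInstance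
  have h1 : ∀ U, Function.Injective (((SheafOfModules.forget X.ringCatSheaf).map f).app U) :=
    PresheafOfModules.injective_of_mono _
  exact TopCat.Presheaf.stalkFunctor_map_injective_of_app_injective
    (f := (Scheme.Modules.toPresheaf X).map f) (fun U => h1 (op U)) x

theorem subsingleton_sk_of_mono {K : X.Modules} {U : X.Opens} {N : (U : Scheme.{u}).Modules}
    (i : K ⟶ (CxOX.extZero U.ι).obj N) [Mono i] (x : X) (hx : x ∉ U) :
    Subsingleton ((sk x).obj K) := by
  have h1 := injective_sk_map i x
  haveI := subsingleton_sk_extZero U N x hx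
  exact h1.subsingleton

/-- The counit of `j_! ⊣ j^*` is invertible on subobjects of extensions by zero. -/
theorem isIso_ε_of_mono (U : X.Opens) {K : X.Modules} {N : (U : Scheme.{u}).Modules}
    (i : K ⟶ (CxOX.extZero U.ι).obj N) [Mono i] : IsIso ((ε U).app K) := by
  refine isIso_of_stalks _ (fun x => ?_)
  by_cases hx : x ∈ U
  · exact isIso_sk_ε U _ x hx
  · exact isIso_of_subsingleton _ (subsingleton_sk_extZero U _ x hx)
      (subsingleton_sk_of_mono i x hx)

/-- A monomorphism through which all the counits `j_{U!} j_U^* Y ⟶ Y` factor is invertible. -/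
theorem isIso_of_factor (F : X.Modules) (hF : ∀ x : X, ∃ U : X.Opens, x ∈ U ∧ Good F U)
    {A Y : X.Modules} (p : A ⟶ Y) [Mono p]
    (h : ∀ U : X.Opens, Good F U → ∃ g : (S U).obj Y ⟶ A, g ≫ p = (ε U).app Y) : IsIso p := by
  refine isIso_of_stalks _ (fun x => ?_)
  obtain ⟨U, hxU, hU⟩ := hF x
  obtain ⟨g, hg⟩ := h U hU
  refine isIso_stalk_of_isIso_restrict U p ?_ x hxU
  haveI : (Scheme.Modules.restrictFunctor U.ι).IsRightAdjoint :=
    (CxOX.extZeroAdj U.ι).isRightAdjoint
  haveI : Mono ((Scheme.Modules.restrictFunctor U.ι).map p) := inferInstance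
  haveI := isIso_restrict_ε U Y
  have hsplit : (inv ((Scheme.Modules.restrictFunctor U.ι).map ((ε U).app Y)) ≫
      (Scheme.Modules.restrictFunctor U.ι).map g) ≫
      (Scheme.Modules.restrictFunctor U.ι).map p = 𝟙 _ := by
    rw [Category.assoc, ← Functor.map_comp, hg, IsIso.inv_hom_id]
  haveI : IsSplitEpi ((Scheme.Modules.restrictFunctor U.ι).map p) := ⟨⟨⟨_, hsplit⟩⟩⟩
  exact isIso_of_mono_of_isSplitEpi _

theorem exists_pushouts (F : X.Modules) (hF : ∀ x : X, ∃ U : X.Opens, x ∈ U ∧ Good F U)
    {A Y : X.Modules} (p : A ⟶ Y) [Mono p] (hp : ¬ IsIso p) :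
    ∃ (X' : X.Modules) (i : A ⟶ X') (p' : X' ⟶ Y), (Wm F).pushouts i ∧ ¬ IsIso i ∧ Mono p' ∧
      i ≫ p' = p := by
  have hex : ∃ U : X.Opens, Good F U ∧ ¬ ∃ g : (S U).obj Y ⟶ A, g ≫ p = (ε U).app Y := by
    by_contra hcon
    exact hp (isIso_of_factor F hF p (fun U hU => by
      by_contra h'
      exact hcon ⟨U, hU, h'⟩))
  obtain ⟨U, hU, hf⟩ := hex
  let f : (S U).obj Y ⟶ Y := (ε U).app Y
  refine ⟨pushout (pullback.fst p f) (pullback.snd p f), pushout.inl _ _,
    pushout.desc p f pullback.condition, ?_, ?_, ?_, by simp⟩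
  · haveI : Mono (pullback.snd p f) := inferInstance
    haveI h1 : IsIso ((ε U).app (pullback p f)) := isIso_ε_of_mono U (pullback.snd p f)
    haveI h2 : IsIso ((ε U).app ((S U).obj Y)) := isIso_ε_extZero U U le_rfl _
    haveI : (Scheme.Modules.restrictFunctor U.ι).IsRightAdjoint :=
      (CxOX.extZeroAdj U.ι).isRightAdjoint
    have hW : Wm F ((S U).map (pullback.snd p f)) :=
      Wm.mk U hU ((Scheme.Modules.restrictFunctor U.ι).map (pullback.snd p f)) inferInstance
    have hnat : (S U).map (pullback.snd p f) ≫ (ε U).app ((S U).obj Y) =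
        (ε U).app (pullback p f) ≫ pullback.snd p f := (ε U).naturality _
    refine ⟨_, _, (S U).map (pullback.snd p f), (ε U).app (pullback p f) ≫ pullback.fst p f,
      (ε U).app ((S U).obj Y) ≫ pushout.inr _ _, hW, ?_⟩
    refine (IsPushout.of_hasPushout (pullback.fst p f) (pullback.snd p f)).of_iso
      (asIso ((ε U).app (pullback p f))).symm (Iso.refl _)
      (asIso ((ε U).app ((S U).obj Y))).symm (Iso.refl _) (by simp) ?_ (by simp) (by simp)
    simp only [Iso.symm_hom, asIso_inv]
    rw [IsIso.comp_inv_eq, Category.assoc, hnat, IsIso.inv_hom_id_assoc]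
  · intro h
    apply hf
    refine ⟨pushout.inr _ _ ≫ inv (pushout.inl (pullback.fst p f) (pullback.snd p f)), ?_⟩
    have e1 : pushout.inl (pullback.fst p f) (pullback.snd p f) ≫
        pushout.desc p f pullback.condition = p := pushout.inl_desc _ _ _
    have e2 : pushout.inr (pullback.fst p f) (pullback.snd p f) ≫
        pushout.desc p f pullback.condition = f := pushout.inr_desc _ _ _
    calc (pushout.inr _ _ ≫ inv (pushout.inl (pullback.fst p f) (pullback.snd p f))) ≫ p
        = (pushout.inr _ _ ≫ inv (pushout.inl (pullback.fst p f) (pullback.snd p f))) ≫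
          (pushout.inl (pullback.fst p f) (pullback.snd p f) ≫
            pushout.desc p f pullback.condition) := by rw [e1]
      _ = pushout.inr _ _ ≫ pushout.desc p f pullback.condition := by
          rw [Category.assoc, IsIso.inv_hom_id_assoc]
      _ = f := e2
  · exact (IsPushout.of_hasPushout _ _).mono_of_isPullback_of_mono
      (IsPullback.of_hasPullback p f) _ (by simp) (by simp)

/-- Locally injective modules are injective, given the transfinite lemma `hTM`. -/
theorem injective_of_locally
    (hTM : ∀ (W : MorphismProperty X.Modules),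
      MorphismProperty.isomorphisms X.Modules ≤ W.pushouts →
      (∀ ⦃A Y : X.Modules⦄ (p : A ⟶ Y) [Mono p], ¬ IsIso p →
        ∃ (X' : X.Modules) (i : A ⟶ X') (p' : X' ⟶ Y),
          W.pushouts i ∧ ¬ IsIso i ∧ Mono p' ∧ i ≫ p' = p) →
      W.rlp ≤ (MorphismProperty.monomorphisms X.Modules).rlp)
    (F : X.Modules) (hF : ∀ x : X, ∃ U : X.Opens, x ∈ U ∧ Good F U) : Injective F := by
  rw [injective_iff_rlp_monomorphisms_zero]
  refine hTM (Wm F) ?_ (fun A Y p _ hp => exists_pushouts F hF p hp) _ (rlp_zero F)
  intro A B e he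
  exact MorphismProperty.le_pushouts _ _ (Wm.iso e he)

end Groth.Agent.H45.LocInj
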