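import Mathlib

/-!
# Helper library (helper45): Nakayama for base change along a local homomorphism

* `subsingleton_of_subsingleton_tensor` : for a local homomorphism of local rings `A → B` and a
  finite `A`-module `M`, if `B ⊗[A] M` is trivial then `M` is trivial.
-/

set_option autoImplicit false
universe u v w
open TensorProduct IsLocalRing

namespace Groth.Agent.H45.LocalTensorZero

theorem subsingleton_of_subsingleton_tensor {A : Type u} {B : Type v} [CommRing A] [CommRing B]
    [IsLocalRing A] [IsLocalRing B] [Algebra A B] [IsLocalHom (algebraMap A B)]
    (M : Type w) [AddCommGroup M] [Module A M] [Module.Finite A M]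
    (h : Subsingleton (B ⊗[A] M)) : Subsingleton M := by
  have h1 : Subsingleton (ResidueField B ⊗[B] (B ⊗[A] M)) := inferInstance
  have h2 : Subsingleton (ResidueField B ⊗[A] M) :=
    (TensorProduct.AlgebraTensorModule.cancelBaseChange A B B (ResidueField B) M).symm.toEquiv.subsingleton
  have h3 : Subsingleton (ResidueField B ⊗[ResidueField A] (ResidueField A ⊗[A] M)) :=
    (TensorProduct.AlgebraTensorModule.cancelBaseChange A (ResidueField A) (ResidueField B)
      (ResidueField B) M).toEquiv.subsingleton
  have h4 : Subsingleton (ResidueField A ⊗[A] M) :=
    Module.FaithfullyFlat.lTensor_reflects_triviality (ResidueField A) (ResidueField B) _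
  exact (IsLocalRing.subsingleton_tensorProduct (R := A) (M := M)).mp h4

end Groth.Agent.H45.LocalTensorZero
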