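import Groth.Agent.S0012
import Groth.Agent.S0007
import Groth.Agent.H8.QCohPush
import Groth.Agent.H22.QCohLimits
import Groth.Agent.H45.ExtAdj

/-!
# Helper library (helper45): every quasi-coherent module on a quasi-compact scheme with affine
diagonal embeds into an acyclic quasi-coherent module (`M ⟶ ⨁ j_{i*}(M|_{U_i})`).
-/

set_option autoImplicit false
universe u
open CategoryTheory CategoryTheory.Limits AlgebraicGeometry TopologicalSpace Opposite

namespace Groth.Agent.H45.MonoAcyclic

open CategoryTheory.Abelian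

variable {X : Scheme.{u}} (M : X.Modules)

lemma image_preimage_le (U V : X.Opens) : U.ι ''ᵁ (U.ι ⁻¹ᵁ V) ≤ V := by
  rintro _ ⟨y, hy, rfl⟩
  exact hy

/-- `j_*(M|_U)` -/
noncomputable abbrev G (U : X.Opens) : X.Modules :=
  (Scheme.Modules.pushforward U.ι).obj (M.restrict U.ι)

/-- the unit `M ⟶ j_*(M|_U)` -/
noncomputable abbrev η (U : X.Opens) : M ⟶ G M U :=
  (Scheme.Modules.restrictAdjunction U.ι).unit.app M

lemma η_app (U V : X.Opens) (x : Γ(M, V)) :
    (η M U).app V x = M.presheaf.map (homOfLE (image_preimage_le U V)).op x := rfl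

lemma isAffineHom_ι
    (hd : ∀ V W : X.Opens, IsAffineOpen V → IsAffineOpen W → IsAffineOpen (V ⊓ W))
    {U : X.Opens} (hU : IsAffineOpen U) : IsAffineHom U.ι := by
  refine ⟨fun V hV => ?_⟩
  rw [← U.ι.isAffineOpen_iff_of_isOpenImmersion, U.ι.image_preimage_eq_opensRange_inf,
    Scheme.Opens.opensRange_ι]
  exact hd _ _ hU hV

section

variable [M.IsQuasicoherent]
  (hd : ∀ V W : X.Opens, IsAffineOpen V → IsAffineOpen W → IsAffineOpen (V ⊓ W))

include hd in
lemma isQuasicoherent_G {U : X.Opens} (hU : IsAffineOpen U) : (G M U).IsQuasicoherent := by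
  haveI := isAffineHom_ι hd hU
  exact Groth.Agent.H8.isQuasicoherent_pushforward U.ι (M.restrict U.ι)

include hd in
lemma subsingleton_HH_G {U : X.Opens} (hU : IsAffineOpen U) (p : ℕ) :
    Subsingleton (Coh.HH X (G M U) (p + 1)) := by
  haveI := isAffineHom_ι hd hU
  haveI : IsAffine (U : Scheme.{u}) := hU
  obtain ⟨e⟩ := Groth.Agent.S0012.result U.ι (M.restrict U.ι) (p + 1)
  haveI := Groth.Agent.S0007.result (U : Scheme.{u}) (M.restrict U.ι) (p + 1) (Nat.succ_pos p)
  exact e.symm.subsingleton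

end

/-- The inductive invariant. -/
structure Good (s : Finset X.Opens) (M' : X.Modules) (φ : M ⟶ M') : Prop where
  qcoh : M'.IsQuasicoherent
  acyc : ∀ p : ℕ, Subsingleton (Coh.HH X M' (p + 1))
  ker : ∀ (V : X.Opens) (x : Γ(M, V)), φ.app V x = 0 → ∀ U ∈ s,
    M.presheaf.map (homOfLE (image_preimage_le U V)).op x = 0

lemma subsingleton_HH_of_isZero {N : X.Modules} (hN : IsZero N) (p : ℕ) :
    Subsingleton (Coh.HH X N p) := by
  have hz : IsZero (Coh.toAb N) := (SheafOfModules.toSheaf X.ringCatSheaf).map_isZero hN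
  refine ⟨fun x y => ?_⟩
  have key : ∀ x : Coh.HH X N p, x = 0 := by
    intro x
    rw [← Ext.comp_mk₀_id x, hz.eq_of_src (𝟙 _) 0, Ext.mk₀_zero, Ext.comp_zero]
  exact (key x).trans (key y).symm

lemma subsingleton_HH_biprod (A B : X.Modules) (p : ℕ)
    (hA : Subsingleton (Coh.HH X A p)) (hB : Subsingleton (Coh.HH X B p)) :
    Subsingleton (Coh.HH X (A ⊞ B) p) := by
  haveI : PreservesBinaryBiproducts (SheafOfModules.toSheaf X.ringCatSheaf) :=
    preservesBinaryBiproducts_of_preservesBiproducts _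
  let e : Coh.toAb (A ⊞ B) ≅ Coh.toAb A ⊞ Coh.toAb B :=
    (SheafOfModules.toSheaf X.ringCatSheaf).mapBiprod A B
  have e₁ := ExtAdj.addEquivOfIsoRight
    ((constantSheaf (Opens.grothendieckTopology X) AddCommGrpCat.{u}).obj
      (AddCommGrpCat.of (ULift ℤ))) e p
  have e₂ := Ext.addEquivBiprod (X := (constantSheaf (Opens.grothendieckTopology X)
    AddCommGrpCat.{u}).obj (AddCommGrpCat.of (ULift ℤ))) (Y₁ := Coh.toAb A) (Y₂ := Coh.toAb B)
    (n := p)
  haveI : Subsingleton (Ext ((constantSheaf (Opens.grothendieckTopology X)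
    AddCommGrpCat.{u}).obj (AddCommGrpCat.of (ULift ℤ))) (Coh.toAb A) p) := hA
  haveI : Subsingleton (Ext ((constantSheaf (Opens.grothendieckTopology X)
    AddCommGrpCat.{u}).obj (AddCommGrpCat.of (ULift ℤ))) (Coh.toAb B) p) := hB
  exact (e₁.trans e₂).toEquiv.subsingleton

theorem exists_good [M.IsQuasicoherent]
    (hd : ∀ V W : X.Opens, IsAffineOpen V → IsAffineOpen W → IsAffineOpen (V ⊓ W))
    (s : Finset X.Opens) (hs : ∀ U ∈ s, IsAffineOpen U) :
    ∃ (M' : X.Modules) (φ : M ⟶ M'), Good M s M' φ := by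
  classical
  induction s using Finset.induction_on with
  | empty =>
    refine ⟨kernel (𝟙 M), 0, ?_, ?_, ?_⟩
    · exact Groth.Agent.H22.QCohLimits.isQuasicoherent_kernel (𝟙 M)
    · intro p
      exact subsingleton_HH_of_isZero (isZero_kernel_of_mono (𝟙 M)) _
    · intro V x _ U hU
      simp at hU
  | insert U s hUs ih =>
    obtain ⟨M', φ, hg⟩ := ih (fun W hW => hs W (Finset.mem_insert_of_mem hW))
    have hU : IsAffineOpen U := hs U (Finset.mem_insert_self U s)
    haveI := hg.qcoh
    haveI := isQuasicoherent_G M hd hU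
    refine ⟨M' ⊞ G M U, biprod.lift φ (η M U), ?_, ?_, ?_⟩
    · exact Groth.Agent.H22.QCohLimits.isQuasicoherent_biprod M' (G M U)
    · intro p
      exact subsingleton_HH_biprod _ _ _ (hg.acyc p) (subsingleton_HH_G M hd hU p)
    · intro V x hx W hW
      have h1 : φ.app V x = 0 := by
        have h : (biprod.lift φ (η M U) ≫ biprod.fst).app V x = 0 := by
          rw [Scheme.Modules.Hom.comp_app]
          change (biprod.fst : M' ⊞ G M U ⟶ M').app V ((biprod.lift φ (η M U)).app V x) = 0
          rw [hx, map_zero]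
        rwa [biprod.lift_fst] at h
      have h2 : (η M U).app V x = 0 := by
        have h : (biprod.lift φ (η M U) ≫ biprod.snd).app V x = 0 := by
          rw [Scheme.Modules.Hom.comp_app]
          change (biprod.snd : M' ⊞ G M U ⟶ G M U).app V ((biprod.lift φ (η M U)).app V x) = 0
          rw [hx, map_zero]
        rwa [biprod.lift_snd] at h
      rcases Finset.mem_insert.1 hW with rfl | hW
      · exact h2
      · exact hg.ker V x h1 W hW

end Groth.Agent.H45.MonoAcyclic
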