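import Mathlib.CategoryTheory.Sites.Over
import Mathlib.CategoryTheory.Sites.Pullback
import Mathlib.CategoryTheory.Limits.Final
import Mathlib.CategoryTheory.Abelian.GrothendieckAxioms.Basic
import Mathlib.Algebra.Category.Grp.AB
import Groth.Agent.H45.LanExact

/-!
# Extension by zero `j_!` along `Over.forget U` is exact
-/

set_option autoImplicit false
universe v₁ v₂ v₃ u₁ u₂ u₃ u
open CategoryTheory CategoryTheory.Limits Opposite

namespace Groth.Agent.H45

section General

variable {C : Type u₁} [Category.{v₁} C] {D : Type u₂} [Category.{v₂} D]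

/-- Left Kan extension along `F.op` is left exact as soon as the colimits over the relevant
costructured arrow categories are exact. -/
theorem lan_preservesFiniteLimits_of_exactColimits (E : Type u₃) [Category.{v₃} E]
    (F : C ⥤ D) [HasFiniteLimits E]
    [∀ X : Dᵒᵖ, HasColimitsOfShape (CostructuredArrow F.op X) E]
    [∀ X : Dᵒᵖ, HasExactColimitsOfShape (CostructuredArrow F.op X) E] :
    PreservesFiniteLimits (F.op.lan : (Cᵒᵖ ⥤ E) ⥤ (Dᵒᵖ ⥤ E)) := by
  constructor
  intro J _ _
  apply preservesLimitsOfShape_of_evaluation (F.op.lan : (Cᵒᵖ ⥤ E) ⥤ Dᵒᵖ ⥤ E) J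
  intro K
  exact preservesLimitsOfShape_of_natIso (lanEvaluationIsoColim' E F.op K).symm

theorem sheafPullback_preservesFiniteLimits_of_exactColimits (G : C ⥤ D) (A : Type u₃)
    [Category.{v₃} A]
    (J : GrothendieckTopology C) (K : GrothendieckTopology D) [G.IsContinuous J K]
    [HasFiniteLimits A] [HasSheafify K A] [HasSheafify J A]
    [∀ X : Dᵒᵖ, HasColimitsOfShape (CostructuredArrow G.op X) A]
    [∀ X : Dᵒᵖ, HasExactColimitsOfShape (CostructuredArrow G.op X) A] :
    PreservesFiniteLimits (G.sheafPullback A J K) := by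
  have := lan_preservesFiniteLimits_of_exactColimits A G
  exact Functor.sheafPullbackConstruction.preservesFiniteLimits G A J K

end General

section Over

variable {C : Type u₁} [Category.{v₁} C] (U V : C)

/-- The "terminal objects" of the connected components of
`CostructuredArrow (Over.forget U).op (op V)`. -/
abbrev overSection : Discrete (V ⟶ U) ⥤ CostructuredArrow (Over.forget U).op (op V) :=
  Discrete.functor (fun φ =>
    CostructuredArrow.mk (Y := op (Over.mk φ)) (𝟙 (op V)))

lemma overSection_hom_eq {k : CostructuredArrow (Over.forget U).op (op V)} {φ : V ⟶ U}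
    (a : k ⟶ (overSection U V).obj ⟨φ⟩) :
    a.left.unop.left = k.hom.unop := by
  rw [← CostructuredArrow.w a]
  exact (Category.id_comp (Y := k.left.unop.left) (X := V) a.left.unop.left).symm

lemma overSection_eq {k : CostructuredArrow (Over.forget U).op (op V)} {φ : V ⟶ U}
    (a : k ⟶ (overSection U V).obj ⟨φ⟩) :
    φ = k.hom.unop ≫ k.left.unop.hom := by
  have h := Over.w a.left.unop
  rw [overSection_hom_eq U V a] at h
  exact h.symm

instance overSection_final : (overSection U V).Final := by
  constructor
  intro k
  let φ₀ : V ⟶ U := k.hom.unop ≫ k.left.unop.hom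
  let a₀ : k ⟶ (overSection U V).obj ⟨φ₀⟩ :=
    CostructuredArrow.homMk (Quiver.Hom.op (Over.homMk k.hom.unop rfl)) (by
      exact Category.comp_id k.hom)
  haveI : Nonempty (StructuredArrow k (overSection U V)) := ⟨StructuredArrow.mk a₀⟩
  refine zigzag_isConnected (fun s₁ s₂ => ?_)
  suffices ∀ s : StructuredArrow k (overSection U V), s = StructuredArrow.mk a₀ by
    rw [this s₁, this s₂]
  intro s
  obtain ⟨⟨⟩, ⟨φ⟩, a⟩ := s
  have hφ : φ = φ₀ := overSection_eq U V a
  subst hφ
  congr 1
  apply CostructuredArrow.hom_ext
  apply Quiver.Hom.unop_inj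
  apply Over.OverMorphism.ext
  exact overSection_hom_eq U V a

end Over

section Exact

variable {C : Type u} [SmallCategory C] (J : GrothendieckTopology C) (U : C)

instance hasExactColimitsOfShape_costructuredArrow_overForget (X : Cᵒᵖ) :
    HasExactColimitsOfShape (CostructuredArrow (Over.forget U).op X) AddCommGrpCat.{u} :=
  hasExactColimitsOfShape_of_final AddCommGrpCat.{u} (overSection U X.unop)

/-- Extension by zero `j_! : Ab(C/U) ⥤ Ab(C)` is left exact (hence exact). -/
theorem preservesFiniteLimits_overShriek :
    PreservesFiniteLimits ((Over.forget U).sheafPullback AddCommGrpCat.{u} (J.over U) J) :=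
  sheafPullback_preservesFiniteLimits_of_exactColimits (Over.forget U) AddCommGrpCat.{u}
    (J.over U) J

end Exact

end Groth.Agent.H45
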