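import Groth.Prelude.Def_CohCx
import Groth.Agent.H45.OverCoh
import Mathlib.CategoryTheory.Sites.Adjunction

/-!
# Restriction to `C/X` preserves totally acyclic sheaves
-/

set_option autoImplicit false
universe u
open CategoryTheory CategoryTheory.Limits Opposite CategoryTheory.Abelian

namespace Groth.Agent.H45

variable {C : Type u} [SmallCategory C] (J : GrothendieckTopology C) (U : C)

/-- `j_!` on sheaves of sets. -/
noncomputable abbrev overShriekSet : Sheaf (J.over U) (Type u) ⥤ Sheaf J (Type u) :=
  (Over.forget U).sheafPullback (Type u) (J.over U) J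

/-- The free abelian sheaf functor on sheaves of sets. -/
noncomputable abbrev freeAb {D : Type u} [SmallCategory D] (K : GrothendieckTopology D) :
    Sheaf K (Type u) ⥤ Sheaf K AddCommGrpCat.{u} :=
  Sheaf.composeAndSheafify K AddCommGrpCat.free.{u}

/-- `j_!` commutes with the free abelian sheaf functors. -/
noncomputable def freeAbShriekIso :
    freeAb (J.over U) ⋙ overShriek J U ≅ overShriekSet J U ⋙ freeAb J :=
  (conjugateIsoEquiv
    (((Over.forget U).sheafAdjunctionContinuous (Type u) (J.over U) J).comp
      (Sheaf.adjunction J AddCommGrpCat.adj))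
    ((Sheaf.adjunction (J.over U) AddCommGrpCat.adj).comp (overShriekAdj J U))).symm
    (Iso.refl _)

/-- Restriction to `C/U` preserves totally acyclic abelian sheaves. -/
theorem isTotallyAcyclic_overPullback (F : Sheaf J AddCommGrpCat.{u})
    (hF : CohCx.IsTotallyAcyclic F) :
    CohCx.IsTotallyAcyclic ((J.overPullback AddCommGrpCat.{u} U).obj F) := by
  intro K' p
  haveI := preservesFiniteLimits_overShriek J U
  haveI := preservesFiniteLimits_overPullback J U
  haveI := preservesFiniteColimits_overPullback J U
  obtain ⟨e⟩ := ExtAdj.nonempty_ext_addEquiv_of_rightDerived_isZero (overShriekAdj J U) F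
    (fun i hi => ExtAdj.isZero_rightDerived_of_exact (J.overPullback AddCommGrpCat.{u} U) F i hi)
    ((freeAb (J.over U)).obj K') (p + 1)
  have e' := ExtAdj.addEquivOfIsoLeft ((freeAbShriekIso J U).app K') F (p + 1)
  have hsub : Subsingleton (Ext ((overShriekSet J U ⋙ freeAb J).obj K') F (p + 1)) :=
    hF ((overShriekSet J U).obj K') p
  exact @Equiv.subsingleton _ _ (e.symm.trans e').toEquiv hsub

end Groth.Agent.H45
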