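import Groth.Agent.H56.PerfDual
import Groth.Agent.S6515
import Mathlib.Algebra.Homology.DerivedCategory.ShortExact

/-!
# The derived tensor product and mapping cones in the fixed variable
(piece (P2) of helper56's squad request #2 for S1115 / S11112; also used by helper31's S6498)

For `f : A ⟶ B` a morphism of complexes of `O_Z`-modules there are natural transformations
`- ⊗^L A ⟶ - ⊗^L B ⟶ - ⊗^L cone f` which extend, at every object `N` of `D(O_Z)`, to a
distinguished triangle.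

Sign-free route: `Tot(P ⊗ -)` sends the degreewise split sequence
`B ⟶ cone f ⟶ A⟦1⟧` to a short exact sequence, hence to a distinguished triangle with connecting
map `δ_f`; naturality along `cone (𝟙 A) ⟶ cone f` gives `δ_f = δ_𝟙 ≫ (Q Tot(P ⊗ f))⟦1⟧`, and
`δ_𝟙` is an isomorphism since `cone (𝟙 A)` is contractible.  Rotate.
-/

set_option autoImplicit false
set_option linter.style.haveILetI false
universe u
open CategoryTheory CategoryTheory.Limits AlgebraicGeometry HomologicalComplex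
  CategoryTheory.Pretriangulated
attribute [local instance] HasDerivedCategory.standard

namespace Groth.Agent.H45.PC2

open Groth.Agent.H31 Groth.Agent.H31.Stalk Groth.Agent.H31.KFlat Groth.Agent.H40.LTensorComp
  Groth.Agent.H53.SiteTensor

variable {Z : Scheme.{u}}

section General

/-- Rotation lemma: if `(v, w, d₁ ≫ u⟦1⟧)` is distinguished with `d₁` an isomorphism, then `(u, v)`
extends to a distinguished triangle. -/
theorem exists_dist_of_rotate {C : Type*} [Category C] [Preadditive C] [HasZeroObject C]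
    [HasShift C ℤ] [∀ n : ℤ, (shiftFunctor C n).Additive] [Pretriangulated C]
    {X Y Z W : C} (u : X ⟶ Y) (v : Y ⟶ Z) (w : Z ⟶ W) (d₁ : W ⟶ X⟦(1 : ℤ)⟧) (hd : IsIso d₁)
    (d₂ : W ⟶ Y⟦(1 : ℤ)⟧) (h : d₁ ≫ u⟦(1 : ℤ)⟧' = d₂)
    (hT : Triangle.mk v w d₂ ∈ distTriang C) :
    ∃ δ : Z ⟶ X⟦(1 : ℤ)⟧, Triangle.mk u v δ ∈ distTriang C := by
  let κ : W ≅ X⟦(1 : ℤ)⟧ :=
    { hom := -d₁, inv := -(inv d₁), hom_inv_id := by simp, inv_hom_id := by simp }
  refine ⟨w ≫ κ.hom, ?_⟩
  rw [rotate_distinguished_triangle]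
  refine isomorphic_distinguished _ hT _ ?_
  exact Iso.symm (Triangle.isoMk (Triangle.mk v w d₂) (Triangle.mk u v (w ≫ κ.hom)).rotate
    (Iso.refl _) (Iso.refl _) κ
    (by
      show v ≫ 𝟙 Z = 𝟙 Y ≫ v
      rw [Category.comp_id, Category.id_comp])
    (by
      show w ≫ κ.hom = 𝟙 Z ≫ w ≫ κ.hom
      rw [Category.id_comp])
    (by
      subst h
      show (d₁ ≫ u⟦(1 : ℤ)⟧') ≫ (𝟙 Y)⟦(1 : ℤ)⟧' = (-d₁) ≫ (-(u⟦(1 : ℤ)⟧'))
      rw [CategoryTheory.Functor.map_id, Category.comp_id, Preadditive.neg_comp,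
        Preadditive.comp_neg, neg_neg]))

end General

section Chain

/-- `Tot(P ⊗ -)`. -/
noncomputable abbrev GP (P : CochainComplex Z.Modules ℤ) :
    CochainComplex Z.Modules ℤ ⥤ CochainComplex Z.Modules ℤ :=
  DCoh.tensorCx.obj P

/-- `Tot(P ⊗ cone(𝟙_A))` is zero in the derived category. -/
theorem isZero_Q_tot_cone_id (P A : CochainComplex Z.Modules ℤ) :
    IsZero (DerivedCategory.Q.obj ((GP P).obj (CochainComplex.mappingCone (𝟙 A)))) := by
  have H0 : Homotopy (𝟙 (CochainComplex.mappingCone (𝟙 A))) 0 :=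
    CochainComplex.mappingCone.homotopyToZeroOfId A
  have H := mapBifunctorMapHomotopy₂ (𝟙 P) H0 (DCoh.tensorBi (X := Z)) (ComplexShape.up ℤ)
  have e1 : mapBifunctorMap (𝟙 P) (𝟙 (CochainComplex.mappingCone (𝟙 A)))
      (DCoh.tensorBi (X := Z)) (ComplexShape.up ℤ) = 𝟙 _ :=
    ((DCoh.tensorBi (X := Z)).map₂CochainComplex.flip.obj _).map_id P
  rw [e1, Groth.Agent.H31.KFlat.mapBifunctorMap_zero_right] at H
  rw [IsZero.iff_id_eq_zero]
  have h := DerivedCategory.Q_map_eq_of_homotopy _ H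
  rw [CategoryTheory.Functor.map_id, CategoryTheory.Functor.map_zero] at h
  exact h

set_option maxHeartbeats 1600000 in
/-- Chain-level form: `Q Tot(P ⊗ A) ⟶ Q Tot(P ⊗ B) ⟶ Q Tot(P ⊗ cone f)` extends to a
distinguished triangle. -/
theorem exists_dist_tot_cone (P : CochainComplex Z.Modules ℤ)
    {A B : CochainComplex Z.Modules ℤ} (f : A ⟶ B) :
    ∃ δ : DerivedCategory.Q.obj ((GP P).obj (CochainComplex.mappingCone f)) ⟶
        (DerivedCategory.Q.obj ((GP P).obj A))⟦(1 : ℤ)⟧,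
      Triangle.mk (DerivedCategory.Q.map ((GP P).map f))
        (DerivedCategory.Q.map ((GP P).map (CochainComplex.mappingCone.inr f))) δ ∈
        distTriang (DCoh.D Z) := by
  let S₁ := CochainComplex.mappingCone.triangleRotateShortComplex (𝟙 A)
  let S₂ := CochainComplex.mappingCone.triangleRotateShortComplex f
  have hS₁ : (S₁.map (GP P)).ShortExact :=
    Groth.Agent.H31.KFlat.shortExact_map_obj_of_split (DCoh.tensorBi (X := Z)) P S₁
      (fun n => ⟨CochainComplex.mappingCone.triangleRotateShortComplexSplitting (𝟙 A) n⟩)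
  have hS₂ : (S₂.map (GP P)).ShortExact :=
    Groth.Agent.H31.KFlat.shortExact_map_obj_of_split (DCoh.tensorBi (X := Z)) P S₂
      (fun n => ⟨CochainComplex.mappingCone.triangleRotateShortComplexSplitting f n⟩)
  let m := CochainComplex.mappingCone.triangleMap (𝟙 A) f (𝟙 A) f (by simp)
  let ψ : S₁ ⟶ S₂ :=
    ShortComplex.homMk m.hom₂ m.hom₃ (m.hom₁⟦(1 : ℤ)⟧') m.comm₂.symm m.comm₃.symm
  have hnat : DerivedCategory.triangleOfSESδ hS₁ ≫
      (DerivedCategory.Q.map ((GP P).map f))⟦(1 : ℤ)⟧' = DerivedCategory.triangleOfSESδ hS₂ := by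
    have h := DerivedCategory.triangleOfSESδ_naturality hS₁ hS₂ ((GP P).mapShortComplex.map ψ)
    have h' : DerivedCategory.triangleOfSESδ hS₁ ≫
        (DerivedCategory.Q.map ((GP P).map f))⟦(1 : ℤ)⟧' =
      DerivedCategory.Q.map ((GP P).map ((𝟙 A)⟦(1 : ℤ)⟧')) ≫
        DerivedCategory.triangleOfSESδ hS₂ := h
    rw [CategoryTheory.Functor.map_id, CategoryTheory.Functor.map_id,
      CategoryTheory.Functor.map_id] at h'
    exact h'.trans (Category.id_comp _)
  have hT₁ := DerivedCategory.triangleOfSES_distinguished hS₁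
  have hz : IsZero (DerivedCategory.triangleOfSES hS₁).obj₂ := isZero_Q_tot_cone_id P A
  haveI hiso : IsIso (DerivedCategory.triangleOfSESδ hS₁) :=
    (Triangle.isZero₂_iff_isIso₃ _ hT₁).1 hz
  have hT₂ := DerivedCategory.triangleOfSES_distinguished hS₂
  exact exists_dist_of_rotate
    (X := DerivedCategory.Q.obj ((GP P).obj A)) (Y := DerivedCategory.Q.obj ((GP P).obj B))
    (Z := DerivedCategory.Q.obj ((GP P).obj (CochainComplex.mappingCone f)))
    (W := DerivedCategory.Q.obj ((GP P).obj (A⟦(1 : ℤ)⟧)))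
    (DerivedCategory.Q.map ((GP P).map f))
    (DerivedCategory.Q.map ((GP P).map (CochainComplex.mappingCone.inr f)))
    (DerivedCategory.Q.map ((GP P).map S₂.g))
    (DerivedCategory.triangleOfSESδ hS₁) hiso (DerivedCategory.triangleOfSESδ hS₂) hnat hT₂

end Chain

section Derived

/-- The counit of `- ⊗^L E`. -/
noncomputable abbrev εL (E : CochainComplex Z.Modules ℤ) [DCoh.HasLTensorCx E] :
    DerivedCategory.Q ⋙ DCoh.LTensorCx E ⟶ DCoh.tensorCxQ E :=
  (DCoh.tensorCxQ E).totalLeftDerivedCounit DerivedCategory.Q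
    (HomologicalComplex.quasiIso Z.Modules (ComplexShape.up ℤ))

/-- `Q Tot(- ⊗ E) ⟶ Q Tot(- ⊗ E')` induced by `q : E ⟶ E'`. -/
noncomputable abbrev ttL {E E' : CochainComplex Z.Modules ℤ} (q : E ⟶ E') :
    DCoh.tensorCxQ E ⟶ DCoh.tensorCxQ E' :=
  Functor.whiskerRight ((DCoh.tensorCx (X := Z)).flip.map q) DerivedCategory.Q

/-- `- ⊗^L E ⟶ - ⊗^L E'` induced by `q : E ⟶ E'`. -/
noncomputable def τL {E E' : CochainComplex Z.Modules ℤ} [DCoh.HasLTensorCx E]
    [DCoh.HasLTensorCx E'] (q : E ⟶ E') : DCoh.LTensorCx E ⟶ DCoh.LTensorCx E' :=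
  Functor.leftDerivedNatTrans (DCoh.LTensorCx E) (DCoh.LTensorCx E') (εL E) (εL E')
    (HomologicalComplex.quasiIso Z.Modules (ComplexShape.up ℤ)) (ttL q)

theorem τL_app {E E' : CochainComplex Z.Modules ℤ} [DCoh.HasLTensorCx E]
    [DCoh.HasLTensorCx E'] (q : E ⟶ E') (P : CochainComplex Z.Modules ℤ) :
    (τL q).app (DerivedCategory.Q.obj P) ≫ (εL E').app P =
      (εL E).app P ≫ DerivedCategory.Q.map ((GP P).map q) :=
  Functor.leftDerivedNatTrans_app (DCoh.LTensorCx E) (DCoh.LTensorCx E') (εL E) (εL E')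
    (HomologicalComplex.quasiIso Z.Modules (ComplexShape.up ℤ)) (ttL q) P

theorem isIso_εL_app (E : CochainComplex Z.Modules ℤ) [DCoh.HasLTensorCx E]
    (P : CochainComplex Z.Modules ℤ) (hP : KF (Tf (shX Z)) P) : IsIso ((εL E).app P) := by
  haveI : ModSite.HasLTensorCx (O := shX Z) E := ‹DCoh.HasLTensorCx E›
  exact Groth.Agent.H40.LTensorInv.isIso_ε_app (O := shX Z) E P hP

/-- Every object of `D(O_Z)` is represented by a left K-flat complex. -/
theorem exists_lkf_model (N : DCoh.D Z) :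
    ∃ (P : CochainComplex Z.Modules ℤ), KF (Tf (shX Z)) P ∧
      Nonempty (DerivedCategory.Q.obj P ≅ N) := by
  have := Groth.Agent.H31.KFlat.hasExactColimitsOfShape_nat_Mod (O := shX Z)
  obtain ⟨P, q, hP, -, hq, -⟩ :=
    exists_kflat_resolution (T := Tf (shX Z)) (tensorLike_Tf (shX Z))
      (DerivedCategory.Q.objPreimage N)
  have hq' : IsIso (DerivedCategory.Q.map q) :=
    (DerivedCategory.isIso_Q_map_iff_quasiIso _ q).2 hq
  exact ⟨P, hP, ⟨@asIso _ _ _ _ (DerivedCategory.Q.map q) hq' ≪≫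
    DerivedCategory.Q.objObjPreimageIso N⟩⟩

set_option maxHeartbeats 1600000 in
theorem exists_tensor_triangle {A B : CochainComplex Z.Modules ℤ} (f : A ⟶ B)
    [DCoh.HasLTensorCx A] [DCoh.HasLTensorCx B]
    [DCoh.HasLTensorCx (CochainComplex.mappingCone f)] :
    ∃ (τ₁ : DCoh.LTensorCx A ⟶ DCoh.LTensorCx B)
      (τ₂ : DCoh.LTensorCx B ⟶ DCoh.LTensorCx (CochainComplex.mappingCone f)),
      ∀ N : DCoh.D Z, ∃ δ : (DCoh.LTensorCx (CochainComplex.mappingCone f)).obj N ⟶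
          ((DCoh.LTensorCx A).obj N)⟦(1 : ℤ)⟧,
        Triangle.mk (τ₁.app N) (τ₂.app N) δ ∈ distTriang (DCoh.D Z) := by
  refine ⟨τL f, τL (CochainComplex.mappingCone.inr f), fun N => ?_⟩
  obtain ⟨P, hP, ⟨e⟩⟩ := exists_lkf_model N
  obtain ⟨δ₀, hδ₀⟩ := exists_dist_tot_cone P f
  haveI := isIso_εL_app A P hP
  haveI := isIso_εL_app B P hP
  haveI := isIso_εL_app (CochainComplex.mappingCone f) P hP
  have sq : ∀ {E E' : CochainComplex Z.Modules ℤ} [DCoh.HasLTensorCx E] [DCoh.HasLTensorCx E']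
      (g : E ⟶ E'),
      (τL g).app N ≫ ((DCoh.LTensorCx E').map e.inv ≫ (εL E').app P) =
        ((DCoh.LTensorCx E).map e.inv ≫ (εL E).app P) ≫
          DerivedCategory.Q.map ((GP P).map g) := by
    intro E E' _ _ g
    rw [← Category.assoc, ← (τL g).naturality e.inv, Category.assoc, τL_app, Category.assoc]
  let ιA : (DCoh.LTensorCx A).obj N ≅ DerivedCategory.Q.obj ((GP P).obj A) :=
    (DCoh.LTensorCx A).mapIso e.symm ≪≫ asIso ((εL A).app P)
  let ιB : (DCoh.LTensorCx B).obj N ≅ DerivedCategory.Q.obj ((GP P).obj B) :=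
    (DCoh.LTensorCx B).mapIso e.symm ≪≫ asIso ((εL B).app P)
  let ιC : (DCoh.LTensorCx (CochainComplex.mappingCone f)).obj N ≅
      DerivedCategory.Q.obj ((GP P).obj (CochainComplex.mappingCone f)) :=
    (DCoh.LTensorCx (CochainComplex.mappingCone f)).mapIso e.symm ≪≫
      asIso ((εL (CochainComplex.mappingCone f)).app P)
  refine ⟨ιC.hom ≫ δ₀ ≫ (ιA.inv)⟦(1 : ℤ)⟧', ?_⟩
  refine isomorphic_distinguished _ hδ₀ _ ?_
  exact Triangle.isoMk
    (Triangle.mk ((τL f).app N) ((τL (CochainComplex.mappingCone.inr f)).app N)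
      (ιC.hom ≫ δ₀ ≫ (ιA.inv)⟦(1 : ℤ)⟧'))
    (Triangle.mk (DerivedCategory.Q.map ((GP P).map f))
      (DerivedCategory.Q.map ((GP P).map (CochainComplex.mappingCone.inr f))) δ₀) ιA ιB ιC
    (sq f) (sq (CochainComplex.mappingCone.inr f)) (by
      show (ιC.hom ≫ δ₀ ≫ (ιA.inv)⟦(1 : ℤ)⟧') ≫ (ιA.hom)⟦(1 : ℤ)⟧' = ιC.hom ≫ δ₀
      rw [Category.assoc, Category.assoc, ← CategoryTheory.Functor.map_comp, Iso.inv_hom_id,
        CategoryTheory.Functor.map_id, Category.comp_id])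

end Derived

end Groth.Agent.H45.PC2
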