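import Mathlib

/-!
# (P4) for helper56's S1115 / S11112 squad: a morphism of the derived category which induces
bijections on `Hom(N, -)` for `N ≤ k` (and injections for `N ≤ k + 1`) is an isomorphism on `H^j`,
`j ≤ k`.
-/

set_option autoImplicit false

open CategoryTheory CategoryTheory.Limits CategoryTheory.Pretriangulated

namespace Groth.Agent.PC

open DerivedCategory

theorem eq_zero_of_comp_shift_eq_zero {𝒜 : Type*} [Category 𝒜] [Abelian 𝒜] [HasDerivedCategory 𝒜]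
    {X Y : DerivedCategory 𝒜} (ρ : X ⟶ Y) (k : ℤ)
    (h2 : ∀ (N : DerivedCategory 𝒜), N.IsLE (k + 1) →
      Function.Injective (fun g : N ⟶ X => g ≫ ρ))
    (N : DerivedCategory 𝒜) (hN : N.IsLE k) (φ : N ⟶ X⟦(1 : ℤ)⟧)
    (hφ : φ ≫ ρ⟦(1 : ℤ)⟧' = 0) : φ = 0 := by
  have hN' : (N⟦(-1 : ℤ)⟧).IsLE (k + 1) := TStructure.t.isLE_shift N k (-1) (k + 1) (by ring)
  obtain ⟨ψ, hψ⟩ := (shiftFunctor (DerivedCategory 𝒜) (1 : ℤ)).map_surjective
    ((shiftNegShift N (1 : ℤ)).hom ≫ φ)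
  have h3 : ψ ≫ ρ = 0 := by
    apply (shiftFunctor (DerivedCategory 𝒜) (1 : ℤ)).map_injective
    rw [Functor.map_comp, hψ, Category.assoc, hφ, comp_zero, Functor.map_zero]
  have h4 : ψ = 0 := h2 _ hN' (by
    show ψ ≫ ρ = 0 ≫ ρ
    rw [h3, zero_comp])
  rw [h4, Functor.map_zero] at hψ
  exact (cancel_epi (shiftNegShift N (1 : ℤ)).hom).mp (by rw [← hψ, comp_zero])

theorem isIso_homology_map_of_bijective {𝒜 : Type*} [Category 𝒜] [Abelian 𝒜]
    [HasDerivedCategory 𝒜] {X Y : DerivedCategory 𝒜} (ρ : X ⟶ Y) (k : ℤ)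
    (h1 : ∀ (N : DerivedCategory 𝒜), N.IsLE k → Function.Bijective (fun g : N ⟶ X => g ≫ ρ))
    (h2 : ∀ (N : DerivedCategory 𝒜), N.IsLE (k + 1) →
      Function.Injective (fun g : N ⟶ X => g ≫ ρ))
    (j : ℤ) (hj : j ≤ k) : IsIso ((DerivedCategory.homologyFunctor 𝒜 j).map ρ) := by
  obtain ⟨C, a, b, hT⟩ := Pretriangulated.distinguished_cocone_triangle ρ
  -- Step 1: `Hom(N, C) = 0` for `N ≤ k`
  have hzero : ∀ (N : DerivedCategory 𝒜), N.IsLE k → ∀ f : N ⟶ C, f = 0 := by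
    intro N hN f
    have hfb : f ≫ b = 0 := by
      apply eq_zero_of_comp_shift_eq_zero ρ k h2 N hN
      have h31 : b ≫ ρ⟦(1 : ℤ)⟧' = 0 := comp_distTriang_mor_zero₃₁ _ hT
      rw [Category.assoc, h31, comp_zero]
    obtain ⟨f', hf'⟩ : ∃ f' : N ⟶ Y, f = f' ≫ a := Triangle.coyoneda_exact₃ _ hT f hfb
    obtain ⟨g, hg⟩ := (h1 N hN).2 f'
    have hg' : g ≫ ρ = f' := hg
    have h12 : ρ ≫ a = 0 := comp_distTriang_mor_zero₁₂ _ hT
    rw [hf', ← hg', Category.assoc, h12, comp_zero]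
  -- Step 2: `H^i(C) = 0` for `i ≤ k`
  have hHC : ∀ i : ℤ, i ≤ k → IsZero ((DerivedCategory.homologyFunctor 𝒜 i).obj C) := by
    intro i hi
    let K := DerivedCategory.Q.objPreimage C
    let e : DerivedCategory.Q.obj K ≅ C := DerivedCategory.Q.objObjPreimageIso C
    have hT1 : (DerivedCategory.Q.obj (K.truncLE i)).IsLE i := inferInstance
    have hT2 : (DerivedCategory.Q.obj (K.truncLE i)).IsLE k := TStructure.t.isLE_of_le _ i k hi
    have hz : DerivedCategory.Q.map (K.ιTruncLE i) ≫ e.hom = 0 := hzero _ hT2 _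
    have hiso : IsIso ((DerivedCategory.homologyFunctor 𝒜 i).map
        (DerivedCategory.Q.map (K.ιTruncLE i))) := by
      have h5 : IsIso ((HomologicalComplex.homologyFunctor 𝒜 (ComplexShape.up ℤ) i).map
          (K.ιTruncLE i)) := by
        have h6 := K.quasiIsoAt_ιTruncLE i i le_rfl
        rw [quasiIsoAt_iff_isIso_homologyMap] at h6
        exact h6
      exact (NatIso.isIso_map_iff (DerivedCategory.homologyFunctorFactors 𝒜 i)
        (K.ιTruncLE i)).mpr h5
    have hiso2 : IsIso ((DerivedCategory.homologyFunctor 𝒜 i).map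
        (DerivedCategory.Q.map (K.ιTruncLE i) ≫ e.hom)) := by
      rw [Functor.map_comp]
      infer_instance
    rw [hz, Functor.map_zero] at hiso2
    have h0 := IsIso.inv_hom_id (0 : (DerivedCategory.homologyFunctor 𝒜 i).obj
      (DerivedCategory.Q.obj (K.truncLE i)) ⟶ (DerivedCategory.homologyFunctor 𝒜 i).obj C)
    rw [comp_zero] at h0
    exact (IsZero.iff_id_eq_zero _).mpr h0.symm
  -- Step 3: the long exact homology sequence
  have hepi : Epi ((DerivedCategory.homologyFunctor 𝒜 j).map ρ) :=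
    (HomologySequence.epi_homologyMap_mor₁_iff _ hT j).mpr ((hHC j hj).eq_of_tgt _ _)
  have hmono : Mono ((DerivedCategory.homologyFunctor 𝒜 j).map ρ) :=
    (HomologySequence.mono_homologyMap_mor₁_iff _ hT (j - 1) j (by ring)).mpr
      ((hHC (j - 1) (by lia)).eq_of_src _ _)
  exact isIso_of_mono_of_epi _

end Groth.Agent.PC
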