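import Groth.Agent.H90.QCohHom
import Groth.Agent.H8.FinType
import Groth.Agent.H8.Coh
import Groth.Agent.H8.FreeMod

/-!
# (Q2) for helper56's S1116 squad: coherence (quasi-coherent of finite type) is local
-/

set_option autoImplicit false
set_option linter.style.haveILetI false
universe u
open CategoryTheory CategoryTheory.Limits AlgebraicGeometry TopologicalSpace Opposite
open AlgebraicGeometry.Scheme.Modules

namespace Groth.Agent.PC

/-- `Module.Finite` only depends on the scalar multiplication. -/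
theorem finite_of_smul_eq {R M : Type*} [Semiring R] [AddCommMonoid M] {A : Module R M}
    (B : Module R M) (h : @Module.Finite R M _ _ A)
    (hAB : ∀ (r : R) (m : M), (letI := A; r • m) = (letI := B; r • m)) :
    @Module.Finite R M _ _ B := by
  have hAB' : A = B := Module.ext' A B hAB
  subst hAB'
  exact h

/-- Finiteness of the sections of `F|_U` over an open `W` of `U` is finiteness of the sections of
`F` over the image of `W` (same carriers, the two scalar multiplications agree). -/
theorem finite_sections_image_of_restrict {X : Scheme.{u}} {U : X.Opens} (F : X.Modules)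
    (W : U.toScheme.Opens) (h : Module.Finite Γ(↑U, W) Γ(F.restrict U.ι, W)) :
    Module.Finite Γ(X, U.ι ''ᵁ W) Γ(F, U.ι ''ᵁ W) :=
  finite_of_smul_eq (R := Γ(X, U.ι ''ᵁ W)) (M := Γ(F, U.ι ''ᵁ W)) inferInstance h
    (fun r m => Groth.Agent.H8.smul_restrict_ι F W r m)

theorem isCoh_of_locally {X : Scheme.{u}} (M : X.Modules)
    (h : ∀ x : X, ∃ U : X.Opens, x ∈ U ∧ Coh.IsCoh (M.restrict U.ι)) : Coh.IsCoh M := by
  have hq : M.IsQuasicoherent := Groth.Agent.H90.QH.isQCoh_of_locally M (fun x => by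
    obtain ⟨U, hx, hU⟩ := h x
    exact ⟨U, hx, hU.1⟩)
  refine ⟨hq, ?_⟩
  haveI := hq
  let I : Type u := {p : Σ U : X.Opens, (U : Scheme.{u}).Opens //
    IsAffineOpen p.2 ∧ Coh.IsCoh (M.restrict p.1.ι)}
  let V : I → X.Opens := fun p => p.1.1.ι ''ᵁ p.1.2
  have hV : IsOpenCover V := by
    refine eq_top_iff.mpr fun x _ => ?_
    obtain ⟨U, hxU, hU⟩ := h x
    obtain ⟨_, ⟨W, hW, rfl⟩, hxW, -⟩ :=
      (U : Scheme.{u}).isBasis_affineOpens.exists_subset_of_mem_open
        (Set.mem_univ (⟨x, hxU⟩ : (U : Scheme.{u}))) isOpen_univ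
    exact Opens.mem_iSup.mpr ⟨⟨⟨U, W⟩, hW, hU⟩, ⟨⟨x, hxU⟩, hxW, rfl⟩⟩
  have hV' : ∀ i, IsAffineOpen (V i) := fun p => p.2.1.image_of_isOpenImmersion p.1.1.ι
  refine Groth.Agent.H8.isFiniteType_of_finite_sections M V hV hV' (fun p => ?_)
  exact finite_sections_image_of_restrict M p.1.2
    (Groth.Agent.H8.finite_sections_of_isCoh (M.restrict p.1.1.ι) p.2.2 p.2.1)

end Groth.Agent.PC
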