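import Mathlib

/-!
# Helper library (helper45): `f^* O ≅ O` for morphisms of ringed sites with exact set-pullback

Mathlib proves that `SheafOfModules.pullbackObjUnitToUnit φ` is an isomorphism when the underlying
functor is `Final`.  Here the same is shown when the sites are small and the pullback of sheaves of
sets along the underlying functor preserves finite limits (the hypothesis carried by a morphism of
ringed sites / topoi).

* `bijective_sections` : for `G` a sheaf of types, restriction `Γ(G) → Γ(F.op ⋙ G)` is bijective.
* `bijective_pushforwardSections` : the same for sheaves of modules.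
* `isIso_pullbackObjUnitToUnit`, `pullbackObjUnitIso`, `pullbackObjFreeIso`.
-/

set_option autoImplicit false
universe u
open CategoryTheory Limits Opposite

namespace Groth.Agent.H45.PullUnit

section Types

variable {C D : Type u} [SmallCategory C] [SmallCategory D]
  {J : GrothendieckTopology C} {K : GrothendieckTopology D}

/-- The terminal sheaf of types. -/
abbrev T (J : GrothendieckTopology C) : Sheaf J (Type u) :=
  Sheaf.terminal J Types.isTerminalPUnit

/-- A section of a sheaf of types as a morphism from the terminal sheaf. -/
def homOfSection (H : Sheaf J (Type u)) (s : H.obj.sections) : T J ⟶ H :=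
  ObjectProperty.homMk
    { app := fun c => ↾(fun _ => s.val c)
      naturality := by
        intro c c' g
        ext x
        exact (s.property g).symm }

variable (F : C ⥤ D) [F.IsContinuous J K] [PreservesFiniteLimits (F.sheafPullback (Type u) J K)]

theorem exists_bijective_comp_push (G : Sheaf K (Type u)) :
    ∃ τ : T J ⟶ (F.sheafPushforwardContinuous (Type u) J K).obj (T K),
      Function.Bijective (fun σ : T K ⟶ G =>
        τ ≫ (F.sheafPushforwardContinuous (Type u) J K).map σ) := by
  let adj := F.sheafAdjunctionContinuous (Type u) J K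
  have hT : IsTerminal ((F.sheafPullback (Type u) J K).obj (T J)) :=
    IsTerminal.isTerminalObj _ _ (Sheaf.isTerminalTerminal J Types.isTerminalPUnit)
  let e : (F.sheafPullback (Type u) J K).obj (T J) ≅ T K :=
    hT.uniqueUpToIso (Sheaf.isTerminalTerminal K Types.isTerminalPUnit)
  refine ⟨adj.unit.app (T J) ≫ (F.sheafPushforwardContinuous (Type u) J K).map e.hom, ?_⟩
  have hτ : (fun σ : T K ⟶ G => (adj.unit.app (T J) ≫
      (F.sheafPushforwardContinuous (Type u) J K).map e.hom) ≫
        (F.sheafPushforwardContinuous (Type u) J K).map σ) =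
      (adj.homEquiv _ _) ∘ (fun σ : T K ⟶ G => e.hom ≫ σ) := by
    funext σ
    simp only [Function.comp_apply, Adjunction.homEquiv_unit, Functor.map_comp, Category.assoc]
  rw [hτ]
  refine (adj.homEquiv _ _).bijective.comp ⟨fun a b h => (cancel_epi e.hom).1 h, fun g => ?_⟩
  exact ⟨e.inv ≫ g, by simp⟩

include J in
theorem bijective_sections (G : Sheaf K (Type u)) :
    Function.Bijective (fun s : G.obj.sections =>
      (⟨fun c => s.val (F.op.obj c), fun g => s.property (F.op.map g)⟩ :
        (F.op ⋙ G.obj).sections)) := by
  obtain ⟨τ, hτ⟩ := exists_bijective_comp_push (J := J) F G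
  have key : ∀ (σ : T K ⟶ G) (c : Cᵒᵖ) (x : PUnit.{u + 1}),
      (τ ≫ (F.sheafPushforwardContinuous (Type u) J K).map σ).hom.app c x =
        σ.hom.app (F.op.obj c) PUnit.unit := fun σ c x => rfl
  constructor
  · intro s s' h
    have h1 : homOfSection G s = homOfSection G s' := by
      apply hτ.1
      apply Sheaf.hom_ext
      ext c x
      refine (key (homOfSection G s) c x).trans (Eq.trans ?_ (key (homOfSection G s') c x).symm)
      exact congrArg (fun t : (F.op ⋙ G.obj).sections => t.val c) h
    apply Subtype.ext
    funext d
    exact congrArg (fun σ : T K ⟶ G => σ.hom.app d PUnit.unit) h1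
  · intro t
    obtain ⟨σ, hσ⟩ := hτ.2 (homOfSection ((F.sheafPushforwardContinuous (Type u) J K).obj G) t)
    refine ⟨⟨fun d => σ.hom.app d PUnit.unit, fun {d d'} g => ?_⟩, ?_⟩
    · exact (congrArg (fun k => k PUnit.unit) (congrArg ConcreteCategory.hom
        (σ.hom.naturality g))).symm
    · apply Subtype.ext
      funext c
      have := congrArg (fun ρ : T J ⟶ (F.sheafPushforwardContinuous (Type u) J K).obj G =>
        ρ.hom.app c PUnit.unit) hσ
      exact (key σ c PUnit.unit).symm.trans this

end Types

section Modules

variable {C D : Type u} [SmallCategory C] [SmallCategory D]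
  {J : GrothendieckTopology C} {K : GrothendieckTopology D} {F : C ⥤ D}
  {S : Sheaf J RingCat.{u}} {R : Sheaf K RingCat.{u}}
  [Functor.IsContinuous F J K] [PreservesFiniteLimits (F.sheafPullback (Type u) J K)]
  (φ : S ⟶ (F.sheafPushforwardContinuous RingCat.{u} J K).obj R)

theorem bijective_pushforwardSections (M : SheafOfModules.{u} R) :
    Function.Bijective (SheafOfModules.pushforwardSections φ (M := M)) :=
  bijective_sections (J := J) F
    ((SheafOfModules.toSheaf R ⋙ sheafCompose K (forget AddCommGrpCat.{u})).obj M)

variable [(SheafOfModules.pushforward.{u} φ).IsRightAdjoint]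

theorem isIso_pullbackObjUnitToUnit : IsIso (SheafOfModules.pullbackObjUnitToUnit φ) := by
  rw [isIso_iff_coyoneda_map_bijective]
  intro M
  rw [← ((SheafOfModules.pullbackPushforwardAdjunction.{u} φ).homEquiv _ _).bijective.of_comp_iff',
    ← (SheafOfModules.unitHomEquiv _).bijective.of_comp_iff']
  convert! (bijective_pushforwardSections φ M).comp (SheafOfModules.unitHomEquiv _).bijective
  ext f : 1
  dsimp
  rw [SheafOfModules.pushforwardSections_unitHomEquiv, EmbeddingLike.apply_eq_iff_eq,
    Adjunction.homEquiv_naturality_right,
    SheafOfModules.pullbackPushforwardAdjunction_homEquiv_pullbackObjUnitToUnit]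

/-- `f^* O ≅ O`. -/
noncomputable def pullbackObjUnitIso :
    (SheafOfModules.pullback.{u} φ).obj (SheafOfModules.unit S) ≅ SheafOfModules.unit R :=
  haveI := isIso_pullbackObjUnitToUnit φ
  asIso (SheafOfModules.pullbackObjUnitToUnit φ)

/-- The pullback of a free module is free. -/
noncomputable def pullbackObjFreeIso (I : Type u) :
    (SheafOfModules.pullback.{u} φ).obj (SheafOfModules.free I) ≅ SheafOfModules.free I :=
  (asIso (sigmaComparison _ _)).symm ≪≫ Sigma.mapIso (fun _ ↦ pullbackObjUnitIso φ)

end Modules

end Groth.Agent.H45.PullUnit
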