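import Groth.Agent.H45.RDerivedCompAcy
import Groth.Agent.H45.CohTopPush

/-!
# Helper library (helper45): `R^p g_* (f_* F) ≅ R^p (g ∘ f)_* F` for an `f_*`-acyclic abelian sheaf
-/

set_option autoImplicit false
universe u
open CategoryTheory CategoryTheory.Limits TopologicalSpace Opposite

namespace Groth.Agent.H45.PushComp

section NatIso

variable {C D : Type*} [Category C] [Category D] [Abelian C] [HasInjectiveResolutions C]
  [Abelian D]

/-- Right derived functors of isomorphic functors are isomorphic. -/
noncomputable def rightDerivedIso {F G : C ⥤ D} [F.Additive] [G.Additive] (e : F ≅ G) (n : ℕ) :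
    F.rightDerived n ≅ G.rightDerived n where
  hom := NatTrans.rightDerived e.hom n
  inv := NatTrans.rightDerived e.inv n
  hom_inv_id := by rw [← NatTrans.rightDerived_comp, e.hom_inv_id, NatTrans.rightDerived_id]
  inv_hom_id := by rw [← NatTrans.rightDerived_comp, e.inv_hom_id, NatTrans.rightDerived_id]

end NatIso

variable {X Y Z : TopCat.{u}} (f : X ⟶ Y) (g : Y ⟶ Z)

/-- `g_* ∘ f_* ≅ (g ∘ f)_*`. -/
noncomputable def pushCompIso : CohTop.push f ⋙ CohTop.push g ≅ CohTop.push (f ≫ g) :=
  NatIso.ofComponents (fun F => Iso.refl _)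

lemma injective_push (I : CohTop.Ab X) [Injective I] : Injective ((CohTop.push f).obj I) := by
  haveI := CohTopPush.preservesFiniteLimits_pull f
  exact Injective.injective_of_adjoint (CohTopPush.pullPushAdj f) I

instance preservesFiniteLimits_push : PreservesFiniteLimits (CohTop.push f) := by
  haveI := (CohTopPush.pullPushAdj f).rightAdjoint_preservesLimits
  infer_instance

/-- If `F` is `f_*`-acyclic then `R^p g_* (f_* F) ≅ R^p (g ∘ f)_* F`. -/
theorem nonempty_Rpush_comp_iso (F : CohTop.Ab X)
    (h : ∀ i : ℕ, 0 < i → IsZero (((CohTop.push f).rightDerived i).obj F)) (p : ℕ) :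
    Nonempty (((CohTop.push g).rightDerived p).obj ((CohTop.push f).obj F) ≅
      ((CohTop.push (f ≫ g)).rightDerived p).obj F) := by
  obtain ⟨e⟩ := RDP.nonempty_rightDerived_comp_iso (CohTop.push f) (CohTop.push g)
    (fun I hI => injective_push f I) F h p
  exact ⟨e ≪≫ (rightDerivedIso (pushCompIso f g) p).app F⟩

end Groth.Agent.H45.PushComp
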