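import Groth.Agent.H22.QCohLimits
import Groth.Agent.H8.QCohPush
import Groth.Agent.H45.CechSh

/-!
# Finite products of quasi-coherent modules; terms of the Čech complex of sheaves (helper45)
-/

set_option autoImplicit false
set_option linter.style.haveILetI false

open CategoryTheory Limits Opposite AlgebraicGeometry TopologicalSpace

universe u

namespace Groth.Agent.H45.QCohPi

variable {X : Scheme.{u}}

lemma isZero_pi_of_isEmpty {α : Type u} [IsEmpty α] (f : α → X.Modules) : IsZero (∏ᶜ f) := by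
  rw [IsZero.iff_id_eq_zero]
  exact Pi.hom_ext _ _ (fun a => isEmptyElim a)

lemma isQuasicoherent_of_isZero {M : X.Modules} (h : IsZero M) : M.IsQuasicoherent := by
  let M₀ : X.Modules := SheafOfModules.free (R := X.ringCatSheaf) (ULift.{u} (Fin 1))
  haveI : M₀.IsQuasicoherent := inferInstance
  haveI : (kernel (𝟙 M₀)).IsQuasicoherent :=
    Groth.Agent.H22.QCohLimits.isQuasicoherent_kernel _
  exact Groth.Agent.H22.QCohLimits.isQuasicoherent_of_iso
    ((isZero_kernel_of_mono (𝟙 M₀)).iso h)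

theorem isQuasicoherent_pi_fin : ∀ (n : ℕ) (f : Fin n → X.Modules),
    (∀ a, (f a).IsQuasicoherent) → (∏ᶜ f).IsQuasicoherent
  | 0, f, _ => by
    haveI : IsEmpty (Fin 0) := inferInstance
    have hz : IsZero (∏ᶜ f) := by
      rw [IsZero.iff_id_eq_zero]
      exact Pi.hom_ext _ _ (fun a => Fin.elim0 a)
    exact isQuasicoherent_of_isZero hz
  | n + 1, f, hf => by
    haveI := isQuasicoherent_pi_fin n (fun i => f i.succ) (fun i => hf _)
    haveI := hf 0
    haveI : (f 0 ⊞ ∏ᶜ fun i : Fin n => f i.succ).IsQuasicoherent :=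
      Groth.Agent.H22.QCohLimits.isQuasicoherent_biprod _ _
    let e : (f 0 ⨯ ∏ᶜ fun i : Fin n => f i.succ) ≅ ∏ᶜ f :=
      (extendFanIsLimit f (limit.isLimit _) (limit.isLimit _)).conePointUniqueUpToIso
        (limit.isLimit _)
    exact Groth.Agent.H22.QCohLimits.isQuasicoherent_of_iso
      ((biprod.isoProd _ _) ≪≫ e)

theorem isQuasicoherent_pi_of_finite {α : Type u} [Finite α] (f : α → X.Modules)
    (hf : ∀ a, (f a).IsQuasicoherent) : (∏ᶜ f).IsQuasicoherent := by
  obtain ⟨n, ⟨e⟩⟩ := Finite.exists_equiv_fin α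
  haveI := isQuasicoherent_pi_fin n (f ∘ e.symm) (fun a => hf _)
  exact Groth.Agent.H22.QCohLimits.isQuasicoherent_of_iso (Pi.reindex e.symm f)

/-! ### Terms of the Čech complex of sheaves -/

lemma pi_eq_iInf {ι : Type u} (𝒰 : ι → X.Opens) {n : ℕ} (y : Fin (n + 1) → ι) :
    (∏ᶜ (𝒰 ∘ y) : X.Opens) = ⨅ a, 𝒰 (y a) :=
  le_antisymm (le_iInf (fun a => leOfHom (Pi.π (𝒰 ∘ y) a)))
    (leOfHom (Pi.lift (fun a => homOfLE (iInf_le (fun a => 𝒰 (y a)) a))))

theorem isQuasicoherent_pushRestr [X.IsSeparated] (W : X.Opens) (hW : IsAffineOpen W)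
    (F : X.Modules) [F.IsQuasicoherent] : ((CechOX.pushRestr W).obj F).IsQuasicoherent := by
  haveI : IsAffine W.toScheme := hW
  haveI : IsAffineHom (W.ι ≫ terminal.from X) := inferInstance
  haveI : IsAffineHom W.ι := IsAffineHom.of_comp W.ι (terminal.from X)
  haveI : ((Scheme.Modules.restrictFunctor W.ι).obj F).IsQuasicoherent := inferInstance
  exact Groth.Agent.H8.isQuasicoherent_pushforward W.ι _

theorem isQuasicoherent_cechSh_X [X.IsSeparated] {ι : Type u} [Finite ι] (𝒰 : ι → X.Opens)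
    (h𝒰 : ∀ i, IsAffineOpen (𝒰 i)) (F : X.Modules) [F.IsQuasicoherent] (p : ℕ) :
    (((CechOX.cechSh 𝒰).obj F).X p).IsQuasicoherent := by
  change (∏ᶜ (Groth.Agent.H45.CechExtra.TT (Groth.Agent.H45.CechSh.PP F) 𝒰 p)).IsQuasicoherent
  apply isQuasicoherent_pi_of_finite
  intro y
  change ((CechOX.pushRestr (∏ᶜ (𝒰 ∘ y))).obj F).IsQuasicoherent
  apply isQuasicoherent_pushRestr
  rw [pi_eq_iInf]
  exact IsAffineOpen.iInf (fun a => h𝒰 (y a))

end Groth.Agent.H45.QCohPi
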