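import Groth.Agent.H45.RDerivedComp
import Groth.Agent.H45.ExtAdjAcy

/-!
# Helper library (helper45): `RⁿG(F X) ≅ Rⁿ(F ⋙ G)(X)` for an `F`-acyclic object `X`
when `F` preserves injectives (classical right derived functors).
-/

set_option autoImplicit false
universe w w' v v' u u'
open CategoryTheory CategoryTheory.Limits

namespace Groth.Agent.H45.RDP

section Bridge

variable {A : Type u} [Category.{v} A] [Abelian A] [HasDerivedCategory.{w} A] [EnoughInjectives A]
  {B : Type u'} [Category.{v'} B] [Abelian B] [HasDerivedCategory.{w'} B]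
  (F : A ⥤ B) [F.Additive]

/-- `Hⁿ(R⁺F(X[0]))` is the classical `RⁿF(X)` (copied from helper5's `GSS.nonempty_rnf_iso`). -/
theorem nonempty_RnF_iso_rightDerived (X : A) (n : ℕ) :
    Nonempty ((RnF F (n : ℤ)).obj X ≅ (F.rightDerived n).obj X) := by
  let I := injectiveResolution X
  let Jp : CochainComplex.Plus A := ⟨I.cochainComplex, ⟨0, inferInstance⟩⟩
  let j : sglP.obj X ⟶ Jp := ObjectProperty.homMk I.ι'
  have : ∀ m, Injective (Jp.obj.X m) :=
    fun m => inferInstanceAs (Injective (I.cochainComplex.X m))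
  have : QuasiIso j.hom := inferInstanceAs (QuasiIso I.ι')
  have hQj : IsIso (Qp.map j) := (isIso_Qp_map_iff j).2 inferInstance
  let e1 : F.rightDerivedFunctorPlus.obj (Qp.obj (sglP.obj X)) ≅
      F.rightDerivedFunctorPlus.obj (Qp.obj Jp) :=
    F.rightDerivedFunctorPlus.mapIso (asIso (Qp.map j))
  have h2 : IsIso (F.rightDerivedFunctorPlusUnit.app
      ((HomotopyCategory.Plus.quotient A).obj Jp)) := inferInstance
  let e2 : Qp.obj (F.mapCochainComplexPlus.obj Jp) ≅ F.rightDerivedFunctorPlus.obj (Qp.obj Jp) :=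
    @asIso _ _ _ _
      (F.rightDerivedFunctorPlusUnit.app ((HomotopyCategory.Plus.quotient A).obj Jp)) h2
  let M : CochainComplex B ℤ := (F.mapHomologicalComplex (ComplexShape.up ℤ)).obj I.cochainComplex
  let e3 : (DerivedCategory.Plus.ι ⋙ DerivedCategory.homologyFunctor B n).obj
      (Qp.obj (F.mapCochainComplexPlus.obj Jp)) ≅ M.homology n :=
    (DerivedCategory.homologyFunctor B n).mapIso (qpIso (F.mapCochainComplexPlus.obj Jp)) ≪≫
      (DerivedCategory.homologyFunctorFactors B n).app M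
  let N : CochainComplex B ℕ := (F.mapHomologicalComplex (ComplexShape.up ℕ)).obj I.cocomplex
  let e4 : M ≅ N.extend ComplexShape.embeddingUpNat :=
    @asIso _ _ _ _ (Groth.Agent.H42.RDBridge.mapExtend ComplexShape.embeddingUpNat F I.cocomplex)
      (Groth.Agent.H42.RDBridge.isIso_mapExtend ComplexShape.embeddingUpNat F I.cocomplex)
  let e5 : (N.extend ComplexShape.embeddingUpNat).homology (n : ℤ) ≅ N.homology n :=
    HomologicalComplex.extendHomologyIso N ComplexShape.embeddingUpNat (j := n) (j' := (n : ℤ)) rfl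
  let e6 : (F.rightDerived n).obj X ≅ N.homology n := I.isoRightDerivedObj F n
  exact ⟨(DerivedCategory.Plus.ι ⋙ DerivedCategory.homologyFunctor B n).mapIso (e1 ≪≫ e2.symm) ≪≫
    e3 ≪≫ (HomologicalComplex.homologyFunctor B _ (n : ℤ)).mapIso e4 ≪≫ e5 ≪≫ e6.symm⟩

end Bridge

section Comp

variable {A : Type u} {B : Type u} {C : Type u}
  [Category.{v} A] [Category.{v} B] [Category.{v} C] [Abelian A] [Abelian B] [Abelian C]
  [EnoughInjectives A] [EnoughInjectives B]
  (F : A ⥤ B) [F.Additive] [PreservesFiniteLimits F] (G : B ⥤ C) [G.Additive]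
  [PreservesFiniteLimits G]

/-- `F.mapCochainComplexPlus (X[0]) ≅ (F X)[0]`. -/
noncomputable def mapSglPIso (X : A) :
    F.mapCochainComplexPlus.obj (sglP.obj X) ≅ sglP.obj (F.obj X) :=
  (CochainComplex.Plus.ι B).preimageIso
    ((HomologicalComplex.singleMapHomologicalComplex F (ComplexShape.up ℤ) 0).app X)

/-- If `X` is `F`-acyclic and `F` preserves injectives then `RⁿG(F X) ≅ Rⁿ(F ⋙ G)(X)`. -/
theorem nonempty_rightDerived_comp_iso
    (hF : ∀ I : A, Injective I → Injective (F.obj I)) (X : A)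
    (hX : ∀ i : ℕ, 0 < i → IsZero ((F.rightDerived i).obj X)) (n : ℕ) :
    Nonempty ((G.rightDerived n).obj (F.obj X) ≅ ((F ⋙ G).rightDerived n).obj X) := by
  letI := HasDerivedCategory.standard A
  letI := HasDerivedCategory.standard B
  letI := HasDerivedCategory.standard C
  obtain ⟨c⟩ := nonempty_comp_iso_of_preservesInjectives F G (F ⋙ G) (Iso.refl _) hF
  obtain ⟨b₁⟩ := nonempty_RnF_iso_rightDerived G (F.obj X) n
  obtain ⟨b₂⟩ := nonempty_RnF_iso_rightDerived (F ⋙ G) X n
  have hacy : Acy F X := (Groth.Agent.H45.ExtAdj.acy_iff_rightDerived F X).2 hX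
  have hu : IsIso (F.rightDerivedFunctorPlusUnit.app
      ((HomotopyCategory.Plus.quotient A).obj (sglP.obj X))) := (acy_iff_isIso_unit F X).1 hacy
  let u : Qp.obj (F.mapCochainComplexPlus.obj (sglP.obj X)) ≅
      F.rightDerivedFunctorPlus.obj (Qp.obj (sglP.obj X)) :=
    @asIso _ _ _ _ (F.rightDerivedFunctorPlusUnit.app
      ((HomotopyCategory.Plus.quotient A).obj (sglP.obj X))) hu
  let e : F.rightDerivedFunctorPlus.obj (Qp.obj (sglP.obj X)) ≅ Qp.obj (sglP.obj (F.obj X)) :=
    u.symm ≪≫ Qp.mapIso (mapSglPIso F X)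
  let e' : (RnF G (n : ℤ)).obj (F.obj X) ≅ (RnF (F ⋙ G) (n : ℤ)).obj X :=
    (Gn G (n : ℤ)).mapIso e.symm ≪≫
      (DerivedCategory.Plus.ι ⋙ DerivedCategory.homologyFunctor C (n : ℤ)).mapIso
        (c.app (Qp.obj (sglP.obj X)))
  exact ⟨b₁.symm ≪≫ e' ≪≫ b₂⟩

end Comp

end Groth.Agent.H45.RDP
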