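import Mathlib.Algebra.Homology.DerivedCategory.RightDerivedFunctorPlus
import Mathlib.Algebra.Homology.DerivedCategory.ShortExact
import Mathlib.CategoryTheory.Triangulated.Adjunction

/-!
# The right derived functor on `D⁺` is isomorphic to a triangulated functor
-/

set_option autoImplicit false
universe w w' v v' u u'
open CategoryTheory CategoryTheory.Limits Pretriangulated

namespace Groth.Agent.H45.RDP

variable {C : Type u} [Category.{v} C] [Abelian C] [HasDerivedCategory.{w} C]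

omit [HasDerivedCategory.{w} C] in
lemma isKInjective_obj (Y : HomotopyCategory.Plus (InjectiveObject C)) :
    CochainComplex.IsKInjective ((InjectiveObject.ι C).mapHomotopyCategoryPlus.obj Y).1.as := by
  obtain ⟨Y, hY⟩ := Y
  obtain ⟨K, rfl⟩ := HomotopyCategory.quotient_obj_surjective Y
  obtain ⟨n, hn⟩ := (HomotopyCategory.plus_quotient_obj_iff _).1 hY
  let L : CochainComplex C ℤ := ((InjectiveObject.ι C).mapHomologicalComplex (.up ℤ)).obj K
  have (i : ℤ) : Injective (L.X i) :=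
    inferInstanceAs (Injective ((InjectiveObject.ι C).obj (K.X i)))
  have : CochainComplex.IsStrictlyGE L n :=
    inferInstanceAs (CochainComplex.IsStrictlyGE
      (((InjectiveObject.ι C).mapHomologicalComplex _).obj K) n)
  exact CochainComplex.isKInjective_of_injective L n

/-- The functor `K⁺(Inj C) ⥤ D⁺(C)`. -/
noncomputable abbrev Psi : HomotopyCategory.Plus (InjectiveObject C) ⥤ DerivedCategory.Plus C :=
  (InjectiveObject.ι C).mapHomotopyCategoryPlus ⋙ DerivedCategory.Plus.Qh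

instance : (Psi (C := C)).Faithful where
  map_injective {X Y} f g h := by
    have h1 := (DerivedCategory.Plus.Qh_map_bijective_of_isKInjective
      ((InjectiveObject.ι C).mapHomotopyCategoryPlus.obj X)
      ((InjectiveObject.ι C).mapHomotopyCategoryPlus.obj Y) (isKInjective_obj Y)).1 h
    exact (InjectiveObject.ι C).mapHomotopyCategoryPlus.map_injective h1

instance : (Psi (C := C)).Full where
  map_surjective {X Y} f := by
    obtain ⟨g, hg⟩ := (DerivedCategory.Plus.Qh_map_bijective_of_isKInjective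
      ((InjectiveObject.ι C).mapHomotopyCategoryPlus.obj X)
      ((InjectiveObject.ι C).mapHomotopyCategoryPlus.obj Y) (isKInjective_obj Y)).2 f
    obtain ⟨g', rfl⟩ := (InjectiveObject.ι C).mapHomotopyCategoryPlus.map_surjective g
    exact ⟨g', hg⟩


section

variable [EnoughInjectives C]

instance : (Psi (C := C)).IsEquivalence where

/-- A quasi-inverse of `Psi`. -/
noncomputable abbrev PsiInv : DerivedCategory.Plus C ⥤ HomotopyCategory.Plus (InjectiveObject C) :=
  (Psi (C := C)).inv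

/-- The adjunction `Psi ⊣ PsiInv`. -/
noncomputable abbrev psiAdj : Psi (C := C) ⊣ PsiInv (C := C) :=
  (Psi (C := C)).asEquivalence.toAdjunction

noncomputable instance : (PsiInv (C := C)).CommShift ℤ := (psiAdj (C := C)).rightAdjointCommShift ℤ

instance : (psiAdj (C := C)).CommShift ℤ := (psiAdj (C := C)).commShift_of_leftAdjoint ℤ

instance : (PsiInv (C := C)).IsTriangulated := (psiAdj (C := C)).isTriangulated_rightAdjoint

variable {D : Type u'} [Category.{v'} D] [Abelian D] [HasDerivedCategory.{w'} D]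
  (F : C ⥤ D) [F.Additive]

/-- The triangulated functor `K⁺(Inj C) ⥤ D⁺(D)` induced by `F`. -/
noncomputable abbrev T : HomotopyCategory.Plus (InjectiveObject C) ⥤ DerivedCategory.Plus D :=
  (InjectiveObject.ι C).mapHomotopyCategoryPlus ⋙ F.mapHomotopyCategoryPlus ⋙
    DerivedCategory.Plus.Qh

/-- `T ≅ Psi ⋙ RF`: the unit of the derived functor is an isomorphism on injectives. -/
noncomputable def gamma : T F ≅ Psi (C := C) ⋙ F.rightDerivedFunctorPlus :=
  NatIso.ofComponents
    (fun X => asIso (F.rightDerivedFunctorPlusUnit.app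
      ((InjectiveObject.ι C).mapHomotopyCategoryPlus.obj X)))
    (fun f => F.rightDerivedFunctorPlusUnit.naturality
      ((InjectiveObject.ι C).mapHomotopyCategoryPlus.map f))

/-- The triangulated functor `D⁺(C) ⥤ D⁺(D)` isomorphic to the right derived functor. -/
noncomputable abbrev RF' : DerivedCategory.Plus C ⥤ DerivedCategory.Plus D :=
  PsiInv (C := C) ⋙ T F

/-- The right derived functor on `D⁺` is isomorphic to a triangulated functor. -/
noncomputable def rfIso : F.rightDerivedFunctorPlus ≅ RF' F :=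
  (Functor.leftUnitor _).symm ≪≫
    Functor.isoWhiskerRight (Psi (C := C)).asEquivalence.counitIso.symm _ ≪≫
    Functor.associator _ _ _ ≪≫ Functor.isoWhiskerLeft _ (gamma F).symm

example : (RF' F).IsTriangulated := inferInstance

/-- `H^n ∘ RF` as a functor `D⁺(C) ⥤ D`. -/
noncomputable abbrev Gn (n : ℤ) : DerivedCategory.Plus C ⥤ D :=
  F.rightDerivedFunctorPlus ⋙ DerivedCategory.Plus.ι ⋙ DerivedCategory.homologyFunctor D n

/-- `H^n ∘ RF'` as a functor `D⁺(C) ⥤ D`. -/
noncomputable abbrev Gn' (n : ℤ) : DerivedCategory.Plus C ⥤ D :=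
  RF' F ⋙ DerivedCategory.Plus.ι ⋙ DerivedCategory.homologyFunctor D n

/-- `Gn ≅ Gn'`. -/
noncomputable def gnIso (n : ℤ) : Gn F n ≅ Gn' F n :=
  Functor.isoWhiskerRight (rfIso F) _

lemma gn_map_zero (n : ℤ) (X Y : DerivedCategory.Plus C) :
    (Gn F n).map (0 : X ⟶ Y) = 0 := by
  have h := (gnIso F n).hom.naturality (0 : X ⟶ Y)
  have h0 : (Gn' F n).map (0 : X ⟶ Y) = 0 := by
    simp only [Functor.comp_map, Functor.map_zero]
  rw [h0, comp_zero] at h
  rw [← cancel_mono ((gnIso F n).hom.app Y), h, zero_comp]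

lemma gn_comp_zero (Δ : Triangle (DerivedCategory.Plus C)) (hΔ : Δ ∈ distTriang _) (n : ℤ) :
    (Gn F n).map Δ.mor₁ ≫ (Gn F n).map Δ.mor₂ = 0 := by
  rw [← Functor.map_comp, comp_distTriang_mor_zero₁₂ _ hΔ, gn_map_zero]

/-- Exactness of `H^n(RF X₁) ⟶ H^n(RF X₂) ⟶ H^n(RF X₃)` for a distinguished triangle. -/
theorem homology_exact₂ (Δ : Triangle (DerivedCategory.Plus C)) (hΔ : Δ ∈ distTriang _) (n : ℤ) :
    (ShortComplex.mk ((Gn F n).map Δ.mor₁) ((Gn F n).map Δ.mor₂) (gn_comp_zero F Δ hΔ n)).Exact := by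
  have hT : DerivedCategory.Plus.ι.mapTriangle.obj ((RF' F).mapTriangle.obj Δ) ∈
      distTriang (DerivedCategory D) :=
    DerivedCategory.Plus.ι.map_distinguished _ ((RF' F).map_distinguished _ hΔ)
  have h := DerivedCategory.HomologySequence.exact₂ _ hT n
  refine (ShortComplex.exact_iff_of_iso ?_).2 h
  exact ShortComplex.isoMk ((gnIso F n).app _) ((gnIso F n).app _) ((gnIso F n).app _)
    ((gnIso F n).hom.naturality Δ.mor₁).symm ((gnIso F n).hom.naturality Δ.mor₂).symm

/-- Existence of the connecting morphism with exactness at `H^{n₀}(RF X₃)` and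
`H^{n₁}(RF X₁)`. -/
theorem exists_δ (Δ : Triangle (DerivedCategory.Plus C)) (hΔ : Δ ∈ distTriang _)
    (n₀ n₁ : ℤ) (h : n₀ + 1 = n₁) :
    ∃ (δ : (Gn F n₀).obj Δ.obj₃ ⟶ (Gn F n₁).obj Δ.obj₁)
      (w₁ : (Gn F n₀).map Δ.mor₂ ≫ δ = 0) (w₂ : δ ≫ (Gn F n₁).map Δ.mor₁ = 0),
      (ShortComplex.mk _ _ w₁).Exact ∧ (ShortComplex.mk _ _ w₂).Exact := by
  have hT : DerivedCategory.Plus.ι.mapTriangle.obj ((RF' F).mapTriangle.obj Δ) ∈
      distTriang (DerivedCategory D) :=
    DerivedCategory.Plus.ι.map_distinguished _ ((RF' F).map_distinguished _ hΔ)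
  let T' := DerivedCategory.Plus.ι.mapTriangle.obj ((RF' F).mapTriangle.obj Δ)
  let δ' : (Gn' F n₀).obj Δ.obj₃ ⟶ (Gn' F n₁).obj Δ.obj₁ :=
    DerivedCategory.HomologySequence.δ T' n₀ n₁ h
  have hcδ : (Gn' F n₀).map Δ.mor₂ ≫ δ' = 0 :=
    DerivedCategory.HomologySequence.comp_δ T' hT n₀ n₁ h
  have hδc : δ' ≫ (Gn' F n₁).map Δ.mor₁ = 0 :=
    DerivedCategory.HomologySequence.δ_comp T' hT n₀ n₁ h
  have e₃ : (ShortComplex.mk ((Gn' F n₀).map Δ.mor₂) δ' hcδ).Exact :=
    DerivedCategory.HomologySequence.exact₃ T' hT n₀ n₁ h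
  have e₁ : (ShortComplex.mk δ' ((Gn' F n₁).map Δ.mor₁) hδc).Exact :=
    DerivedCategory.HomologySequence.exact₁ T' hT n₀ n₁ h
  let δ : (Gn F n₀).obj Δ.obj₃ ⟶ (Gn F n₁).obj Δ.obj₁ :=
    (gnIso F n₀).hom.app Δ.obj₃ ≫ δ' ≫ (gnIso F n₁).inv.app Δ.obj₁
  have w₁ : (Gn F n₀).map Δ.mor₂ ≫ δ = 0 := by
    dsimp only [δ]
    rw [← Category.assoc, (gnIso F n₀).hom.naturality Δ.mor₂, Category.assoc,
      ← Category.assoc ((Gn' F n₀).map Δ.mor₂), hcδ, zero_comp, comp_zero]
  have w₂ : δ ≫ (Gn F n₁).map Δ.mor₁ = 0 := by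
    dsimp only [δ]
    rw [Category.assoc, Category.assoc, ← (gnIso F n₁).inv.naturality Δ.mor₁,
      ← Category.assoc δ', hδc, zero_comp, comp_zero]
  refine ⟨δ, w₁, w₂, ?_, ?_⟩
  · refine (ShortComplex.exact_iff_of_iso ?_).2 e₃
    refine ShortComplex.isoMk ((gnIso F n₀).app _) ((gnIso F n₀).app _) ((gnIso F n₁).app _)
      ((gnIso F n₀).hom.naturality Δ.mor₂).symm ?_
    dsimp only [δ, Iso.app_hom]
    rw [Category.assoc, Category.assoc, Iso.inv_hom_id_app, Category.comp_id]
  · refine (ShortComplex.exact_iff_of_iso ?_).2 e₁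
    refine ShortComplex.isoMk ((gnIso F n₀).app _) ((gnIso F n₁).app _) ((gnIso F n₁).app _)
      ?_ ((gnIso F n₁).hom.naturality Δ.mor₁).symm
    dsimp only [δ, Iso.app_hom]
    rw [Category.assoc, Category.assoc, Iso.inv_hom_id_app, Category.comp_id]

end

end Groth.Agent.H45.RDP
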