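import Groth.Agent.H45.RDerivedPlus

/-!
# A short exact sequence of bounded below complexes gives a distinguished triangle in `D⁺`,
and the long exact sequence for `R⁺F`.
-/

set_option autoImplicit false
universe w w' v v' u u'
open CategoryTheory CategoryTheory.Limits Pretriangulated

namespace Groth.Agent.H45.RDP

variable {C : Type u} [Category.{v} C] [Abelian C] [HasDerivedCategory.{w} C]

/-- `Q⁺ : Ch⁺(C) ⥤ D⁺(C)`. -/
noncomputable abbrev Qp : CochainComplex.Plus C ⥤ DerivedCategory.Plus C :=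
  HomotopyCategory.Plus.quotient C ⋙ DerivedCategory.Plus.Qh

/-- the comparison `ι (Q⁺ X) ≅ Q X`. -/
noncomputable def qpIso (X : CochainComplex.Plus C) :
    DerivedCategory.Plus.ι.obj (Qp.obj X) ≅ DerivedCategory.Q.obj X.obj :=
  (DerivedCategory.quotientCompQhIso C).app X.obj

lemma qpIso_hom_naturality {X Y : CochainComplex.Plus C} (f : X ⟶ Y) :
    DerivedCategory.Plus.ι.map (Qp.map f) ≫ (qpIso Y).hom =
      (qpIso X).hom ≫ DerivedCategory.Q.map f.hom :=
  DerivedCategory.quotientCompQhIso_hom_naturality f.hom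

/-- A short exact sequence of bounded below complexes gives a distinguished triangle in `D⁺`. -/
theorem exists_distTriang_of_shortExact {X₁ X₂ X₃ : CochainComplex.Plus C}
    (f : X₁ ⟶ X₂) (g : X₂ ⟶ X₃) (w : f.hom ≫ g.hom = 0)
    (hS : (ShortComplex.mk f.hom g.hom w).ShortExact) :
    ∃ δ : Qp.obj X₃ ⟶ (Qp.obj X₁)⟦(1 : ℤ)⟧,
      Triangle.mk (Qp.map f) (Qp.map g) δ ∈ distTriang (DerivedCategory.Plus C) := by
  let m₃ : DerivedCategory.Q.obj X₃.obj ⟶ (DerivedCategory.Q.obj X₁.obj)⟦(1 : ℤ)⟧ :=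
    (DerivedCategory.triangleOfSES hS).mor₃
  let δ : Qp.obj X₃ ⟶ (Qp.obj X₁)⟦(1 : ℤ)⟧ :=
    DerivedCategory.Plus.ι.preimage ((qpIso X₃).hom ≫ m₃ ≫ (qpIso X₁).inv⟦(1 : ℤ)⟧' ≫
      (DerivedCategory.Plus.ι.commShiftIso (1 : ℤ)).inv.app (Qp.obj X₁))
  have hδ : DerivedCategory.Plus.ι.map δ = (qpIso X₃).hom ≫ m₃ ≫ (qpIso X₁).inv⟦(1 : ℤ)⟧' ≫
      (DerivedCategory.Plus.ι.commShiftIso (1 : ℤ)).inv.app (Qp.obj X₁) :=
    Functor.map_preimage _ _
  refine ⟨δ, ?_⟩
  change DerivedCategory.Plus.ι.mapTriangle.obj (Triangle.mk (Qp.map f) (Qp.map g) δ) ∈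
    distTriang (DerivedCategory C)
  refine isomorphic_distinguished _ (DerivedCategory.triangleOfSES_distinguished hS) _ ?_
  refine Triangle.isoMk _ _ (qpIso X₁) (qpIso X₂) (qpIso X₃) ?_ ?_ ?_
  · exact qpIso_hom_naturality f
  · exact qpIso_hom_naturality g
  · change (DerivedCategory.Plus.ι.map δ ≫
        (DerivedCategory.Plus.ι.commShiftIso (1 : ℤ)).hom.app (Qp.obj X₁)) ≫
        (qpIso X₁).hom⟦(1 : ℤ)⟧' = (qpIso X₃).hom ≫ m₃
    rw [hδ]
    simp only [Category.assoc, Iso.inv_hom_id_app_assoc]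
    rw [← Functor.map_comp, Iso.inv_hom_id, CategoryTheory.Functor.map_id, Category.comp_id]

end Groth.Agent.H45.RDP
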