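import Groth.Prelude.Def_SixF1
import Groth.Agent.H45.RDerivedComp

/-!
# The canonical morphism `R⁺H ⟶ R⁺F ⋙ R⁺G` (`EtSix.rPlusDesc₂`) is an isomorphism
-/

set_option autoImplicit false
universe w₁ w₂ w₃ v₁ v₂ v₃ u₁ u₂ u₃
open CategoryTheory CategoryTheory.Limits

namespace Groth.Agent.H45.RDP

section

variable {A : Type u₁} [Category.{v₁} A] [Abelian A] {B : Type u₂} [Category.{v₂} B] [Abelian B]

lemma isIso_mapHomotopyCategory_of_isIso {F G : A ⥤ B} [F.Additive] [G.Additive] (α : F ⟶ G)
    [IsIso α] {ι : Type*} (c : ComplexShape ι) : IsIso (NatTrans.mapHomotopyCategory α c) :=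
  ⟨⟨NatTrans.mapHomotopyCategory (inv α) c,
    by rw [← NatTrans.mapHomotopyCategory_comp, IsIso.hom_inv_id, NatTrans.mapHomotopyCategory_id],
    by rw [← NatTrans.mapHomotopyCategory_comp, IsIso.inv_hom_id,
      NatTrans.mapHomotopyCategory_id]⟩⟩

lemma isIso_plusNatTrans_app {F G : A ⥤ B} [F.Additive] [G.Additive] (α : F ⟶ G) [IsIso α]
    (K : HomotopyCategory.Plus A) : IsIso ((EtSix.plusNatTrans α).app K) := by
  rw [← isIso_iff_of_reflects_iso _ (HomotopyCategory.Plus.ι B)]
  have := isIso_mapHomotopyCategory_of_isIso α (ComplexShape.up ℤ)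
  exact (inferInstance : IsIso ((NatTrans.mapHomotopyCategory α (ComplexShape.up ℤ)).app K.obj))

end

variable {A : Type u₁} {B : Type u₂} {C : Type u₃}
  [Category.{v₁} A] [Category.{v₂} B] [Category.{v₃} C] [Abelian A] [Abelian B] [Abelian C]
  [HasDerivedCategory.{w₁} A] [HasDerivedCategory.{w₂} B] [HasDerivedCategory.{w₃} C]
  [EnoughInjectives A] [EnoughInjectives B]
  {F : A ⥤ B} [F.Additive] {G : B ⥤ C} [G.Additive] [PreservesFiniteLimits G]
  {H : A ⥤ C} [H.Additive] (θ : H ⟶ F ⋙ G) [IsIso θ]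

theorem isRightDerivedFunctor_rPlusUnit₂ (hFG : ∀ I : A, Injective I → Acy G (F.obj I)) :
    (F.rightDerivedFunctorPlus ⋙ G.rightDerivedFunctorPlus).IsRightDerivedFunctor
      (EtSix.rPlusUnit₂ θ) (HomotopyCategory.Plus.quasiIso A) := by
  refine (HomotopyCategory.Plus.localizerMorphism_derives _).isRightDerivedFunctor_of_isIso _
    (fun X => ?_)
  obtain ⟨X₀, rfl⟩ := HomotopyCategory.Plus.quotient_obj_surjective X
  have h0 : IsIso ((EtSix.plusNatTrans θ).app ((InjectiveObject.ι A).mapHomotopyCategoryPlus.obj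
        ((HomotopyCategory.Plus.quotient (InjectiveObject A)).obj X₀))) :=
    isIso_plusNatTrans_app θ _
  have h1 : IsIso (F.rightDerivedFunctorPlusUnit.app
      ((InjectiveObject.ι A).mapHomotopyCategoryPlus.obj
        ((HomotopyCategory.Plus.quotient (InjectiveObject A)).obj X₀))) := inferInstance
  have h2 : IsIso (G.rightDerivedFunctorPlusUnit.app
      (F.mapHomotopyCategoryPlus.obj ((InjectiveObject.ι A).mapHomotopyCategoryPlus.obj
        ((HomotopyCategory.Plus.quotient (InjectiveObject A)).obj X₀)))) := by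
    refine isIso_unit_of_acy G
      (F.mapCochainComplexPlus.obj ((InjectiveObject.ι A).mapCochainComplexPlus.obj X₀)) ?_
    intro n
    exact hFG _ (X₀.obj.X n).property
  have h3 : IsIso (G.rightDerivedFunctorPlus.map (F.rightDerivedFunctorPlusUnit.app
      ((InjectiveObject.ι A).mapHomotopyCategoryPlus.obj
        ((HomotopyCategory.Plus.quotient (InjectiveObject A)).obj X₀)))) := inferInstance
  simp only [EtSix.rPlusUnit₂, NatTrans.comp_app, Functor.whiskerRight_app,
    Functor.whiskerLeft_app, Functor.associator_hom_app, Functor.associator_inv_app,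
    Category.id_comp, Category.comp_id, Functor.map_comp]
  infer_instance

theorem isIso_rPlusDesc₂ (hFG : ∀ I : A, Injective I → Acy G (F.obj I)) :
    IsIso (EtSix.rPlusDesc₂ θ) := by
  have := isRightDerivedFunctor_rPlusUnit₂ θ hFG
  exact (Functor.isRightDerivedFunctor_iff_isIso_rightDerivedDesc H.rightDerivedFunctorPlus
    H.rightDerivedFunctorPlusUnit (HomotopyCategory.Plus.quasiIso A)
    (F.rightDerivedFunctorPlus ⋙ G.rightDerivedFunctorPlus) (EtSix.rPlusUnit₂ θ)).1 this

theorem isIso_rPlusDesc₂_of_preservesInjectives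
    (hF : ∀ I : A, Injective I → Injective (F.obj I)) : IsIso (EtSix.rPlusDesc₂ θ) :=
  isIso_rPlusDesc₂ θ (fun I hI => by
    have := hF I hI
    exact acy_of_injective G (F.obj I))

end Groth.Agent.H45.RDP
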