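import Groth.Agent.H45.QCohPi
import Groth.Agent.H45.CechSh
import Groth.Agent.H6.LerayBdd
import Groth.Agent.H42.RDBridge
import Groth.Agent.H42.CmpLib
import Groth.Agent.H67.SiteCmpB
import Groth.Agent.H30.RpushQcoh
import Groth.Agent.H31.LpullAdj
import Groth.Agent.S0028
import Groth.Agent.S11319
import Groth.Agent.S16463
import Groth.Prelude.Def_CechOX
import Groth.Prelude.Def_DCoh2

/-!
# Helper library (helper45): the relative Čech complex computes `Rf_*`

* `AffDiag`: schemes with affine diagonal: a morphism from an affine scheme is affine, finite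
  intersections of affine opens are affine.
* `facyc_pushRestr`: `(j_W)_* (F|_W)` is `f_*`-acyclic when `j_W` and `j_W ≫ f` are affine, `F` qcoh.
* `prop_pi_of_finite`: finite products inherit properties stable under isos/zero/biproducts.
* `quasiIso_aug`: the Čech complex of sheaves of a covering is a resolution.
* `main`: `Q (Č(𝒰, f, F)) ≅ Rf_* F`.
-/

set_option autoImplicit false
set_option linter.style.haveILetI false

open CategoryTheory Limits Opposite AlgebraicGeometry TopologicalSpace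

universe u

namespace Groth.Agent.H45.RelCechD

/-! ### Affine diagonal -/

section AffDiag

theorem isAffineHom_of_affineDiag {U S : Scheme.{u}} (g : U ⟶ S) [IsAffine U]
    [IsAffineHom (pullback.diagonal (terminal.from S))] : IsAffineHom g := by
  haveI : MorphismProperty.RespectsIso @IsAffineHom :=
    MorphismProperty.IsStableUnderBaseChange.respectsIso
  haveI : (MorphismProperty.diagonal @IsAffineHom.{u}).IsStableUnderBaseChange :=
    MorphismProperty.IsStableUnderBaseChange.diagonal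
  haveI : MorphismProperty.HasOfPostcompProperty @IsAffineHom
      (MorphismProperty.diagonal @IsAffineHom) :=
    MorphismProperty.hasOfPostcompProperty_iff_le_diagonal.mpr le_rfl
  have h1 : (MorphismProperty.diagonal @IsAffineHom) (terminal.from S) := ‹_›
  have h2 : IsAffineHom (g ≫ terminal.from S) := inferInstance
  exact MorphismProperty.of_postcomp (W := @IsAffineHom)
    (W' := MorphismProperty.diagonal @IsAffineHom) g (terminal.from S) h1 h2

variable {X : Scheme.{u}} [IsAffineHom (pullback.diagonal (terminal.from X))]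

theorem isAffineHom_ι {W : X.Opens} (hW : IsAffineOpen W) : IsAffineHom W.ι := by
  haveI : IsAffine W.toScheme := hW
  exact isAffineHom_of_affineDiag W.ι

theorem isAffineOpen_inf {W V : X.Opens} (hW : IsAffineOpen W) (hV : IsAffineOpen V) :
    IsAffineOpen (W ⊓ V) := by
  haveI : IsAffineHom W.ι := isAffineHom_ι hW
  have h1 : IsAffineOpen (W.ι ⁻¹ᵁ V) := hV.preimage W.ι
  have h2 := h1.image_of_isOpenImmersion W.ι
  rwa [Groth.Agent.H45.CechSh.image_preimage_eq] at h2

theorem isAffineOpen_iInf_fin {ι : Type u} (𝒰 : ι → X.Opens) (h𝒰 : ∀ i, IsAffineOpen (𝒰 i))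
    {n : ℕ} (y : Fin (n + 1) → ι) : IsAffineOpen (⨅ a, 𝒰 (y a)) := by
  have h : (⨅ a, 𝒰 (y a)) = Finset.univ.inf' Finset.univ_nonempty (fun a => 𝒰 (y a)) := by
    rw [Finset.inf'_eq_inf, Finset.inf_univ_eq_iInf]
  rw [h]
  exact Finset.inf'_induction Finset.univ_nonempty (fun a => 𝒰 (y a))
    (p := fun W : X.Opens => IsAffineOpen W)
    (fun a₁ h₁ a₂ h₂ => isAffineOpen_inf h₁ h₂) (fun b _ => h𝒰 (y b))

end AffDiag

/-! ### Finite products -/

section Pi

variable {X : Scheme.{u}}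

theorem prop_pi_fin (P : X.Modules → Prop)
    (hiso : ∀ {M N : X.Modules}, (M ≅ N) → P M → P N)
    (hzero : ∀ M : X.Modules, IsZero M → P M)
    (hbi : ∀ M N : X.Modules, P M → P N → P (M ⊞ N)) :
    ∀ (n : ℕ) (g : Fin n → X.Modules), (∀ a, P (g a)) → P (∏ᶜ g)
  | 0, g, _ => hzero _ (by
      rw [IsZero.iff_id_eq_zero]
      exact Pi.hom_ext _ _ (fun a => Fin.elim0 a))
  | n + 1, g, hg => by
    have h1 := prop_pi_fin P hiso hzero hbi n (fun i => g i.succ) (fun i => hg _)
    have h2 := hbi _ _ (hg 0) h1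
    let e : (g 0 ⨯ ∏ᶜ fun i : Fin n => g i.succ) ≅ ∏ᶜ g :=
      (extendFanIsLimit g (limit.isLimit _) (limit.isLimit _)).conePointUniqueUpToIso
        (limit.isLimit _)
    exact hiso ((biprod.isoProd _ _) ≪≫ e) h2

theorem prop_pi_of_finite (P : X.Modules → Prop)
    (hiso : ∀ {M N : X.Modules}, (M ≅ N) → P M → P N)
    (hzero : ∀ M : X.Modules, IsZero M → P M)
    (hbi : ∀ M N : X.Modules, P M → P N → P (M ⊞ N))
    {α : Type u} [Finite α] (g : α → X.Modules) (hg : ∀ a, P (g a)) : P (∏ᶜ g) := by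
  obtain ⟨n, ⟨e⟩⟩ := Finite.exists_equiv_fin α
  have := prop_pi_fin P hiso hzero hbi n (g ∘ e.symm) (fun a => hg _)
  exact hiso (Pi.reindex e.symm g) this

end Pi

/-! ### Acyclicity and quasi-coherence of the terms -/

section Terms

variable {X S : Scheme.{u}} (f : X ⟶ S)

open Groth.Agent.H30.RpushQcoh in
theorem facyc_pushRestr (W : X.Opens) [IsAffineHom W.ι] [IsAffineHom (W.ι ≫ f)]
    (F : X.Modules) [F.IsQuasicoherent] :
    Groth.Agent.H33.UnbDer.FAcyc (Scheme.Modules.pushforward f) ((CechOX.pushRestr W).obj F) := by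
  intro j hj
  haveI hG : ((Scheme.Modules.restrictFunctor W.ι).obj F).IsQuasicoherent := inferInstance
  haveI hG' : Coh.IsQCoh ((Scheme.Modules.restrictFunctor W.ι).obj F) := hG
  have hvan : ∀ {A B : Scheme.{u}} (g : A ⟶ B) [IsAffineHom g]
      (N : A.Modules) [Coh.IsQCoh N] (q : ℕ), 0 < q →
      IsZero (((Scheme.Modules.pushforward g).rightDerived q).obj N) := by
    intro A B g _ N _ q hq
    obtain ⟨e⟩ := Groth.Agent.S11319.result g N q
    exact Groth.Agent.H30.RpushQcoh.isZero_of_isZero_toAb _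
      ((Groth.Agent.S0028.result g N q hq).of_iso e)
  have hinj : ∀ I : (W : Scheme.{u}).Modules, Injective I →
      Injective ((Scheme.Modules.pushforward W.ι).obj I) := by
    intro I hI
    haveI : PreservesFiniteLimits (Scheme.Modules.restrictFunctor W.ι) :=
      Groth.Agent.H42.CmpLib.preservesFiniteLimits_restrictFunctor W.ι
    haveI : (Scheme.Modules.restrictFunctor W.ι).PreservesMonomorphisms := inferInstance
    exact Injective.injective_of_adjoint (Scheme.Modules.restrictAdjunction W.ι) I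
  obtain ⟨e⟩ := Groth.Agent.H67.SiteCmpB.gs (Scheme.Modules.pushforward W.ι)
    (Scheme.Modules.pushforward f) hinj j ((Scheme.Modules.restrictFunctor W.ι).obj F)
    (fun q hq _ => hvan W.ι _ q hq) j le_rfl
  refine IsZero.of_iso ?_ e.symm
  have e2 := (Groth.Agent.H67.DerivedNat.rightDerivedNatIso
    (Scheme.Modules.pushforwardComp W.ι f) j).app ((Scheme.Modules.restrictFunctor W.ι).obj F)
  refine IsZero.of_iso ?_ e2
  exact hvan (W.ι ≫ f) _ j hj

variable [IsAffineHom (pullback.diagonal (terminal.from X))]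
  [IsAffineHom (pullback.diagonal (terminal.from S))]
  {ι : Type u} [Finite ι] (𝒰 : ι → X.Opens) (h𝒰 : ∀ i, IsAffineOpen (𝒰 i))
  (F : X.Modules) [F.IsQuasicoherent]

omit [Finite ι] in
include h𝒰 in
theorem isAffineOpen_pi {n : ℕ} (y : Fin (n + 1) → ι) :
    IsAffineOpen (∏ᶜ (𝒰 ∘ y) : X.Opens) := by
  rw [Groth.Agent.H45.QCohPi.pi_eq_iInf]
  exact isAffineOpen_iInf_fin 𝒰 h𝒰 y

include h𝒰 in
open Groth.Agent.H30.RpushQcoh in
theorem facyc_cechSh_X (p : ℕ) :
    Groth.Agent.H33.UnbDer.FAcyc (Scheme.Modules.pushforward f)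
      (((CechOX.cechSh 𝒰).obj F).X p) := by
  obtain ⟨Δ⟩ := Groth.Agent.S16463.result (Scheme.Modules.pushforward f)
  have h1 := Groth.Agent.H33.UnbDer.FAcyc_h1 (Scheme.Modules.pushforward f)
  have h2 := Groth.Agent.H33.UnbDer.FAcyc_h2 (Scheme.Modules.pushforward f) Δ
  change Groth.Agent.H33.UnbDer.FAcyc (Scheme.Modules.pushforward f)
    (∏ᶜ (Groth.Agent.H45.CechExtra.TT (Groth.Agent.H45.CechSh.PP F) 𝒰 p))
  apply prop_pi_of_finite (Groth.Agent.H33.UnbDer.FAcyc (Scheme.Modules.pushforward f))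
  · intro M N e hM
    exact Groth.Agent.H33.UnbRes.P_of_iso _ h1 h2 e hM
  · intro M hM
    exact Groth.Agent.H33.UnbRes.P_of_isZero _ h1 h2 hM
  · intro M N hM hN
    exact Groth.Agent.H33.UnbRes.P_biprod _ h2 hM hN
  · intro y
    have hW := isAffineOpen_pi 𝒰 h𝒰 y
    haveI : IsAffine (∏ᶜ (𝒰 ∘ y) : X.Opens).toScheme := hW
    haveI : IsAffineHom (∏ᶜ (𝒰 ∘ y) : X.Opens).ι := isAffineHom_ι hW
    haveI : IsAffineHom ((∏ᶜ (𝒰 ∘ y) : X.Opens).ι ≫ f) := isAffineHom_of_affineDiag _
    exact facyc_pushRestr f (∏ᶜ (𝒰 ∘ y)) F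

include h𝒰 in
theorem isQuasicoherent_relCech_X (p : ℕ) :
    (((CechOX.relCech 𝒰 f).obj F).X p).IsQuasicoherent := by
  change ((Scheme.Modules.pushforward f).obj
    (∏ᶜ (Groth.Agent.H45.CechExtra.TT (Groth.Agent.H45.CechSh.PP F) 𝒰 p))).IsQuasicoherent
  haveI : PreservesLimitsOfSize.{u, u} (Scheme.Modules.pushforward f) :=
    (Scheme.Modules.pullbackPushforwardAdjunction f).rightAdjoint_preservesLimits
  let e := PreservesProduct.iso (Scheme.Modules.pushforward f)
    (Groth.Agent.H45.CechExtra.TT (Groth.Agent.H45.CechSh.PP F) 𝒰 p)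
  haveI : (∏ᶜ fun y => (Scheme.Modules.pushforward f).obj
      (Groth.Agent.H45.CechExtra.TT (Groth.Agent.H45.CechSh.PP F) 𝒰 p y)).IsQuasicoherent := by
    apply Groth.Agent.H45.QCohPi.isQuasicoherent_pi_of_finite
    intro y
    have hW := isAffineOpen_pi 𝒰 h𝒰 y
    haveI : IsAffine (∏ᶜ (𝒰 ∘ y) : X.Opens).toScheme := hW
    haveI : IsAffineHom ((∏ᶜ (𝒰 ∘ y) : X.Opens).ι ≫ f) := isAffineHom_of_affineDiag _
    haveI : ((Scheme.Modules.restrictFunctor (∏ᶜ (𝒰 ∘ y) : X.Opens).ι).obj F).IsQuasicoherent :=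
      inferInstance
    haveI := Groth.Agent.H8.isQuasicoherent_pushforward ((∏ᶜ (𝒰 ∘ y) : X.Opens).ι ≫ f)
      ((Scheme.Modules.restrictFunctor (∏ᶜ (𝒰 ∘ y) : X.Opens).ι).obj F)
    exact Groth.Agent.H22.QCohLimits.isQuasicoherent_of_iso
      ((Scheme.Modules.pushforwardComp (∏ᶜ (𝒰 ∘ y) : X.Opens).ι f).app
        ((Scheme.Modules.restrictFunctor (∏ᶜ (𝒰 ∘ y) : X.Opens).ι).obj F)).symm
  exact Groth.Agent.H22.QCohLimits.isQuasicoherent_of_iso e.symm

end Terms

/-! ### The Čech complex of sheaves is a resolution -/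

section Resolution

variable {X : Scheme.{u}} {ι : Type u} (𝒰 : ι → X.Opens) (hcov : ⨆ i, 𝒰 i = ⊤) (F : X.Modules)

/-- the coaugmentation as a morphism of complexes -/
noncomputable def augHom : (CochainComplex.single₀ X.Modules).obj F ⟶ (CechOX.cechSh 𝒰).obj F :=
  (CochainComplex.fromSingle₀Equiv ((CechOX.cechSh 𝒰).obj F) F).symm
    ⟨CechOX.cechShAug 𝒰 F, Groth.Agent.H45.CechSh.aug_comp_d 𝒰 F⟩

lemma augHom_f_zero : (augHom 𝒰 F).f 0 = CechOX.cechShAug 𝒰 F :=
  CochainComplex.fromSingle₀Equiv_symm_apply_f_zero _ _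

include hcov in
set_option backward.isDefEq.respectTransparency false in
theorem quasiIso_augHom : QuasiIso (augHom 𝒰 F) := by
  haveI : ∀ i, PreservesFiniteLimits (Scheme.Modules.restrictFunctor (𝒰 i).ι) :=
    fun i => Groth.Agent.H42.CmpLib.preservesFiniteLimits_restrictFunctor _
  refine ⟨fun n => ?_⟩
  cases n with
  | succ k =>
    rw [quasiIsoAt_iff_exactAt _ (k + 1) (CochainComplex.exactAt_succ_single_obj _ _),
      HomologicalComplex.exactAt_iff_isZero_homology]
    exact Groth.Agent.H45.CechSh.isZero_homology 𝒰 F hcov k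
  | zero =>
    rw [quasiIsoAt_iff' _ 0 0 1 (by simp) (by simp)]
    rw [ShortComplex.quasiIso_iff_of_zeros]
    · have hex := Groth.Agent.H45.CechSh.exact_aug 𝒰 F hcov
      have hm := Groth.Agent.H45.CechSh.mono_aug 𝒰 F hcov
      constructor
      · refine (ShortComplex.exact_iff_of_iso (ShortComplex.isoMk (Iso.refl _) (Iso.refl _)
          (Iso.refl _) ?_ ?_)).2 hex
        · dsimp
          rw [Category.id_comp, Category.comp_id]
        · simp
      · change Mono ((augHom 𝒰 F).f 0)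
        rw [augHom_f_zero]
        exact hm
    · exact ((CochainComplex.single₀ X.Modules).obj F).shape 0 0 (by simp)
    · exact HomologicalComplex.single_obj_d (ComplexShape.up ℕ) 0 F 0 1
    · exact ((CechOX.cechSh 𝒰).obj F).shape 0 0 (by simp)

end Resolution

/-! ### Main theorem -/

section Main

open DerivedCategory

attribute [local instance] HasDerivedCategory.standard

variable {X S : Scheme.{u}} (f : X ⟶ S)
  [IsAffineHom (pullback.diagonal (terminal.from X))]
  [IsAffineHom (pullback.diagonal (terminal.from S))]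
  {ι : Type u} [Finite ι] (𝒰 : ι → X.Opens) (h𝒰 : ∀ i, IsAffineOpen (𝒰 i))
  (hcov : ⨆ i, 𝒰 i = ⊤) (F : X.Modules) [F.IsQuasicoherent] [DCoh.HasRpush f]

include h𝒰 hcov in
open Groth.Agent.H30.RpushQcoh in
set_option backward.isDefEq.respectTransparency false in
theorem main :
    Nonempty (DCoh.toD S (CechOX.relCechZ 𝒰 f F) ≅ (DCoh.Rpush f).obj (DCoh.inD X F)) := by
  let Fp := Scheme.Modules.pushforward f
  let β := (DCoh.pushKh f).totalRightDerivedUnit DerivedCategory.Qh
    (HomotopyCategory.quasiIso X.Modules (ComplexShape.up ℤ))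
  let K : CochainComplex X.Modules ℕ := (CechOX.cechSh 𝒰).obj F
  let em := ComplexShape.embeddingUpNat
  let Kz : CochainComplex X.Modules ℤ := K.extend em
  -- acyclicity of the terms
  obtain ⟨Δ⟩ := Groth.Agent.S16463.result Fp
  have h1 := Groth.Agent.H33.UnbDer.FAcyc_h1 Fp
  have h2 := Groth.Agent.H33.UnbDer.FAcyc_h2 Fp Δ
  have hacyc : ∀ m, Groth.Agent.H33.UnbDer.FAcyc Fp (Kz.X m) := by
    intro m
    by_cases hm : ∃ n : ℕ, em.f n = m
    · obtain ⟨n, hn⟩ := hm
      exact Groth.Agent.H33.UnbRes.P_of_iso _ h1 h2 (K.extendXIso em hn).symm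
        (facyc_cechSh_X f 𝒰 h𝒰 F n)
    · exact Groth.Agent.H33.UnbRes.P_of_isZero _ h1 h2
        (K.isZero_extend_X em m (fun n hn => hm ⟨n, hn⟩))
  have hβ : IsIso (β.app ((HomotopyCategory.quotient X.Modules (ComplexShape.up ℤ)).obj Kz)) :=
    Groth.Agent.H6.LerayBdd.isIso_unit_of_isStrictlyGE Fp (DCoh.Rpush f) β Kz 0 hacyc
  -- the resolution, ℤ-indexed
  have hq := quasiIso_augHom 𝒰 hcov F
  let ι' : (HomologicalComplex.single X.Modules (ComplexShape.up ℤ) 0).obj F ⟶ Kz :=
    (HomologicalComplex.extendSingleIso em F 0 0 (by simp [em])).inv ≫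
      HomologicalComplex.extendMap (augHom 𝒰 F) em
  have hq2 : QuasiIso (HomologicalComplex.extendMap (augHom 𝒰 F) em) :=
    (HomologicalComplex.quasiIso_extendMap_iff (augHom 𝒰 F) em).2 hq
  have hq3 : QuasiIso ι' := inferInstance
  have hq4 : IsIso (DerivedCategory.Q.map ι') := by
    rw [DerivedCategory.isIso_Q_map_iff_quasiIso]; exact hq3
  let e1 : DCoh.inD X F ≅
      DerivedCategory.Q.obj ((HomologicalComplex.single X.Modules (ComplexShape.up ℤ) 0).obj F) :=
    (DerivedCategory.singleFunctorIsoCompQ X.Modules 0).app F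
  let e2 := asIso (DerivedCategory.Q.map ι')
  let m1 : (Fp.mapHomotopyCategory (ComplexShape.up ℤ) ⋙ Qh).obj
      ((HomotopyCategory.quotient X.Modules (ComplexShape.up ℤ)).obj Kz) ≅
      (Qh ⋙ DCoh.Rpush f).obj ((HomotopyCategory.quotient X.Modules (ComplexShape.up ℤ)).obj Kz) :=
    asIso (β.app _)
  let m2 : Qh.obj ((HomotopyCategory.quotient X.Modules (ComplexShape.up ℤ)).obj Kz) ≅ Q.obj Kz :=
    (quotientCompQhIso X.Modules).app Kz
  let m3 : Qh.obj ((HomotopyCategory.quotient S.Modules (ComplexShape.up ℤ)).obj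
      ((Fp.mapHomologicalComplex (ComplexShape.up ℤ)).obj Kz)) ≅
      Q.obj ((Fp.mapHomologicalComplex (ComplexShape.up ℤ)).obj Kz) :=
    (quotientCompQhIso S.Modules).app _
  let e3 : (DCoh.Rpush f).obj (Q.obj Kz) ≅
      Q.obj ((Fp.mapHomologicalComplex (ComplexShape.up ℤ)).obj Kz) :=
    ((DCoh.Rpush f).mapIso m2).symm ≪≫ m1.symm ≪≫ m3
  let e4 : Q.obj ((Fp.mapHomologicalComplex (ComplexShape.up ℤ)).obj Kz) ≅
      Q.obj (CechOX.relCechZ 𝒰 f F) :=
    Q.mapIso (@asIso _ _ _ _ (Groth.Agent.H42.RDBridge.mapExtend em Fp K)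
      (Groth.Agent.H42.RDBridge.isIso_mapExtend em Fp K))
  exact ⟨e4.symm ≪≫ e3.symm ≪≫ (DCoh.Rpush f).mapIso (e2.symm ≪≫ e1.symm)⟩

end Main

end Groth.Agent.H45.RelCechD
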