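import Groth.Agent.H45.ResTrdegAlg
import Groth.Agent.H45.FpqcFlatDescent

/-!
# Helper library (helper45): transcendence degree of residue fields under base change

For a cartesian square of schemes
```
P --p₁--> X
|p₂       |f
v         v
Y --g---> S
```
* `residueField_generated_of_isPullback` : `κ(t)` is generated as a field by the images of
  `κ(p₁ t)` and `κ(p₂ t)`.
* `trdeg_le_of_isPullback` : `trdeg (κ(t)/κ(p₂ t)) ≤ trdeg (κ(p₁ t)/κ(f (p₁ t)))`.
* `exists_point_trdeg_ge` : for `x : X`, `y : Y` over the same point of `S` there is `z : P` over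
  `x` with `trdeg (κ(x)/κ(f x)) ≤ trdeg (κ(z)/κ(p₂ z))`.
-/

set_option autoImplicit false
set_option linter.style.haveILetI false
universe u
open AlgebraicGeometry CategoryTheory Limits Opposite

namespace Groth.Agent.H45.ResTrdeg

theorem pushout_desc_mem {R A B C : CommRingCat.{u}} (a : R ⟶ A) (b : R ⟶ B)
    (φ : pushout a b ⟶ C) (α : A ⟶ C) (β : B ⟶ C) (hα : pushout.inl a b ≫ φ = α)
    (hβ : pushout.inr a b ≫ φ = β) (w : ↑(pushout a b)) :
    φ.hom w ∈ Subring.closure (Set.range α.hom ∪ Set.range β.hom) := by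
  subst hα hβ
  set C₀ : Subring C := Subring.closure
      (Set.range (pushout.inl a b ≫ φ).hom ∪ Set.range (pushout.inr a b ≫ φ).hom) with hC₀
  let ia : A ⟶ CommRingCat.of C₀ := CommRingCat.ofHom
    ((pushout.inl a b ≫ φ).hom.codRestrict C₀
      (fun x => Subring.subset_closure (Or.inl ⟨x, rfl⟩)))
  let ib : B ⟶ CommRingCat.of C₀ := CommRingCat.ofHom
    ((pushout.inr a b ≫ φ).hom.codRestrict C₀
      (fun x => Subring.subset_closure (Or.inr ⟨x, rfl⟩)))
  have hcomp : a ≫ ia = b ≫ ib := by
    ext r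
    have h1 : a ≫ pushout.inl a b ≫ φ = b ≫ pushout.inr a b ≫ φ := by
      rw [← Category.assoc, pushout.condition, Category.assoc]
    exact congrArg (fun m : R ⟶ C => m.hom r) h1
  have hδ : pushout.desc ia ib hcomp ≫ CommRingCat.ofHom C₀.subtype = φ := by
    apply pushout.hom_ext
    · rw [pushout.inl_desc_assoc]
      rfl
    · rw [pushout.inr_desc_assoc]
      rfl
  have h2 : (pushout.desc ia ib hcomp ≫ CommRingCat.ofHom C₀.subtype).hom w = φ.hom w := by
    rw [hδ]
  rw [← h2]
  exact ((pushout.desc ia ib hcomp).hom w).2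

theorem ofPointTensor_mem {X Y S : Scheme.{u}} (f : X ⟶ S) (g : Y ⟶ S) (t : ↑(pullback f g))
    (w : ↑(Scheme.Pullback.Triplet.ofPoint t).tensor) :
    (Scheme.Pullback.ofPointTensor t).hom w ∈ Subring.closure
      (Set.range ((pullback.fst f g).residueFieldMap t).hom ∪
        Set.range ((pullback.snd f g).residueFieldMap t).hom) :=
  pushout_desc_mem _ _ (Scheme.Pullback.ofPointTensor t) _ _ (pushout.inl_desc _ _ _)
    (pushout.inr_desc _ _ _) w

theorem residueField_generated {X Y S : Scheme.{u}} (f : X ⟶ S) (g : Y ⟶ S) (t : ↑(pullback f g))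
    (s : (pullback f g).residueField t) :
    ∃ u v : (pullback f g).residueField t,
      u ∈ Subring.closure (Set.range ((pullback.fst f g).residueFieldMap t).hom ∪
        Set.range ((pullback.snd f g).residueFieldMap t).hom) ∧
      v ∈ Subring.closure (Set.range ((pullback.fst f g).residueFieldMap t).hom ∪
        Set.range ((pullback.snd f g).residueFieldMap t).hom) ∧ v ≠ 0 ∧ v * s = u := by
  have hsurj : SurjectiveOnStalks (Spec.map (Scheme.Pullback.ofPointTensor t)) := by
    haveI : SurjectiveOnStalks (Spec.map (Scheme.Pullback.ofPointTensor t) ≫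
        (Scheme.Pullback.Triplet.ofPoint t).SpecTensorTo) := by
      rw [Scheme.Pullback.ofPointTensor_SpecTensorTo]
      infer_instance
    exact SurjectiveOnStalks.of_comp (Spec.map (Scheme.Pullback.ofPointTensor t))
      (Scheme.Pullback.Triplet.ofPoint t).SpecTensorTo
  have hψ := SurjectiveOnStalks.Spec_iff.1 hsurj
  obtain ⟨x, r, c, hc, hr, e⟩ :=
    (RingHom.surjective_localRingHom_iff (f := (Scheme.Pullback.ofPointTensor t).hom) ⊥).1
      (hψ ⊥ Ideal.isPrime_bot) s
  have hc0 : c ≠ 0 := fun h0 => hc (by rw [h0]; exact Ideal.zero_mem _)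
  refine ⟨(Scheme.Pullback.ofPointTensor t).hom x, (Scheme.Pullback.ofPointTensor t).hom r,
    ofPointTensor_mem f g t x, ofPointTensor_mem f g t r,
    fun h0 => hr (by rw [h0]; exact Ideal.zero_mem _), ?_⟩
  have e' : c * ((Scheme.Pullback.ofPointTensor t).hom r * s) =
      c * (Scheme.Pullback.ofPointTensor t).hom x := by
    rw [← mul_assoc]
    exact e
  exact mul_left_cancel₀ hc0 e'

theorem residueField_generated_of_isPullback {P X Y S : Scheme.{u}} {p₁ : P ⟶ X} {p₂ : P ⟶ Y}
    {f : X ⟶ S} {g : Y ⟶ S} (h : IsPullback p₁ p₂ f g) (t : P) (s : P.residueField t) :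
    ∃ u v : P.residueField t,
      u ∈ Subring.closure (Set.range (p₁.residueFieldMap t).hom ∪
        Set.range (p₂.residueFieldMap t).hom) ∧
      v ∈ Subring.closure (Set.range (p₁.residueFieldMap t).hom ∪
        Set.range (p₂.residueFieldMap t).hom) ∧ v ≠ 0 ∧ v * s = u := by
  let e := h.isoPullback
  let ρ := e.hom.residueFieldMap t
  have hle : Subring.closure (Set.range ((pullback.fst f g).residueFieldMap (e.hom t)).hom ∪
      Set.range ((pullback.snd f g).residueFieldMap (e.hom t)).hom) ≤
      (Subring.closure (Set.range (p₁.residueFieldMap t).hom ∪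
        Set.range (p₂.residueFieldMap t).hom)).comap ρ.hom := by
    rw [Subring.closure_le]
    rintro _ (⟨a, rfl⟩ | ⟨b, rfl⟩)
    · have h1 := (Scheme.residueFieldMap_comp e.hom (pullback.fst f g) t).symm.trans
        (Scheme.Hom.residueFieldMap_congr h.isoPullback_hom_fst t)
      have h2 := congrArg (fun m => m.hom a) h1
      simp only [CommRingCat.hom_comp] at h2
      exact Subring.subset_closure (Or.inl ⟨_, h2.symm⟩)
    · have h1 := (Scheme.residueFieldMap_comp e.hom (pullback.snd f g) t).symm.trans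
        (Scheme.Hom.residueFieldMap_congr h.isoPullback_hom_snd t)
      have h2 := congrArg (fun m => m.hom b) h1
      simp only [CommRingCat.hom_comp] at h2
      exact Subring.subset_closure (Or.inr ⟨_, h2.symm⟩)
  have hs : ρ.hom ((inv ρ).hom s) = s :=
    congrArg (fun m : P.residueField t ⟶ P.residueField t => m.hom s) (IsIso.inv_hom_id ρ)
  obtain ⟨u', v', hu', hv', hv0, hvs⟩ := residueField_generated f g (e.hom t) ((inv ρ).hom s)
  refine ⟨ρ.hom u', ρ.hom v', hle hu', hle hv', ?_, ?_⟩
  · intro h0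
    exact hv0 (ρ.hom.injective (h0.trans (map_zero ρ.hom).symm))
  · calc ρ.hom v' * s = ρ.hom v' * ρ.hom ((inv ρ).hom s) := by rw [hs]
      _ = ρ.hom (v' * (inv ρ).hom s) := (map_mul ρ.hom _ _).symm
      _ = ρ.hom u' := by rw [hvs]

theorem trdeg_le_of_isPullback {P X Y S : Scheme.{u}} {p₁ : P ⟶ X} {p₂ : P ⟶ Y}
    {f : X ⟶ S} {g : Y ⟶ S} (h : IsPullback p₁ p₂ f g) (t : P) :
    (letI := (p₂.residueFieldMap t).hom.toAlgebra
     Algebra.trdeg (Y.residueField (p₂.base t)) (P.residueField t)) ≤
    (letI := (f.residueFieldMap (p₁.base t)).hom.toAlgebra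
     Algebra.trdeg (S.residueField (f.base (p₁.base t))) (X.residueField (p₁.base t))) := by
  letI alg1 : Algebra (Y.residueField (p₂.base t)) (P.residueField t) :=
    (p₂.residueFieldMap t).hom.toAlgebra
  letI alg2 : Algebra (S.residueField (f.base (p₁.base t))) (X.residueField (p₁.base t)) :=
    (f.residueFieldMap (p₁.base t)).hom.toAlgebra
  have hpt : f.base (p₁.base t) = g.base (p₂.base t) :=
    congrArg (fun m : P ⟶ S => m.base t) h.w
  show Algebra.trdeg (Y.residueField (p₂.base t)) (P.residueField t) ≤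
    Algebra.trdeg (S.residueField (f.base (p₁.base t))) (X.residueField (p₁.base t))
  refine Groth.Agent.H45.ResTrdegAlg.trdeg_le_of_generated (p₁.residueFieldMap t).hom
    ((S.residueFieldCongr hpt).hom ≫ g.residueFieldMap (p₂.base t)).hom ?_ ?_
  · have e1 : f.residueFieldMap (p₁.base t) ≫ p₁.residueFieldMap t =
        ((S.residueFieldCongr hpt).hom ≫ g.residueFieldMap (p₂.base t)) ≫
          p₂.residueFieldMap t := by
      rw [← Scheme.residueFieldMap_comp, Scheme.Hom.residueFieldMap_congr h.w,
        Scheme.residueFieldMap_comp, Category.assoc]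
      rfl
    exact congrArg CommRingCat.Hom.hom e1
  · intro s
    exact residueField_generated_of_isPullback h t s

theorem specPt {Y : Scheme.{u}} {Ω : Type u} [Field Ω] (g : Spec (CommRingCat.of Ω) ⟶ Y) (y : Y)
    (γ : Y.residueField y ⟶ CommRingCat.of Ω) (hg : g = Spec.map γ ≫ Y.fromSpecResidueField y) :
    ∃ e : g.base (IsLocalRing.closedPoint Ω) = y,
      Y.descResidueField (Scheme.stalkClosedPointTo g) = (Y.residueFieldCongr e).hom ≫ γ := by
  subst hg
  exact Scheme.SpecToEquivOfField_eq_iff.1 ((Scheme.SpecToEquivOfField Ω Y).right_inv ⟨y, γ⟩)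

theorem exists_point_trdeg_ge {P X Y S : Scheme.{u}} {p₁ : P ⟶ X} {p₂ : P ⟶ Y}
    {f : X ⟶ S} {g : Y ⟶ S} (h : IsPullback p₁ p₂ f g) (x : X) (y : Y)
    (hxy : g.base y = f.base x) :
    ∃ z : P, p₁.base z = x ∧
      (letI := (f.residueFieldMap x).hom.toAlgebra
       Algebra.trdeg (S.residueField (f.base x)) (X.residueField x)) ≤
      (letI := (p₂.residueFieldMap z).hom.toAlgebra
       Algebra.trdeg (Y.residueField (p₂.base z)) (P.residueField z)) := by
  letI algx : Algebra (S.residueField (f.base x)) (X.residueField x) :=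
    (f.residueFieldMap x).hom.toAlgebra
  obtain ⟨ι, xb, hxb⟩ := exists_isTranscendenceBasis' (S.residueField (f.base x))
    (A := X.residueField x)
  let dC : S.residueField (f.base x) ⟶ Y.residueField y :=
    (S.residueFieldCongr hxy.symm).hom ≫ g.residueFieldMap y
  obtain ⟨Ω, hΩ, α, β, hαβ, hind⟩ :=
    Groth.Agent.H45.ResTrdegAlg.exists_field_compositum dC.hom xb hxb
  let αC : X.residueField x ⟶ CommRingCat.of Ω := CommRingCat.ofHom α
  let βC : Y.residueField y ⟶ CommRingCat.of Ω := CommRingCat.ofHom β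
  have hαβC : f.residueFieldMap x ≫ αC = dC ≫ βC := by
    ext a
    exact RingHom.congr_fun hαβ a
  have hcompat : (Spec.map αC ≫ X.fromSpecResidueField x) ≫ f =
      (Spec.map βC ≫ Y.fromSpecResidueField y) ≫ g := by
    calc (Spec.map αC ≫ X.fromSpecResidueField x) ≫ f
        = Spec.map αC ≫ Spec.map (f.residueFieldMap x) ≫ S.fromSpecResidueField (f.base x) := by
          rw [Category.assoc, ← Scheme.Hom.SpecMap_residueFieldMap_fromSpecResidueField]
      _ = Spec.map (f.residueFieldMap x ≫ αC) ≫ S.fromSpecResidueField (f.base x) := by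
          rw [Spec.map_comp, Category.assoc]
      _ = Spec.map (dC ≫ βC) ≫ S.fromSpecResidueField (f.base x) := by rw [hαβC]
      _ = Spec.map βC ≫ Spec.map (g.residueFieldMap y) ≫
            (Spec.map (S.residueFieldCongr hxy.symm).hom ≫
              S.fromSpecResidueField (f.base x)) := by
          simp only [dC, Spec.map_comp, Category.assoc]
      _ = Spec.map βC ≫ Spec.map (g.residueFieldMap y) ≫ S.fromSpecResidueField (g.base y) := by
          rw [Scheme.residueFieldCongr_fromSpecResidueField]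
      _ = (Spec.map βC ≫ Y.fromSpecResidueField y) ≫ g := by
          rw [Scheme.Hom.SpecMap_residueFieldMap_fromSpecResidueField, Category.assoc]
  let u : Spec (CommRingCat.of Ω) ⟶ P := h.lift (Spec.map αC ≫ X.fromSpecResidueField x)
    (Spec.map βC ≫ Y.fromSpecResidueField y) hcompat
  have hu1 : u ≫ p₁ = Spec.map αC ≫ X.fromSpecResidueField x := h.lift_fst _ _ _
  have hu2 : u ≫ p₂ = Spec.map βC ≫ Y.fromSpecResidueField y := h.lift_snd _ _ _
  obtain ⟨e₁, he₁⟩ := specPt (u ≫ p₁) x αC hu1
  obtain ⟨e₂, he₂⟩ := specPt (u ≫ p₂) y βC hu2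
  let z : P := u.base (IsLocalRing.closedPoint Ω)
  let ρ : P.residueField z ⟶ CommRingCat.of Ω :=
    P.descResidueField (Scheme.stalkClosedPointTo u)
  have hA : p₁.residueFieldMap z ≫ ρ = (X.residueFieldCongr e₁).hom ≫ αC :=
    (Scheme.descResidueField_stalkClosedPointTo_comp p₁ u).symm.trans he₁
  have hB : p₂.residueFieldMap z ≫ ρ = (Y.residueFieldCongr e₂).hom ≫ βC :=
    (Scheme.descResidueField_stalkClosedPointTo_comp p₂ u).symm.trans he₂
  refine ⟨z, e₁, ?_⟩
  letI algz : Algebra (Y.residueField (p₂.base z)) (P.residueField z) :=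
    (p₂.residueFieldMap z).hom.toAlgebra
  show Algebra.trdeg (S.residueField (f.base x)) (X.residueField x) ≤
    Algebra.trdeg (Y.residueField (p₂.base z)) (P.residueField z)
  letI algΩ : Algebra (Y.residueField y) Ω := β.toAlgebra
  let yb : ι → P.residueField z := fun j =>
    (p₁.residueFieldMap z).hom ((X.residueFieldCongr e₁).inv.hom (xb j))
  have hyb : ρ.hom ∘ yb = α ∘ xb := by
    funext j
    have h1 := congrArg (fun m => m.hom ((X.residueFieldCongr e₁).inv.hom (xb j))) hA
    have h2 : (X.residueFieldCongr e₁).hom.hom ((X.residueFieldCongr e₁).inv.hom (xb j)) = xb j :=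
      congrArg (fun m : X.residueField x ⟶ X.residueField x => m.hom (xb j))
        (X.residueFieldCongr e₁).inv_hom_id
    exact h1.trans (congrArg α h2)
  have hind' : AlgebraicIndependent (Y.residueField y) (ρ.hom ∘ yb) := by
    rw [hyb]
    exact hind
  have hyind : AlgebraicIndependent (Y.residueField (p₂.base z)) yb := by
    refine AlgebraicIndependent.of_ringHom_of_comp_eq (Y.residueFieldCongr e₂).hom.hom ρ.hom
      hind' (Y.residueFieldCongr e₂).hom.hom.injective ?_
    exact (congrArg CommRingCat.Hom.hom hB).symm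
  calc Algebra.trdeg (S.residueField (f.base x)) (X.residueField x)
      = Cardinal.mk ι := hxb.cardinalMk_eq_trdeg.symm
    _ ≤ Algebra.trdeg (Y.residueField (p₂.base z)) (P.residueField z) :=
        hyind.cardinalMk_le_trdeg

end Groth.Agent.H45.ResTrdeg
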