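import Mathlib

/-!
# Helper library (helper45): transcendence degree of composita (pure algebra)

* `isAlgebraic_mvPolynomial` : for a transcendence basis `x` of `L/K`, every element of `L` is
  algebraic over `K[X_i]` (acting through `aeval x`).
* `trdeg_le_of_generated` : if a field `E` is generated (as a field) by the images of `L₀` and `K'`,
  compatibly over `K₀`, then `trdeg K' E ≤ trdeg K₀ L₀`.
* `exists_field_compositum` : for `K → L` and `K → K'` there is a field `Ω` receiving `L` and `K'`
  compatibly in which a transcendence basis of `L/K` stays algebraically independent over `K'`.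
-/

set_option autoImplicit false
set_option linter.style.haveILetI false
universe u
open Cardinal

namespace Groth.Agent.H45.ResTrdegAlg

theorem isAlgebraic_mvPolynomial {K L : Type u} [Field K] [Field L] [Algebra K L] {ι : Type u}
    {x : ι → L} (hx : IsTranscendenceBasis K x) (l : L) :
    letI : Algebra (MvPolynomial ι K) L := (MvPolynomial.aeval (R := K) x).toRingHom.toAlgebra
    IsAlgebraic (MvPolynomial ι K) l := by
  letI : Algebra (MvPolynomial ι K) L := (MvPolynomial.aeval (R := K) x).toRingHom.toAlgebra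
  haveI := hx.isAlgebraic
  have h0 : IsAlgebraic (Algebra.adjoin K (Set.range x)) ((RingHom.id L) l) :=
    Algebra.IsAlgebraic.isAlgebraic l
  refine IsAlgebraic.of_ringHom_of_comp_eq (hx.1.aevalEquiv) (RingHom.id L) h0
    hx.1.aevalEquiv.surjective Function.injective_id ?_
  exact RingHom.ext fun p => hx.1.algebraMap_aevalEquiv p

theorem trdeg_le_of_generated {K₀ L₀ K' E : Type u} [Field K₀] [Field L₀] [Field K'] [Field E]
    [Algebra K₀ L₀] [Algebra K' E] (a₀ : L₀ →+* E) (d : K₀ →+* K')
    (hcomm : a₀.comp (algebraMap K₀ L₀) = (algebraMap K' E).comp d)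
    (hgen : ∀ s : E, ∃ u v : E,
      u ∈ Subring.closure (Set.range a₀ ∪ Set.range (algebraMap K' E)) ∧
      v ∈ Subring.closure (Set.range a₀ ∪ Set.range (algebraMap K' E)) ∧ v ≠ 0 ∧ v * s = u) :
    Algebra.trdeg K' E ≤ Algebra.trdeg K₀ L₀ := by
  obtain ⟨ι, x, hx⟩ := exists_isTranscendenceBasis' K₀ L₀
  let s : Set E := Set.range (a₀ ∘ x)
  let xD : ι → Algebra.adjoin K' s := fun i => ⟨a₀ (x i), Algebra.subset_adjoin ⟨i, rfl⟩⟩
  let f : MvPolynomial ι K₀ →+* Algebra.adjoin K' s :=
    (MvPolynomial.aeval (R := K') xD).toRingHom.comp (MvPolynomial.map d)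
  letI algP : Algebra (MvPolynomial ι K₀) L₀ := (MvPolynomial.aeval (R := K₀) x).toRingHom.toAlgebra
  have hcompat : (algebraMap (Algebra.adjoin K' s) E).comp f =
      a₀.comp (algebraMap (MvPolynomial ι K₀) L₀) := by
    apply MvPolynomial.ringHom_ext
    · intro k
      have h1 := RingHom.congr_fun hcomm k
      simp only [RingHom.comp_apply] at h1
      simp only [f, RingHom.comp_apply, RingHom.algebraMap_toAlgebra, AlgHom.toRingHom_eq_coe,
        RingHom.coe_coe, MvPolynomial.map_C, MvPolynomial.aeval_C]
      rw [h1]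
      rfl
    · intro i
      simp only [f, xD, RingHom.comp_apply, RingHom.algebraMap_toAlgebra, AlgHom.toRingHom_eq_coe,
        RingHom.coe_coe, MvPolynomial.map_X, MvPolynomial.aeval_X]
      rfl
  have hinj : Function.Injective f := by
    have h1 : Function.Injective ((algebraMap (Algebra.adjoin K' s) E).comp f) := by
      rw [hcompat, RingHom.coe_comp]
      exact a₀.injective.comp hx.1
    rw [RingHom.coe_comp] at h1
    exact Function.Injective.of_comp h1
  have hC : ∀ l : L₀, IsAlgebraic (Algebra.adjoin K' s) (a₀ l) := fun l =>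
    (isAlgebraic_mvPolynomial hx l).ringHom_of_comp_eq f a₀ hinj hcompat
  have hsub : Subring.closure (Set.range a₀ ∪ Set.range (algebraMap K' E)) ≤
      (Subalgebra.algebraicClosure (Algebra.adjoin K' s) E).toSubring := by
    rw [Subring.closure_le]
    rintro e (⟨l, rfl⟩ | ⟨k, rfl⟩)
    · exact hC l
    · show IsAlgebraic (Algebra.adjoin K' s) (algebraMap K' E k)
      rw [IsScalarTower.algebraMap_apply K' (Algebra.adjoin K' s) E]
      exact isAlgebraic_algebraMap _
  haveI : Algebra.IsAlgebraic (Algebra.adjoin K' s) E := by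
    constructor
    intro e
    obtain ⟨u, v, hu, hv, hv0, hve⟩ := hgen e
    have hu' : IsAlgebraic (Algebra.adjoin K' s) u := hsub hu
    have hv' : IsAlgebraic (Algebra.adjoin K' s) v := hsub hv
    have he : e = u * v⁻¹ := by
      rw [← hve]
      field_simp
    rw [he]
    exact hu'.mul hv'.inv
  calc Algebra.trdeg K' E ≤ #s := Algebra.IsAlgebraic.trdeg_le_cardinalMk K' s
    _ ≤ #ι := Cardinal.mk_range_le
    _ = Algebra.trdeg K₀ L₀ := hx.cardinalMk_eq_trdeg

theorem exists_field_compositum {K L K' : Type u} [Field K] [Field L] [Field K'] [Algebra K L]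
    (d : K →+* K') {ι : Type u} (x : ι → L) (hx : IsTranscendenceBasis K x) :
    ∃ (Ω : Type u) (_ : Field Ω) (α : L →+* Ω) (β : K' →+* Ω),
      α.comp (algebraMap K L) = β.comp d ∧
      (letI := β.toAlgebra; AlgebraicIndependent K' (α ∘ x)) := by
  let P' := MvPolynomial ι K'
  let F' := FractionRing P'
  let Ω := AlgebraicClosure F'
  let γ : P' →+* Ω := (algebraMap F' Ω).comp (algebraMap P' F')
  have hγ : Function.Injective γ := by
    rw [RingHom.coe_comp]
    exact (algebraMap F' Ω).injective.comp (IsFractionRing.injective P' F')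
  let β : K' →+* Ω := γ.comp MvPolynomial.C
  let φP : MvPolynomial ι K →+* Ω := γ.comp (MvPolynomial.map d)
  have hφP : Function.Injective φP := by
    rw [RingHom.coe_comp]
    exact hγ.comp (MvPolynomial.map_injective d d.injective)
  letI algPL : Algebra (MvPolynomial ι K) L := (MvPolynomial.aeval (R := K) x).toRingHom.toAlgebra
  letI algPΩ : Algebra (MvPolynomial ι K) Ω := φP.toAlgebra
  haveI : Module.IsTorsionFree (MvPolynomial ι K) L := by
    rw [Module.isTorsionFree_iff_algebraMap_injective]
    exact hx.1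
  haveI : Module.IsTorsionFree (MvPolynomial ι K) Ω := by
    rw [Module.isTorsionFree_iff_algebraMap_injective]
    exact hφP
  haveI : Algebra.IsAlgebraic (MvPolynomial ι K) L := ⟨fun l => isAlgebraic_mvPolynomial hx l⟩
  let α₀ : L →ₐ[MvPolynomial ι K] Ω := IsAlgClosed.lift
  have hα : ∀ p : MvPolynomial ι K, α₀ (MvPolynomial.aeval x p) = φP p := fun p => α₀.commutes p
  refine ⟨Ω, inferInstance, α₀.toRingHom, β, ?_, ?_⟩
  · ext k
    have h1 := hα (MvPolynomial.C k)
    simp only [MvPolynomial.aeval_C] at h1
    simp only [RingHom.comp_apply]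
    show α₀ (algebraMap K L k) = β (d k)
    rw [h1]
    show γ (MvPolynomial.map d (MvPolynomial.C k)) = γ (MvPolynomial.C (d k))
    rw [MvPolynomial.map_C]
  · letI := β.toAlgebra
    let ψ' : P' →ₐ[K'] Ω :=
      { γ with
        commutes' := fun k => rfl }
    have h2 : AlgebraicIndependent K' (ψ' ∘ (MvPolynomial.X : ι → P')) :=
      (MvPolynomial.algebraicIndependent_X ι K').map' (f := ψ') hγ
    have h3 : (α₀.toRingHom ∘ x) = ψ' ∘ (MvPolynomial.X : ι → P') := by
      funext i
      have h1 := hα (MvPolynomial.X i)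
      simp only [MvPolynomial.aeval_X] at h1
      show α₀ (x i) = γ (MvPolynomial.X i)
      rw [h1]
      show γ (MvPolynomial.map d (MvPolynomial.X i)) = γ (MvPolynomial.X i)
      rw [MvPolynomial.map_X]
    rw [h3]
    exact h2

end Groth.Agent.H45.ResTrdegAlg
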