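import Groth.Agent.H45.ExtAlong
import Groth.Agent.H45.CohTopPushRestr
import Groth.Agent.H45.LocCohZShift
import Groth.Agent.H5.SpSeq.LocCohZSS
import Groth.Prelude.Def_SuppFam

/-!
# Helper library (helper45): the sheaf of sections with support in a locally closed subset and
the presheaf of `Hom`s out of `ℤ_{V ∩ V'}/ℤ_{W ∩ V'}`
-/

set_option autoImplicit false
universe u
open CategoryTheory CategoryTheory.Limits Opposite TopologicalSpace

namespace Groth.Agent.H45.SectSuppLC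

open Groth.Agent.H45.LocCohZLib Groth.Agent.H5.LocCohZSS Groth.Agent.H45.DeltaIso

section Space

variable {Y : TopCat.{u}} (U : Opens Y)

lemma map_map_eq (F : CohTop.Ab Y) {A B C : Opens Y} (f : A ⟶ B) (g : B ⟶ C) (k : A ⟶ C)
    (s : F.obj.obj (op C)) :
    (F.obj.map f.op).hom ((F.obj.map g.op).hom s) = (F.obj.map k.op).hom s := by
  have hk : f ≫ g = k := Subsingleton.elim _ _
  rw [← hk, op_comp, F.obj.map_comp]
  rfl

/-- The sections of `Γ_Z(G)` over `V''`, as a subgroup of `G(V'')`. -/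
noncomputable def secKerHom (G : CohTop.Ab Y) (V'' : Opens Y) :
    ((LocCohZ.sectSuppF U).obj G).obj.obj (op V'') →+ LocCohZ.sectZ G (interOpen_le U V'') :=
  AddMonoidHom.codRestrict ((ιZ U G).hom.app (op V'')).hom _ (fun s => by
    change (G.obj.map (homOfLE (interOpen_le U V'')).op).hom _ = 0
    refine (unit_app_eq_zero_iff U G V'' _).1 ?_
    have h := congrArg (fun φ : (LocCohZ.sectSuppF U).obj G ⟶ _ => (φ.hom.app (op V'')).hom s)
      (ιZ_η U G)
    exact h)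

lemma secKerHom_val (G : CohTop.Ab Y) (V'' : Opens Y)
    (s : ((LocCohZ.sectSuppF U).obj G).obj.obj (op V'')) :
    (secKerHom U G V'' s).1 = ((ιZ U G).hom.app (op V'')).hom s := rfl

lemma secKerHom_bijective (G : CohTop.Ab Y) (V'' : Opens Y) :
    Function.Bijective (secKerHom U G V'') := by
  constructor
  · intro s t hst
    exact kernel_ι_app_injective ((η U).app G) V'' (congrArg Subtype.val hst)
  · rintro ⟨a, ha⟩
    have ha' : ((η U).app G).hom.app (op V'') a = 0 := (unit_app_eq_zero_iff U G V'' a).2 ha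
    obtain ⟨s, hs⟩ := exists_kernel_lift ((η U).app G) V'' a ha'
    exact ⟨s, Subtype.ext hs⟩

/-- The sections of `Γ_Z(G)` over `V''` are the sections of `G` over `V''` vanishing on `U ∩ V''`. -/
noncomputable def secKer (G : CohTop.Ab Y) (V'' : Opens Y) :
    ((LocCohZ.sectSuppF U).obj G).obj.obj (op V'') ≃+ LocCohZ.sectZ G (interOpen_le U V'') :=
  AddEquiv.ofBijective (secKerHom U G V'') (secKerHom_bijective U G V'')

lemma secKer_val (G : CohTop.Ab Y) (V'' : Opens Y)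
    (s : ((LocCohZ.sectSuppF U).obj G).obj.obj (op V'')) :
    (secKer U G V'' s).1 = ((ιZ U G).hom.app (op V'')).hom s := rfl

/-- Transport of sections with support along equalities of opens. -/
noncomputable def kerCongr (F : CohTop.Ab Y) {A B A' B' : Opens Y} (hAB : A ≤ B) (hAB' : A' ≤ B')
    (eA : A = A') (eB : B = B') : LocCohZ.sectZ F hAB ≃+ LocCohZ.sectZ F hAB' := by
  subst eA eB
  exact AddEquiv.refl _

lemma kerCongr_val (F : CohTop.Ab Y) {A B A' B' : Opens Y} (hAB : A ≤ B) (hAB' : A' ≤ B')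
    (eA : A = A') (eB : B = B') (s : LocCohZ.sectZ F hAB) :
    (kerCongr F hAB hAB' eA eB s).1 = (F.obj.map (homOfLE eB.ge).op).hom s.1 := by
  subst eA eB
  have : homOfLE (le_refl B) = 𝟙 B := rfl
  rw [this, op_id, F.obj.map_id]
  rfl

lemma addEquiv₀_comp_mk₀ {A B C : CohTop.Ab Y} (x : Abelian.Ext A B 0) (φ : B ⟶ C) :
    Abelian.Ext.addEquiv₀ (x.comp (Abelian.Ext.mk₀ φ) (add_zero 0)) =
      Abelian.Ext.addEquiv₀ x ≫ φ := by
  apply Abelian.Ext.addEquiv₀.symm.injective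
  rw [AddEquiv.symm_apply_apply]
  change _ = Abelian.Ext.mk₀ _
  rw [← Abelian.Ext.mk₀_comp_mk₀, Abelian.Ext.mk₀_addEquiv₀_apply]

lemma addEquiv₀_mk₀_comp {A B C : CohTop.Ab Y} (f : A ⟶ B) (x : Abelian.Ext B C 0) :
    Abelian.Ext.addEquiv₀ ((Abelian.Ext.mk₀ f).comp x (zero_add 0)) =
      f ≫ Abelian.Ext.addEquiv₀ x := by
  apply Abelian.Ext.addEquiv₀.symm.injective
  rw [AddEquiv.symm_apply_apply]
  change _ = Abelian.Ext.mk₀ _
  rw [← Abelian.Ext.mk₀_comp_mk₀, Abelian.Ext.mk₀_addEquiv₀_apply]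

/-- Naturality of `sect0Equiv` in the sheaf. -/
lemma sect0Equiv_map {F G : CohTop.Ab Y} (φ : F ⟶ G) {W V : Opens Y} (h : W ≤ V)
    (x : LocCohZ.HZ F 0 h) :
    (LocCohZ.sect0Equiv G h (LocCohZ.map φ 0 h x)).1 =
      (φ.hom.app (op V)).hom (LocCohZ.sect0Equiv F h x).1 := by
  change CohFree.evalGen _ V G (cokernel.π _ ≫ Abelian.Ext.addEquiv₀
    (x.comp (Abelian.Ext.mk₀ φ) (add_zero 0))) = _
  rw [addEquiv₀_comp_mk₀, ← Category.assoc]
  rfl

/-- Naturality of `sect0Equiv` in the pair of opens. -/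
lemma sect0Equiv_resZ (F : CohTop.Ab Y) {W V W' V' : Opens Y} (h : W ≤ V) (h' : W' ≤ V')
    (hW : W' ≤ W) (hV : V' ≤ V) (x : LocCohZ.HZ F 0 h) :
    (LocCohZ.sect0Equiv F h' (LocCohZ.resZ F 0 h h' hW hV x)).1 =
      (F.obj.map (homOfLE hV).op).hom (LocCohZ.sect0Equiv F h x).1 := by
  change CohFree.evalGen _ V' F (cokernel.π _ ≫ Abelian.Ext.addEquiv₀
    ((Abelian.Ext.mk₀ (LocCohZ.zqMap h h' hW hV)).comp x (zero_add 0))) = _
  rw [addEquiv₀_mk₀_comp, ← Category.assoc]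
  have hπ : cokernel.π (CohCx.freeSheafMap (Opens.grothendieckTopology Y) (homOfLE h')) ≫
      LocCohZ.zqMap h h' hW hV =
      CohCx.freeSheafMap (Opens.grothendieckTopology Y) (homOfLE hV) ≫ cokernel.π _ := by
    simp [LocCohZ.zqMap]
  rw [hπ, Category.assoc, CohFree.evalGen_freeSheafMap_comp]
  rfl

end Space

section Main

variable {X : TopCat.{u}} {W V : Opens X} (h : W ≤ V)

include h in
/-- The pair `W ∩ V' ≤ V ∩ V'`. -/
lemma pairLE (V' : Opens X) : W ⊓ V' ≤ V ⊓ V' := inf_le_inf_right V' h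

/-- `V' ↦ ℤ_{V ∩ V'}/ℤ_{W ∩ V'}`. -/
noncomputable def Zfun : Opens X ⥤ CohTop.Ab X where
  obj V' := LocCohZ.zq (pairLE h V')
  map {V'' V'} g := LocCohZ.zqMap (pairLE h V') (pairLE h V'') (inf_le_inf_left W (leOfHom g))
    (inf_le_inf_left V (leOfHom g))
  map_id V' := SuppFam.zqMap_id _
  map_comp f g := (SuppFam.zqMap_comp _ _ _ _ _ _ _).symm

/-- `HZpre` is `extAlong` of `Zfun`. -/
noncomputable def HZpreIso (F : CohTop.Ab X) (q : ℕ) :
    SuppFam.HZpre F q h ≅ (extAlong.{u} (Zfun h) q).obj F :=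
  NatIso.ofComponents (fun V' => Iso.refl _) (fun {V' V''} g => by
    refine AddCommGrpCat.ext fun x => ?_
    rfl)

/-- `V' ∩ V`, as an open of `V`. -/
abbrev VY (V' : Opens X) : Opens (TopCat.of V) := (Opens.map (CohCx.incl V)).obj V'

/-- the image in `X` of an open of `V`. -/
abbrev jV (A : Opens (TopCat.of V)) : Opens X := V.isOpenEmbedding.isOpenMap.functor.obj A

lemma jV_mono {A B : Opens (TopCat.of V)} (hAB : A ≤ B) : jV A ≤ jV B :=
  leOfHom (V.isOpenEmbedding.isOpenMap.functor.map (homOfLE hAB))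

lemma jV_VY (V' : Opens X) : jV (VY (V := V) V') = V ⊓ V' := by
  ext x
  constructor
  · rintro ⟨y, hy, rfl⟩
    exact ⟨y.2, hy⟩
  · rintro ⟨hx, hx'⟩
    exact ⟨⟨x, hx⟩, hx', rfl⟩

include h in
lemma jV_inter (V' : Opens X) :
    jV (interOpen (SuppFam.inOpen V W) (VY (V := V) V')) = W ⊓ V' := by
  ext x
  constructor
  · rintro ⟨y, ⟨z, hz, rfl⟩, rfl⟩
    exact ⟨z.2, hz⟩
  · rintro ⟨hx, hx'⟩
    exact ⟨⟨x, h hx⟩, ⟨⟨⟨x, h hx⟩, hx⟩, hx', rfl⟩, rfl⟩

end Main

end Groth.Agent.H45.SectSuppLC
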