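import Groth.Prelude.Def_CohSite
import Groth.Agent.H45.ExtAdjAcy
import Mathlib.CategoryTheory.Limits.Constructions.LimitsOfProductsAndEqualizers

/-!
# Cohomology of a direct image along a flat continuous functor of sites
-/

set_option autoImplicit false
universe u
open CategoryTheory CategoryTheory.Limits Opposite CategoryTheory.Abelian

namespace Groth.Agent.H45.SitePush

variable {C D : Type u} [SmallCategory C] [SmallCategory D]
  (J : GrothendieckTopology C) (K : GrothendieckTopology D) (u : C ⥤ D) [u.IsContinuous J K]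

/-- The left adjoint of `F ↦ F ∘ u`. -/
noncomputable abbrev pull : Sheaf J AddCommGrpCat.{u} ⥤ Sheaf K AddCommGrpCat.{u} :=
  u.sheafPullback AddCommGrpCat.{u} J K

noncomputable abbrev pullPushAdj : pull J K u ⊣ CohSite.push K J u :=
  u.sheafAdjunctionContinuous AddCommGrpCat.{u} J K

instance : (pull J K u).Additive := (pullPushAdj J K u).left_adjoint_additive

theorem preservesFiniteLimits_pull [RepresentablyFlat u] : PreservesFiniteLimits (pull J K u) :=
  CategoryTheory.Functor.SmallCategories.instPreservesFiniteLimitsSheafSheafPullbackOfRepresentablyFlat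
    _ _ _ _

/-- The inverse image of a constant sheaf is constant (when `u` preserves the terminal object). -/
noncomputable def pullConstIso {T : C} (hT : IsTerminal T) (hT' : IsTerminal (u.obj T)) :
    constantSheaf J AddCommGrpCat.{u} ⋙ pull J K u ≅ constantSheaf K AddCommGrpCat.{u} :=
  (conjugateIsoEquiv (constantSheafAdj K AddCommGrpCat.{u} hT')
    ((constantSheafAdj J AddCommGrpCat.{u} hT).comp (pullPushAdj J K u))).symm (Iso.refl _)

/-- If `F` is acyclic for `F ↦ F ∘ u` then `H^p(C, F ∘ u) ≃+ H^p(D, F)`. -/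
theorem nonempty_H_addEquiv_push [RepresentablyFlat u] {T : C} (hT : IsTerminal T)
    (hT' : IsTerminal (u.obj T)) (F : Sheaf K AddCommGrpCat.{u})
    (h : ∀ i : ℕ, 0 < i → IsZero (((CohSite.push K J u).rightDerived i).obj F)) (p : ℕ) :
    Nonempty (Sheaf.H.{u} ((CohSite.push K J u).obj F) p ≃+ Sheaf.H.{u} F p) := by
  haveI := preservesFiniteLimits_pull J K u
  obtain ⟨e⟩ := ExtAdj.nonempty_ext_addEquiv_of_rightDerived_isZero (pullPushAdj J K u) F h
    ((constantSheaf J AddCommGrpCat.{u}).obj (AddCommGrpCat.of (ULift ℤ))) p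
  exact ⟨((ExtAdj.addEquivOfIsoLeft ((pullConstIso J K u hT hT').app _).symm F p).trans e).symm⟩

end Groth.Agent.H45.SitePush
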