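import Groth.Prelude.Def_SuppFam
import Groth.Prelude.Def_Coh
import Groth.Prelude.Def_CxOX
import Groth.Agent.H45.CohTopOpenPull
import Groth.Agent.H45.GammaZMod
import Groth.Agent.H45.ToSheafColim

/-!
# Helper library (helper45): sections with supports, modules versus abelian sheaves

The forgetful functor `toAb` from `O`-modules to abelian sheaves commutes with restriction to an
open subscheme, direct image, `Γ_Z` (closed `Z`) and `Γ_Z` (locally closed `Z`).
-/

set_option autoImplicit false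
set_option linter.style.haveILetI false
universe v v' u u'
open CategoryTheory AlgebraicGeometry TopologicalSpace

namespace Groth.Agent.H45.ToAbCompare

section Kernels

open CategoryTheory.Limits

variable {C : Type u} [Category.{v} C] {D : Type u'} [Category.{v'} D] [HasZeroMorphisms D]
  {G₁ G₂ H K₁ K₂ : C ⥤ D} (α₁ : G₁ ⟶ H) (α₂ : G₂ ⟶ H) (β₁ : H ⟶ K₁) (β₂ : H ⟶ K₂)

/-- Two subfunctors of `H` which are objectwise kernels of maps with the same kernel are
isomorphic. -/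
noncomputable def natIsoOfKernels
    (w₁ : ∀ X, α₁.app X ≫ β₁.app X = 0) (w₂ : ∀ X, α₂.app X ≫ β₂.app X = 0)
    (h₁ : ∀ X, IsLimit (KernelFork.ofι (α₁.app X) (w₁ X)))
    (h₂ : ∀ X, IsLimit (KernelFork.ofι (α₂.app X) (w₂ X)))
    (w₁₂ : ∀ X, α₁.app X ≫ β₂.app X = 0) (w₂₁ : ∀ X, α₂.app X ≫ β₁.app X = 0) : G₁ ≅ G₂ :=
  haveI : ∀ X, Mono (α₁.app X) := fun X => mono_of_isLimit_fork (h₁ X)
  haveI : ∀ X, Mono (α₂.app X) := fun X => mono_of_isLimit_fork (h₂ X)
  let a : ∀ X, { l : G₁.obj X ⟶ G₂.obj X // l ≫ α₂.app X = α₁.app X } := fun X =>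
    KernelFork.IsLimit.lift' (h₂ X) (α₁.app X) (w₁₂ X)
  let b : ∀ X, { l : G₂.obj X ⟶ G₁.obj X // l ≫ α₁.app X = α₂.app X } := fun X =>
    KernelFork.IsLimit.lift' (h₁ X) (α₂.app X) (w₂₁ X)
  NatIso.ofComponents
    (fun X =>
      { hom := (a X).1
        inv := (b X).1
        hom_inv_id := by
          rw [← cancel_mono (α₁.app X), Category.assoc, (b X).2, (a X).2, Category.id_comp]
        inv_hom_id := by
          rw [← cancel_mono (α₂.app X), Category.assoc, (a X).2, (b X).2, Category.id_comp] })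
    (fun {X Y} f => by
      change G₁.map f ≫ (a Y).1 = (a X).1 ≫ G₂.map f
      rw [← cancel_mono (α₂.app Y), Category.assoc, Category.assoc, (a Y).2, α₂.naturality,
        reassoc_of% (a X).2]
      exact α₁.naturality f)

end Kernels

/-- The underlying abelian sheaf functor. -/
noncomputable abbrev E (X : Scheme.{u}) : X.Modules ⥤ CohTop.Ab X.carrier :=
  SheafOfModules.toSheaf.{u} X.ringCatSheaf

/-- `toAb` commutes with restriction to an open subscheme. -/
noncomputable def cmpRestr (Y : Scheme.{u}) (V : Y.Opens) :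
    Scheme.Modules.restrictFunctor V.ι ⋙ E V.toScheme ≅ E Y ⋙ CohTop.restrFunctor V :=
  NatIso.ofComponents (fun M => Iso.refl _) (by intro M N g; rfl)

/-- `toAb` commutes with the direct image from an open subscheme. -/
noncomputable def cmpPush (Y : Scheme.{u}) (V : Y.Opens) :
    Scheme.Modules.pushforward V.ι ⋙ E Y ≅ E V.toScheme ⋙ CohTop.push (CohCx.incl V) :=
  NatIso.ofComponents (fun M => Iso.refl _) (by intro M N g; rfl)

lemma E_map_unit (T : Scheme.{u}) (U' : T.Opens) (M : T.Modules) :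
    (E T).map ((Scheme.Modules.restrictAdjunction U'.ι).unit.app M) =
      (CohTopOpenPull.restrPushAdj (X := T.carrier) U').unit.app ((E T).obj M) := by
  rfl

section Closed

open CategoryTheory.Limits

variable (T : Scheme.{u}) (U' : T.Opens)

instance : PreservesFiniteLimits (E T) :=
  inferInstanceAs (PreservesFiniteLimits (SheafOfModules.toSheaf.{u} T.ringCatSheaf))

instance : (E T).Additive :=
  inferInstanceAs ((SheafOfModules.toSheaf.{u} T.ringCatSheaf).Additive)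

instance : PreservesFiniteColimits (E T) :=
  Groth.Agent.H45.toSheaf_preservesFiniteColimits T.ringCatSheaf

/-- The unit of the abelian-sheaf adjunction `j⁻¹ ⊣ j_*`. -/
noncomputable abbrev ηab : 𝟭 (CohTop.Ab T.carrier) ⟶
    CohTop.pull (CohCx.incl U') ⋙ CohTop.push (CohCx.incl U') :=
  (TopCat.Sheaf.pullbackPushforwardAdjunction AddCommGrpCat.{u} (CohCx.incl U')).unit

/-- `toAb (Γ_Z M) ⟶ toAb M`. -/
noncomputable def a₁ : DCoh.gammaZ U'.ι ⋙ E T ⟶ E T where
  app M := (E T).map ((CxOX.gammaZι U'.ι).app M)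
  naturality {M N} f := (Functor.whiskerRight (CxOX.gammaZι U'.ι) (E T)).naturality f

/-- `toAb M ⟶ toAb (j_* j^* M)`. -/
noncomputable def b₁ : E T ⟶
    (Scheme.Modules.restrictFunctor U'.ι ⋙ Scheme.Modules.pushforward U'.ι) ⋙ E T where
  app M := (E T).map ((Scheme.Modules.restrictAdjunction U'.ι).unit.app M)
  naturality {M N} f :=
    (Functor.whiskerRight (Scheme.Modules.restrictAdjunction U'.ι).unit (E T)).naturality f

/-- `Γ_Z (toAb M) ⟶ toAb M`. -/
noncomputable def a₂ : E T ⋙ LocCohZ.sectSuppF (X := T.carrier) U' ⟶ E T where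
  app M := kernel.ι ((ηab T U').app ((E T).obj M))
  naturality {M N} f := by
    dsimp [LocCohZ.sectSuppF, kernel.map]
    exact kernel.lift_ι _ _ _

/-- `toAb M ⟶ j_* j⁻¹ (toAb M)`. -/
noncomputable def b₂ : E T ⟶
    E T ⋙ (CohTop.pull (CohCx.incl U') ⋙ CohTop.push (CohCx.incl U')) where
  app M := (ηab T U').app ((E T).obj M)
  naturality {M N} f := (ηab T U').naturality ((E T).map f)

set_option maxHeartbeats 1000000 in
/-- The comparison `j_* j⁻¹ (toAb M) ≅ toAb (j_* j^* M)`. -/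
noncomputable def c (M : T.Modules) :
    (E T ⋙ (CohTop.pull (CohCx.incl U') ⋙ CohTop.push (CohCx.incl U'))).obj M ≅
      ((Scheme.Modules.restrictFunctor U'.ι ⋙ Scheme.Modules.pushforward U'.ι) ⋙ E T).obj M :=
  (CohTop.push (CohCx.incl U')).mapIso
    ((CohTopOpenPull.pullIsoRestr (X := T.carrier) U').app ((E T).obj M))

set_option maxHeartbeats 1000000 in
lemma b₂_comp (M : T.Modules) : (b₂ T U').app M ≫ (c T U' M).hom = (b₁ T U').app M := by
  have h1 := CohTopOpenPull.unit_comp (X := T.carrier) U' ((E T).obj M)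
  have h2 := E_map_unit T U' M
  exact h1.trans h2.symm

lemma w₁ (M : T.Modules) : (a₁ T U').app M ≫ (b₁ T U').app M = 0 := by
  change (E T).map _ ≫ (E T).map _ = 0
  rw [← (E T).map_comp]
  have : (CxOX.gammaZι U'.ι).app M ≫ (Scheme.Modules.restrictAdjunction U'.ι).unit.app M = 0 :=
    kernel.condition _
  rw [this, Functor.map_zero]

lemma w₂ (M : T.Modules) : (a₂ T U').app M ≫ (b₂ T U').app M = 0 :=
  kernel.condition _

lemma w₁₂ (M : T.Modules) : (a₁ T U').app M ≫ (b₂ T U').app M = 0 := by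
  have h := w₁ T U' M
  rw [← b₂_comp, ← Category.assoc] at h
  exact (cancel_mono (c T U' M).hom).1 (h.trans zero_comp.symm)

lemma w₂₁ (M : T.Modules) : (a₂ T U').app M ≫ (b₁ T U').app M = 0 := by
  rw [← b₂_comp, ← Category.assoc, w₂, zero_comp]

/-- `toAb` commutes with `Γ_Z` (closed `Z`). -/
noncomputable def cmpGamma :
    DCoh.gammaZ U'.ι ⋙ E T ≅ E T ⋙ LocCohZ.sectSuppF (X := T.carrier) U' :=
  natIsoOfKernels (a₁ T U') (a₂ T U') (b₁ T U') (b₂ T U') (w₁ T U') (w₂ T U')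
    (fun M => isLimitForkMapOfIsLimit' (E T) (kernel.condition _) (kernelIsKernel _))
    (fun M => kernelIsKernel _) (w₁₂ T U') (w₂₁ T U')

end Closed

section LocallyClosed

variable (Y : Scheme.{u}) {V₂ V₁ : Y.Opens} (h : V₂ ≤ V₁)

/-- The open `V₂ ∩ V₁` of the open subscheme `V₁`. -/
abbrev inOpenSch (V₁ V₂ : Y.Opens) : V₁.toScheme.Opens := V₁.ι ⁻¹ᵁ V₂

/-- Sections with support in the locally closed `Z = V₁ ∖ V₂`, for `O_Y`-modules. -/
noncomputable def gammaLC (V₁ V₂ : Y.Opens) : Y.Modules ⥤ Y.Modules :=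
  Scheme.Modules.restrictFunctor V₁.ι ⋙ DCoh.gammaZ (inOpenSch Y V₁ V₂).ι ⋙
    Scheme.Modules.pushforward V₁.ι

/-- `toAb` commutes with `Γ_Z` (locally closed `Z`). -/
noncomputable def cmpLC : gammaLC Y V₁ V₂ ⋙ E Y ≅ E Y ⋙ SuppFam.sectSuppLC (X := Y.carrier) h :=
  (Functor.isoWhiskerLeft
      (Scheme.Modules.restrictFunctor V₁.ι ⋙ DCoh.gammaZ (inOpenSch Y V₁ V₂).ι)
      (cmpPush Y V₁) :
    (Scheme.Modules.restrictFunctor V₁.ι ⋙ DCoh.gammaZ (inOpenSch Y V₁ V₂).ι) ⋙
        (Scheme.Modules.pushforward V₁.ι ⋙ E Y) ≅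
      (Scheme.Modules.restrictFunctor V₁.ι ⋙ DCoh.gammaZ (inOpenSch Y V₁ V₂).ι) ⋙
        (E V₁.toScheme ⋙ CohTop.push (CohCx.incl V₁))) ≪≫
  (Functor.isoWhiskerLeft (Scheme.Modules.restrictFunctor V₁.ι)
      (Functor.isoWhiskerRight (cmpGamma V₁.toScheme (inOpenSch Y V₁ V₂))
        (CohTop.push (CohCx.incl V₁))) :
    Scheme.Modules.restrictFunctor V₁.ι ⋙
        ((DCoh.gammaZ (inOpenSch Y V₁ V₂).ι ⋙ E V₁.toScheme) ⋙ CohTop.push (CohCx.incl V₁)) ≅
      Scheme.Modules.restrictFunctor V₁.ι ⋙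
        ((E V₁.toScheme ⋙ LocCohZ.sectSuppF (X := TopCat.of V₁) (SuppFam.inOpen V₁ V₂)) ⋙
          CohTop.push (CohCx.incl V₁))) ≪≫
  (Functor.isoWhiskerRight (cmpRestr Y V₁)
      (LocCohZ.sectSuppF (X := TopCat.of V₁) (SuppFam.inOpen V₁ V₂) ⋙
        CohTop.push (CohCx.incl V₁)) :
    (Scheme.Modules.restrictFunctor V₁.ι ⋙ E V₁.toScheme) ⋙
        (LocCohZ.sectSuppF (X := TopCat.of V₁) (SuppFam.inOpen V₁ V₂) ⋙
          CohTop.push (CohCx.incl V₁)) ≅
      (E Y ⋙ CohTop.restrFunctor V₁) ⋙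
        (LocCohZ.sectSuppF (X := TopCat.of V₁) (SuppFam.inOpen V₁ V₂) ⋙
          CohTop.push (CohCx.incl V₁)))

end LocallyClosed

end Groth.Agent.H45.ToAbCompare
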