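import Groth.Agent.H45.EquivPlus

/-!
# Unit and counit of `L ⊣ R` on bounded below objects, where `L` is induced by an exact functor
-/

set_option autoImplicit false
universe w w' v v' u u'
open CategoryTheory CategoryTheory.Limits Pretriangulated

namespace Groth.Agent.H45

open DerivedCategory DerivedCategory.TStructure

variable {A' : Type u'} [Category.{v'} A'] [Abelian A'] [HasDerivedCategory.{w'} A']
  {A : Type u} [Category.{v} A] [Abelian A] [HasDerivedCategory.{w} A]
  (F : A' ⥤ A) [F.Additive] [PreservesFiniteLimits F] [PreservesFiniteColimits F]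

/-- If the unit of `L ⊣ R` is an isomorphism on all cohomology objects of a bounded below `Y`,
it is an isomorphism on `Y`. -/
theorem isIso_unit_of_isGE
    (R : DerivedCategory A ⥤ DerivedCategory A') (adj : F.mapDerivedCategory ⊣ R)
    (Y : DerivedCategory A') (n₀ : ℤ) (hY : Y.IsGE n₀)
    (h3 : ∀ q : ℤ, IsIso (adj.unit.app
      ((singleFunctor A' 0).obj ((homologyFunctor A' q).obj Y)))) :
    IsIso (adj.unit.app Y) := by
  letI : R.CommShift ℤ := adj.rightAdjointCommShift ℤ
  haveI : adj.CommShift ℤ := adj.commShift_of_leftAdjoint ℤ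
  haveI : R.IsTriangulated := adj.isTriangulated_rightAdjoint
  have hLGE : ∀ (Y : DerivedCategory A') (n : ℤ), Y.IsGE n →
      (F.mapDerivedCategory.obj Y).IsGE n := isGE_mapDerivedCategory F
  have hLLE : ∀ (Y : DerivedCategory A') (n : ℤ), Y.IsLE n →
      (F.mapDerivedCategory.obj Y).IsLE n := isLE_mapDerivedCategory F
  have hRGE : ∀ (X : DerivedCategory A) (n : ℤ), X.IsGE n → (R.obj X).IsGE n :=
    isGE_rightAdjoint adj hLLE
  let P : ObjectProperty A' := fun M => IsIso (adj.unit.app ((singleFunctor A' 0).obj M))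
  haveI : P.IsClosedUnderIsomorphisms :=
    ⟨fun {M M'} e h => H56.isIso_app_of_iso adj.unit ((singleFunctor A' 0).mapIso e) h⟩
  haveI := hY
  exact wayOut_right P (𝟭 _) (F.mapDerivedCategory ⋙ R) adj.unit
    (fun n => ⟨n, fun Y h => h⟩)
    (fun n => ⟨n, fun Y h => hRGE _ n (hLGE Y n h)⟩) (fun M hM => hM) Y n₀ h3

/-- If the counit of `L ⊣ R` is an isomorphism on all cohomology objects of a bounded below `X`,
it is an isomorphism on `X`. -/
theorem isIso_counit_of_isGE
    (R : DerivedCategory A ⥤ DerivedCategory A') (adj : F.mapDerivedCategory ⊣ R)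
    (X : DerivedCategory A) (n₀ : ℤ) (hX : X.IsGE n₀)
    (h3 : ∀ q : ℤ, IsIso (adj.counit.app
      ((singleFunctor A 0).obj ((homologyFunctor A q).obj X)))) :
    IsIso (adj.counit.app X) := by
  letI : R.CommShift ℤ := adj.rightAdjointCommShift ℤ
  haveI : adj.CommShift ℤ := adj.commShift_of_leftAdjoint ℤ
  haveI : R.IsTriangulated := adj.isTriangulated_rightAdjoint
  have hLGE : ∀ (Y : DerivedCategory A') (n : ℤ), Y.IsGE n →
      (F.mapDerivedCategory.obj Y).IsGE n := isGE_mapDerivedCategory F
  have hLLE : ∀ (Y : DerivedCategory A') (n : ℤ), Y.IsLE n →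
      (F.mapDerivedCategory.obj Y).IsLE n := isLE_mapDerivedCategory F
  have hRGE : ∀ (X : DerivedCategory A) (n : ℤ), X.IsGE n → (R.obj X).IsGE n :=
    isGE_rightAdjoint adj hLLE
  let P : ObjectProperty A := fun M => IsIso (adj.counit.app ((singleFunctor A 0).obj M))
  haveI : P.IsClosedUnderIsomorphisms :=
    ⟨fun {M M'} e h => H56.isIso_app_of_iso adj.counit ((singleFunctor A 0).mapIso e) h⟩
  haveI := hX
  exact wayOut_right P (R ⋙ F.mapDerivedCategory) (𝟭 _) adj.counit
    (fun n => ⟨n, fun Y h => hLGE _ n (hRGE Y n h)⟩)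
    (fun n => ⟨n, fun Y h => h⟩) (fun M hM => hM) X n₀ h3

end Groth.Agent.H45
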