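import Groth.Agent.H56.WayOut

/-!
# Way-out lemmas on derived categories (unbounded versions) and a general bounded dévissage

Builds on `Groth.Agent.H56.WayOut` (helper56).
-/

set_option autoImplicit false
universe w w' v v' u u'
open CategoryTheory CategoryTheory.Limits Pretriangulated

namespace Groth.Agent.H45

open DerivedCategory DerivedCategory.TStructure

variable {A : Type u} [Category.{v} A] [Abelian A] [HasDerivedCategory.{w} A]
  {B : Type u'} [Category.{v'} B] [Abelian B] [HasDerivedCategory.{w'} B]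

/-- If `F (τ≥c X)` is `≥ j+1`, then `H^j(F(τ<c X)) ⟶ H^j(F X)` is an isomorphism. -/
lemma isIso_homologyMap_map_truncLTι (F : DerivedCategory A ⥤ DerivedCategory B)
    [F.CommShift ℤ] [F.IsTriangulated] (X : DerivedCategory A) (c j : ℤ)
    (h : (F.obj ((t.truncGE c).obj X)).IsGE (j + 1)) :
    IsIso ((homologyFunctor B j).map (F.map ((t.truncLTι c).app X))) := by
  have hT := F.map_distinguished _ (t.triangleLTGE_distinguished c X)
  haveI := h
  exact H56.isIso_homologyMap_mor₁ _ hT j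
    (isZero_of_isGE (F.obj ((t.truncGE c).obj X)) (j + 1) j (by omega))
    (isZero_of_isGE (F.obj ((t.truncGE c).obj X)) (j + 1) (j - 1) (by omega))

/-- If `F (τ<c X)` is `≤ j-1`, then `H^j(F X) ⟶ H^j(F (τ≥c X))` is an isomorphism. -/
lemma isIso_homologyMap_map_truncGEπ (F : DerivedCategory A ⥤ DerivedCategory B)
    [F.CommShift ℤ] [F.IsTriangulated] (X : DerivedCategory A) (c j : ℤ)
    (h : (F.obj ((t.truncLT c).obj X)).IsLE (j - 1)) :
    IsIso ((homologyFunctor B j).map (F.map ((t.truncGEπ c).app X))) := by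
  have hT := F.map_distinguished _ (t.triangleLTGE_distinguished c X)
  haveI := h
  exact H56.isIso_homologyMap_mor₂ _ hT j
    (isZero_of_isLE (F.obj ((t.truncLT c).obj X)) (j - 1) j (by omega))
    (isZero_of_isLE (F.obj ((t.truncLT c).obj X)) (j - 1) (j + 1) (by omega))

/-- cohomology of `τ<c X` lies in `P` when that of `X` does (and `P` contains zero objects). -/
lemma prop_homology_truncLT (P : ObjectProperty A) [P.IsClosedUnderIsomorphisms]
    (hzero : ∀ Z : A, IsZero Z → P Z) (X : DerivedCategory A) (c : ℤ)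
    (hX : ∀ i : ℤ, P ((homologyFunctor A i).obj X)) (i : ℤ) :
    P ((homologyFunctor A i).obj ((t.truncLT c).obj X)) := by
  by_cases hi : i < c
  · have := H56.isIso_homologyMap_truncLTι X c i hi
    exact P.prop_of_iso (asIso ((homologyFunctor A i).map ((t.truncLTι c).app X))).symm (hX i)
  · have h1LE : ((t.truncLT c).obj X).IsLE (c - 1) :=
      inferInstanceAs (t.IsLE ((t.truncLT c).obj X) (c - 1))
    exact hzero _ (isZero_of_isLE ((t.truncLT c).obj X) (c - 1) i (by omega))

/-- cohomology of `τ≥c X` lies in `P` when that of `X` does (and `P` contains zero objects). -/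
lemma prop_homology_truncGE (P : ObjectProperty A) [P.IsClosedUnderIsomorphisms]
    (hzero : ∀ Z : A, IsZero Z → P Z) (X : DerivedCategory A) (c : ℤ)
    (hX : ∀ i : ℤ, P ((homologyFunctor A i).obj X)) (i : ℤ) :
    P ((homologyFunctor A i).obj ((t.truncGE c).obj X)) := by
  by_cases hi : c ≤ i
  · have hiso := H56.isIso_homologyMap_truncGEπ X c i hi
    exact P.prop_of_iso (@asIso _ _ _ _ _ hiso) (hX i)
  · have h3GE : ((t.truncGE c).obj X).IsGE c :=
      inferInstanceAs (t.IsGE ((t.truncGE c).obj X) c)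
    exact hzero _ (isZero_of_isGE ((t.truncGE c).obj X) c i (by omega))

/-- General dévissage for bounded objects: a property `Q` of objects of `D(A)` which holds
for all shifted single objects with `P`, and is closed under extensions in distinguished triangles,
holds for all bounded objects with cohomology in `P`. -/
theorem devissage_bounded (P : ObjectProperty A) [P.IsClosedUnderIsomorphisms]
    (Q : ObjectProperty (DerivedCategory A)) [Q.IsClosedUnderIsomorphisms]
    (hsingle : ∀ (M : A) (j : ℤ), P M → Q ((singleFunctor A j).obj M))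
    (hext : ∀ T : Triangle (DerivedCategory A), T ∈ distTriang _ →
      Q T.obj₁ → Q T.obj₃ → Q T.obj₂) :
    ∀ (n : ℕ) (X : DerivedCategory A) (a b : ℤ), b ≤ a + n → X.IsGE a → X.IsLE b →
      (∀ i : ℤ, P ((homologyFunctor A i).obj X)) → Q X := by
  intro n
  induction n with
  | zero =>
    intro X a b hab _ _ hX
    have : X.IsLE a := t.isLE_of_le X b a (by simpa using hab)
    obtain ⟨e⟩ := H56.nonempty_iso_single X a
    exact Q.prop_of_iso e.symm (hsingle _ a (hX a))
  | succ n ih =>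
    intro X a b hab _ _ hX
    have hzero : ∀ Z : A, IsZero Z → P Z := fun Z hZ =>
      P.prop_of_iso ((isZero_of_isLE X b (b + 1) (by omega)).iso hZ) (hX (b + 1))
    have hT := t.triangleLTGE_distinguished (a + 1) X
    have h1GE : ((t.truncLT (a + 1)).obj X).IsGE a :=
      inferInstanceAs (t.IsGE ((t.truncLT (a + 1)).obj X) a)
    have h1LE : ((t.truncLT (a + 1)).obj X).IsLE a :=
      inferInstanceAs (t.IsLE ((t.truncLT (a + 1)).obj X) a)
    have h3GE : ((t.truncGE (a + 1)).obj X).IsGE (a + 1) :=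
      inferInstanceAs (t.IsGE ((t.truncGE (a + 1)).obj X) (a + 1))
    have h3LE : ((t.truncGE (a + 1)).obj X).IsLE b :=
      inferInstanceAs (t.IsLE ((t.truncGE (a + 1)).obj X) b)
    refine hext _ hT ?_ ?_
    · exact ih _ a a (by omega) h1GE h1LE (prop_homology_truncLT P hzero X (a + 1) hX)
    · exact ih _ (a + 1) b (by push_cast at hab; omega) h3GE h3LE
        (prop_homology_truncGE P hzero X (a + 1) hX)

/-- `devissage_bounded` without the induction parameter. -/
theorem devissage_bounded' (P : ObjectProperty A) [P.IsClosedUnderIsomorphisms]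
    (Q : ObjectProperty (DerivedCategory A)) [Q.IsClosedUnderIsomorphisms]
    (hsingle : ∀ (M : A) (j : ℤ), P M → Q ((singleFunctor A j).obj M))
    (hext : ∀ T : Triangle (DerivedCategory A), T ∈ distTriang _ →
      Q T.obj₁ → Q T.obj₃ → Q T.obj₂)
    (X : DerivedCategory A) (a b : ℤ) (hGE : X.IsGE a) (hLE : X.IsLE b)
    (hX : ∀ i : ℤ, P ((homologyFunctor A i).obj X)) : Q X :=
  devissage_bounded P Q hsingle hext (b - a).toNat X a b (by omega) hGE hLE hX

/-- Way-out right: a natural transformation between way-out right triangulated functors which is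
an isomorphism on bounded objects with cohomology in `P` is an isomorphism on bounded below
objects with cohomology in `P`. -/
theorem wayOutRight_of_bounded (P : ObjectProperty A) [P.IsClosedUnderIsomorphisms]
    (F G : DerivedCategory A ⥤ DerivedCategory B) [F.CommShift ℤ] [G.CommShift ℤ]
    [F.IsTriangulated] [G.IsTriangulated] (η : F ⟶ G)
    (hF : ∀ n₁ : ℤ, ∃ n₂ : ℤ, ∀ Y : DerivedCategory A, Y.IsGE n₂ → (F.obj Y).IsGE n₁)
    (hG : ∀ n₁ : ℤ, ∃ n₂ : ℤ, ∀ Y : DerivedCategory A, Y.IsGE n₂ → (G.obj Y).IsGE n₁)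
    (hb : ∀ (X : DerivedCategory A) (a b : ℤ), X.IsGE a → X.IsLE b →
      (∀ i : ℤ, P ((homologyFunctor A i).obj X)) → IsIso (η.app X))
    (X : DerivedCategory A) (a : ℤ) [X.IsGE a]
    (hX : ∀ i : ℤ, P ((homologyFunctor A i).obj X)) : IsIso (η.app X) := by
  rw [isIso_iff]
  intro j
  obtain ⟨nF, hnF⟩ := hF (j + 1)
  obtain ⟨nG, hnG⟩ := hG (j + 1)
  obtain ⟨c, hc1, hc2⟩ : ∃ c : ℤ, nF ≤ c ∧ nG ≤ c :=
    ⟨max nF nG, le_max_left _ _, le_max_right _ _⟩
  have hzero : ∀ Z : A, IsZero Z → P Z := fun Z hZ =>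
    P.prop_of_iso ((isZero_of_isGE X a (a - 1) (by omega)).iso hZ) (hX (a - 1))
  have h3GE : ((t.truncGE c).obj X).IsGE c :=
    inferInstanceAs (t.IsGE ((t.truncGE c).obj X) c)
  have hFc : (F.obj ((t.truncGE c).obj X)).IsGE (j + 1) :=
    hnF _ (t.isGE_of_ge _ nF c hc1)
  have hGc : (G.obj ((t.truncGE c).obj X)).IsGE (j + 1) :=
    hnG _ (t.isGE_of_ge _ nG c hc2)
  have h1 := isIso_homologyMap_map_truncLTι F X c j hFc
  have h2 := isIso_homologyMap_map_truncLTι G X c j hGc
  have h1GE : ((t.truncLT c).obj X).IsGE a :=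
    inferInstanceAs (t.IsGE ((t.truncLT c).obj X) a)
  have h1LE : ((t.truncLT c).obj X).IsLE (c - 1) :=
    inferInstanceAs (t.IsLE ((t.truncLT c).obj X) (c - 1))
  have h3 : IsIso (η.app ((t.truncLT c).obj X)) :=
    hb _ a (c - 1) h1GE h1LE (prop_homology_truncLT P hzero X c hX)
  have nat : F.map ((t.truncLTι c).app X) ≫ η.app X =
      η.app ((t.truncLT c).obj X) ≫ G.map ((t.truncLTι c).app X) :=
    η.naturality ((t.truncLTι c).app X)
  have nat' : (homologyFunctor B j).map (F.map ((t.truncLTι c).app X)) ≫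
      (homologyFunctor B j).map (η.app X) =
      (homologyFunctor B j).map (η.app ((t.truncLT c).obj X)) ≫
        (homologyFunctor B j).map (G.map ((t.truncLTι c).app X)) := by
    rw [← Functor.map_comp, ← Functor.map_comp, nat]
  have : (homologyFunctor B j).map (η.app X) =
      inv ((homologyFunctor B j).map (F.map ((t.truncLTι c).app X))) ≫
        (homologyFunctor B j).map (η.app ((t.truncLT c).obj X)) ≫
          (homologyFunctor B j).map (G.map ((t.truncLTι c).app X)) := by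
    rw [← nat', IsIso.inv_hom_id_assoc]
  rw [this]
  infer_instance

/-- Way-out left: the dual of `wayOutRight_of_bounded`. -/
theorem wayOutLeft_of_bounded (P : ObjectProperty A) [P.IsClosedUnderIsomorphisms]
    (F G : DerivedCategory A ⥤ DerivedCategory B) [F.CommShift ℤ] [G.CommShift ℤ]
    [F.IsTriangulated] [G.IsTriangulated] (η : F ⟶ G)
    (hF : ∀ n₁ : ℤ, ∃ n₂ : ℤ, ∀ Y : DerivedCategory A, Y.IsLE n₂ → (F.obj Y).IsLE n₁)
    (hG : ∀ n₁ : ℤ, ∃ n₂ : ℤ, ∀ Y : DerivedCategory A, Y.IsLE n₂ → (G.obj Y).IsLE n₁)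
    (hb : ∀ (X : DerivedCategory A) (a b : ℤ), X.IsGE a → X.IsLE b →
      (∀ i : ℤ, P ((homologyFunctor A i).obj X)) → IsIso (η.app X))
    (X : DerivedCategory A) (b : ℤ) [X.IsLE b]
    (hX : ∀ i : ℤ, P ((homologyFunctor A i).obj X)) : IsIso (η.app X) := by
  rw [isIso_iff]
  intro j
  obtain ⟨nF, hnF⟩ := hF (j - 1)
  obtain ⟨nG, hnG⟩ := hG (j - 1)
  obtain ⟨c, hc1, hc2⟩ : ∃ c : ℤ, c - 1 ≤ nF ∧ c - 1 ≤ nG :=
    ⟨min nF nG + 1, by simp, by simp⟩
  have hzero : ∀ Z : A, IsZero Z → P Z := fun Z hZ =>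
    P.prop_of_iso ((isZero_of_isLE X b (b + 1) (by omega)).iso hZ) (hX (b + 1))
  have h1LE : ((t.truncLT c).obj X).IsLE (c - 1) :=
    inferInstanceAs (t.IsLE ((t.truncLT c).obj X) (c - 1))
  have hFc : (F.obj ((t.truncLT c).obj X)).IsLE (j - 1) :=
    hnF _ (t.isLE_of_le _ (c - 1) nF hc1)
  have hGc : (G.obj ((t.truncLT c).obj X)).IsLE (j - 1) :=
    hnG _ (t.isLE_of_le _ (c - 1) nG hc2)
  have h1 := isIso_homologyMap_map_truncGEπ F X c j hFc
  have h2 := isIso_homologyMap_map_truncGEπ G X c j hGc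
  have h3GE : ((t.truncGE c).obj X).IsGE c :=
    inferInstanceAs (t.IsGE ((t.truncGE c).obj X) c)
  have h3LE : ((t.truncGE c).obj X).IsLE b :=
    inferInstanceAs (t.IsLE ((t.truncGE c).obj X) b)
  have h3 : IsIso (η.app ((t.truncGE c).obj X)) :=
    hb _ c b h3GE h3LE (prop_homology_truncGE P hzero X c hX)
  have nat : F.map ((t.truncGEπ c).app X) ≫ η.app ((t.truncGE c).obj X) =
      η.app X ≫ G.map ((t.truncGEπ c).app X) :=
    η.naturality ((t.truncGEπ c).app X)
  have nat' : (homologyFunctor B j).map (F.map ((t.truncGEπ c).app X)) ≫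
      (homologyFunctor B j).map (η.app ((t.truncGE c).obj X)) =
      (homologyFunctor B j).map (η.app X) ≫
        (homologyFunctor B j).map (G.map ((t.truncGEπ c).app X)) := by
    rw [← Functor.map_comp, ← Functor.map_comp, nat]
  have : (homologyFunctor B j).map (η.app X) =
      ((homologyFunctor B j).map (F.map ((t.truncGEπ c).app X)) ≫
        (homologyFunctor B j).map (η.app ((t.truncGE c).obj X))) ≫
          inv ((homologyFunctor B j).map (G.map ((t.truncGEπ c).app X))) := by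
    rw [nat', Category.assoc, IsIso.hom_inv_id, Category.comp_id]
  rw [this]
  infer_instance

/-- Way-out right lemma for bounded below objects (singles version). -/
theorem wayOut_right (P : ObjectProperty A) [P.IsClosedUnderIsomorphisms]
    (F G : DerivedCategory A ⥤ DerivedCategory B) [F.CommShift ℤ] [G.CommShift ℤ]
    [F.IsTriangulated] [G.IsTriangulated] (η : F ⟶ G) [NatTrans.CommShift η ℤ]
    (hF : ∀ n₁ : ℤ, ∃ n₂ : ℤ, ∀ Y : DerivedCategory A, Y.IsGE n₂ → (F.obj Y).IsGE n₁)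
    (hG : ∀ n₁ : ℤ, ∃ n₂ : ℤ, ∀ Y : DerivedCategory A, Y.IsGE n₂ → (G.obj Y).IsGE n₁)
    (hη : ∀ X : A, P X → IsIso (η.app ((singleFunctor A 0).obj X)))
    (X : DerivedCategory A) (a : ℤ) [X.IsGE a]
    (hX : ∀ i : ℤ, P ((homologyFunctor A i).obj X)) : IsIso (η.app X) :=
  wayOutRight_of_bounded P F G η hF hG
    (fun X a b hGE hLE hX =>
      H56.wayOut_bounded P F G η hη (b - a).toNat X a b (by omega) hGE hLE hX) X a hX

/-- Way-out left lemma for bounded above objects (singles version). -/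
theorem wayOut_left (P : ObjectProperty A) [P.IsClosedUnderIsomorphisms]
    (F G : DerivedCategory A ⥤ DerivedCategory B) [F.CommShift ℤ] [G.CommShift ℤ]
    [F.IsTriangulated] [G.IsTriangulated] (η : F ⟶ G) [NatTrans.CommShift η ℤ]
    (hF : ∀ n₁ : ℤ, ∃ n₂ : ℤ, ∀ Y : DerivedCategory A, Y.IsLE n₂ → (F.obj Y).IsLE n₁)
    (hG : ∀ n₁ : ℤ, ∃ n₂ : ℤ, ∀ Y : DerivedCategory A, Y.IsLE n₂ → (G.obj Y).IsLE n₁)
    (hη : ∀ X : A, P X → IsIso (η.app ((singleFunctor A 0).obj X)))
    (X : DerivedCategory A) (b : ℤ) [X.IsLE b]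
    (hX : ∀ i : ℤ, P ((homologyFunctor A i).obj X)) : IsIso (η.app X) :=
  wayOutLeft_of_bounded P F G η hF hG
    (fun X a b hGE hLE hX =>
      H56.wayOut_bounded P F G η hη (b - a).toNat X a b (by omega) hGE hLE hX) X b hX

/-- Way-out lemma in both directions. -/
theorem wayOut_both (P : ObjectProperty A) [P.IsClosedUnderIsomorphisms]
    (hP : ∀ Z : A, IsZero Z → P Z)
    (F G : DerivedCategory A ⥤ DerivedCategory B) [F.CommShift ℤ] [G.CommShift ℤ]
    [F.IsTriangulated] [G.IsTriangulated] (η : F ⟶ G) [NatTrans.CommShift η ℤ]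
    (hF : ∀ n₁ : ℤ, ∃ n₂ : ℤ, ∀ Y : DerivedCategory A, Y.IsGE n₂ → (F.obj Y).IsGE n₁)
    (hF' : ∀ n₁ : ℤ, ∃ n₂ : ℤ, ∀ Y : DerivedCategory A, Y.IsLE n₂ → (F.obj Y).IsLE n₁)
    (hG : ∀ n₁ : ℤ, ∃ n₂ : ℤ, ∀ Y : DerivedCategory A, Y.IsGE n₂ → (G.obj Y).IsGE n₁)
    (hG' : ∀ n₁ : ℤ, ∃ n₂ : ℤ, ∀ Y : DerivedCategory A, Y.IsLE n₂ → (G.obj Y).IsLE n₁)
    (hη : ∀ X : A, P X → IsIso (η.app ((singleFunctor A 0).obj X)))
    (X : DerivedCategory A)
    (hX : ∀ i : ℤ, P ((homologyFunctor A i).obj X)) : IsIso (η.app X) := by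
  have hT := t.triangleLTGE_distinguished 0 X
  have h1LE : ((t.truncLT 0).obj X).IsLE (0 - 1) :=
    inferInstanceAs (t.IsLE ((t.truncLT 0).obj X) (0 - 1))
  have h3GE : ((t.truncGE 0).obj X).IsGE 0 :=
    inferInstanceAs (t.IsGE ((t.truncGE 0).obj X) 0)
  refine H56.isIso_app_obj₂_of_distTriang η _ hT ?_ ?_
  · exact wayOut_left P F G η hF' hG' hη _ (0 - 1) (prop_homology_truncLT P hP X 0 hX)
  · exact wayOut_right P F G η hF hG hη _ 0 (prop_homology_truncGE P hP X 0 hX)

end Groth.Agent.H45
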